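import Groth.Agent.RelPC.PnPush.PushPC
import Groth.Agent.DerivedCoh.PerfPush.OpenSupp
import Groth.Agent.RelPC.Comp

/-!
The projection of projective space over any base preserves perfect and pseudo-coherent objects.
-/

set_option linter.style.haveILetI false

universe u

open CategoryTheory CategoryTheory.Limits Pretriangulated AlgebraicGeometry

namespace Groth.RelPC.PnPush

open Groth.DerivedCoh

attribute [local instance] HasDerivedCategory.standard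

variable {X Y : Scheme.{u}}

/-- `R(1)_* = 1` -/
theorem nonempty_Rpush_id (X : Scheme.{u}) [DCoh.HasRpush (𝟙 X)] :
    Nonempty (DCoh.Rpush (𝟙 X) ≅ 𝟭 (DCoh.D X)) := by
  let up := ComplexShape.up ℤ
  have h : ∀ K, IsIso ((Functor.whiskerRight (KFlat.kresAug X) (KFlat.L₀ X)).app K) := fun K =>
    KFlat.isIso_L₀_map ((KFlat.kresAug X).app K)
  haveI := NatIso.isIso_of_isIso_app (Functor.whiskerRight (KFlat.kresAug X) (KFlat.L₀ X))
  let p : KFlat.pushCx (𝟙 X) ≅ 𝟭 _ :=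
    NatIso.mapHomologicalComplex (Scheme.Modules.pushforwardId X) up ≪≫
      Functor.mapHomologicalComplexIdIso X.Modules up
  let e : KFlat.L₀ X ⋙ DCoh.Rpush (𝟙 X) ≅ KFlat.L₀ X ⋙ 𝟭 (DCoh.D X) :=
    KFlat.RpushResIso (𝟙 X) ≪≫
      Functor.isoWhiskerLeft (KFlat.kres X) (Functor.isoWhiskerRight p (KFlat.L₀ X) ≪≫ Functor.leftUnitor _) ≪≫
      (asIso (Functor.whiskerRight (KFlat.kresAug X) (KFlat.L₀ X))).symm ≪≫ Functor.leftUnitor _ ≪≫
      (Functor.rightUnitor _).symm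
  exact ⟨Localization.liftNatIso (KFlat.L₀ X) (HomologicalComplex.quasiIso X.Modules up)
    (KFlat.L₀ X ⋙ DCoh.Rpush (𝟙 X)) (KFlat.L₀ X ⋙ 𝟭 (DCoh.D X)) _ _ e⟩

theorem nonempty_Rpush_congr {f g : X ⟶ Y} (h : f = g) [DCoh.HasRpush f] [DCoh.HasRpush g]
    (E : DCoh.D X) : Nonempty ((DCoh.Rpush f).obj E ≅ (DCoh.Rpush g).obj E) := by
  subst h
  exact ⟨Iso.refl _⟩

/-- objects are derived direct images of their inverse images along isomorphisms -/
theorem nonempty_Rpush_Lpull_iso (e : X ≅ Y) [DCoh.HasRpush e.hom] [DCoh.HasLpull e.hom] (E : DCoh.D Y) :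
    Nonempty ((DCoh.Rpush e.hom).obj ((DCoh.Lpull e.hom).obj E) ≅ E) := by
  haveI : DCoh.HasRpush e.inv := Groth.Misc4.PushRestrict.hasRightDerived _
  haveI : DCoh.HasRpush (e.hom ≫ e.inv) := Groth.Misc4.PushRestrict.hasRightDerived _
  haveI : DCoh.HasRpush (e.inv ≫ e.hom) := Groth.Misc4.PushRestrict.hasRightDerived _
  haveI : DCoh.HasRpush (𝟙 X) := Groth.Misc4.PushRestrict.hasRightDerived _
  haveI : DCoh.HasRpush (𝟙 Y) := Groth.Misc4.PushRestrict.hasRightDerived _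
  obtain ⟨a⟩ := KFlat.Rpush_comp_iso e.hom e.inv
  obtain ⟨b⟩ := KFlat.Rpush_comp_iso e.inv e.hom
  obtain ⟨iX⟩ := nonempty_Rpush_id X
  obtain ⟨iY⟩ := nonempty_Rpush_id Y
  let η : 𝟭 (DCoh.D X) ≅ DCoh.Rpush e.hom ⋙ DCoh.Rpush e.inv :=
    iX.symm ≪≫ eqToIso (by congr 1; exact e.hom_inv_id.symm) ≪≫ a.symm
  let ε : DCoh.Rpush e.inv ⋙ DCoh.Rpush e.hom ≅ 𝟭 (DCoh.D Y) :=
    b ≪≫ eqToIso (by congr 1; exact e.inv_hom_id) ≪≫ iY
  haveI : (DCoh.Rpush e.hom).IsEquivalence :=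
    (CategoryTheory.Equivalence.mk (DCoh.Rpush e.hom) (DCoh.Rpush e.inv) η ε).isEquivalence_functor
  let adj := PushPull.lpullRpushAdj e.hom
  let R := DCoh.Rpush e.hom
  let G := R.objPreimage E
  let i : R.obj G ≅ E := R.objObjPreimageIso E
  haveI : IsIso (adj.counit.app G) := inferInstance
  exact ⟨R.mapIso ((DCoh.Lpull e.hom).mapIso i.symm ≪≫ asIso (adj.counit.app G)) ≪≫ i⟩

/-- `f ⁻¹ V` is projective space over `V` -/
theorem exists_iso_preimage (r : ℕ) (T : Scheme.{u}) (V : T.Opens) :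
    ∃ e : KRR.PY r (V : Scheme.{u}) ≅ ((KRR.pr r T ⁻¹ᵁ V : (KRR.PY r T).Opens) : Scheme.{u}),
      e.hom ≫ (KRR.pr r T ∣_ V) = KRR.pr r (V : Scheme.{u}) := by
  have h : IsPullback ((KRR.pr r T ⁻¹ᵁ V).ι ≫
      pullback.fst (CohB1.ProjSpace.toSpec r (ULift.{u} ℤ)) (specULiftZIsTerminal.from T))
      (KRR.pr r T ∣_ V) (CohB1.ProjSpace.toSpec r (ULift.{u} ℤ)) (specULiftZIsTerminal.from (V : Scheme.{u})) := by
    have := (isPullback_morphismRestrict (KRR.pr r T) V).flip.paste_horiz (IsPullback.of_hasPullback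
      (CohB1.ProjSpace.toSpec r (ULift.{u} ℤ)) (specULiftZIsTerminal.from T))
    rwa [show specULiftZIsTerminal.from (V : Scheme.{u}) = V.ι ≫ specULiftZIsTerminal.from T from
      specULiftZIsTerminal.hom_ext _ _]
  exact ⟨h.isoPullback.symm, h.isoPullback_inv_snd⟩

/-- transport of a property of `Rp_*` from an affine base to any base -/
theorem exists_local_data (r : ℕ) (T : Scheme.{u}) [DCoh.HasRpush (KRR.pr r T)] (E : DCoh.D (KRR.PY r T))
    (y : T) : ∃ (V : T.Opens), IsAffineOpen V ∧ y ∈ V ∧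
      ∃ F : DCoh.D (KRR.PY r (V : Scheme.{u})),
        (DCoh.IsPerfect E → DCoh.IsPerfect F) ∧
        ((∀ m : ℤ, DCoh.IsPseudoCoherentD m E) → ∀ m : ℤ, DCoh.IsPseudoCoherentD m F) ∧
        ∀ [DCoh.HasRpush (KRR.pr r (V : Scheme.{u}))],
          Nonempty ((Groth.KTheory.Perf.Rd V.ι).obj ((DCoh.Rpush (KRR.pr r T)).obj E) ≅
            (DCoh.Rpush (KRR.pr r (V : Scheme.{u}))).obj F) := by
  obtain ⟨V, hV, hy, -⟩ := exists_isAffineOpen_mem_and_subset (show y ∈ (⊤ : T.Opens) from trivial)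
  obtain ⟨e, he⟩ := exists_iso_preimage r T V
  haveI := Groth.DerivedCoh.KFlat.hasLpull e.hom
  let E' := (Groth.KTheory.Perf.Rd (KRR.pr r T ⁻¹ᵁ V).ι).obj E
  refine ⟨V, hV, hy, (DCoh.Lpull e.hom).obj E', fun h => ?_, fun h m => ?_, ?_⟩
  · exact PCoh.isPerfect_Lpull e.hom (PCohDescent.isPerfect_rd _ h)
  · exact PCoh.isPseudoCoherentD_Lpull e.hom (pcD_rd _ (h m))
  · intro _
    haveI : DCoh.HasRpush (KRR.pr r T ∣_ V) := Groth.Misc4.PushRestrict.hasRightDerived _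
    haveI : DCoh.HasRpush e.hom := Groth.Misc4.PushRestrict.hasRightDerived _
    haveI : DCoh.HasRpush (e.hom ≫ KRR.pr r T ∣_ V) := Groth.Misc4.PushRestrict.hasRightDerived _
    obtain ⟨c⟩ := Groth.Misc4.PushRestrict.restrictD_Rpush_iso (KRR.pr r T) V
    obtain ⟨a⟩ := KFlat.Rpush_comp_iso e.hom (KRR.pr r T ∣_ V)
    obtain ⟨i⟩ := nonempty_Rpush_Lpull_iso e E'
    obtain ⟨j⟩ := nonempty_Rpush_congr he ((DCoh.Lpull e.hom).obj E')
    exact ⟨c.app E ≪≫ (DCoh.Rpush (KRR.pr r T ∣_ V)).mapIso i.symm ≪≫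
      a.app ((DCoh.Lpull e.hom).obj E') ≪≫ j⟩

/-- the projection of projective space preserves pseudo-coherence -/
theorem pcD_Rpush_pn (r : ℕ) (T : Scheme.{u}) [DCoh.HasRpush (KRR.pr r T)] (E : DCoh.D (KRR.PY r T))
    (hE : ∀ m : ℤ, DCoh.IsPseudoCoherentD m E) (m : ℤ) :
    DCoh.IsPseudoCoherentD m ((DCoh.Rpush (KRR.pr r T)).obj E) := by
  refine PCoh.isPseudoCoherentD_of_local fun y => ?_
  obtain ⟨V, hV, hy, F, -, hF, hiso⟩ := exists_local_data r T E y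
  haveI : IsAffine (V : Scheme.{u}) := hV
  haveI : DCoh.HasRpush (KRR.pr r (V : Scheme.{u})) := Groth.Misc4.PushRestrict.hasRightDerived _
  obtain ⟨i⟩ := hiso
  exact ⟨V, hy, PCoh.isPseudoCoherentD_of_iso i.symm (pcD_Rpush_pn_affine r _ F (hF hE) m)⟩

/-- the projection of projective space preserves perfect objects -/
theorem isPerfect_Rpush_pn' (r : ℕ) (T : Scheme.{u}) [DCoh.HasRpush (KRR.pr r T)] (E : DCoh.D (KRR.PY r T))
    (hE : DCoh.IsPerfect E) : DCoh.IsPerfect ((DCoh.Rpush (KRR.pr r T)).obj E) := by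
  refine PerfPush.isPerfect_of_local _ fun y => ?_
  obtain ⟨V, hV, hy, F, hF, -, hiso⟩ := exists_local_data r T E y
  haveI : IsAffine (V : Scheme.{u}) := hV
  haveI : DCoh.HasRpush (KRR.pr r (V : Scheme.{u})) := Groth.Misc4.PushRestrict.hasRightDerived _
  obtain ⟨i⟩ := hiso
  exact ⟨V, hy, Groth.KTheory.Perf.isPerfect_of_iso i.symm (isPerfect_Rpush_pn r _ F (hF hE))⟩

end Groth.RelPC.PnPush
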