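import Groth.Agent.DerivedCoh.Fibre.Concentrated
import Groth.Agent.DerivedCoh.PushPull.Adjunction
import Groth.Agent.DerivedCoh.PCoh.Pullback
import Groth.Agent.KTheory.PerfCoh
import Groth.Agent.QCohMod.FiniteType
import Groth.Agent.Misc4.PushRestrict
import Mathlib.RingTheory.OrzechProperty

/-!
A split epimorphism between isomorphic perfect objects is an isomorphism.
-/

set_option linter.style.haveILetI false

universe u

open CategoryTheory CategoryTheory.Limits Pretriangulated AlgebraicGeometry Opposite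
open Groth.DerivedCoh Groth.DerivedCoh.KFlat Groth.DerivedCoh.Fibre
open scoped ZeroObject

namespace Groth.RelPC.PnPush

attribute [local instance] HasDerivedCategory.standard

variable {X : Scheme.{u}}

/-- a perfect object with zero fibres is zero -/
theorem isZero_of_betti_eq_zero [∀ x : X, DCoh.HasLpull (X.fromSpecResidueField x)] {G : DCoh.D X}
    (hG : DCoh.IsPerfect G) (h : ∀ x q, PerfD.betti G x q = 0) : IsZero G := by
  obtain ⟨V, hV, ⟨e⟩⟩ := exists_iso_shift hG 0 0 fun x q => by rw [h, ite_self]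
  obtain ⟨V', hV', ⟨e'⟩⟩ := exists_iso_shift hG 1 0 fun x q => by rw [h, ite_self]
  haveI : (DCoh.inD X V).IsGE 0 := inferInstance
  haveI : (DCoh.inD X V').IsGE 0 := inferInstance
  have hz : ∀ q, IsZero (DCoh.HD G q) := fun q => by
    by_cases hq : q = 0
    · subst hq
      exact (((DCoh.inD X V').isZero_of_isGE 0 (-1) (by omega)).of_iso
        (((DerivedCategory.homologyFunctor X.Modules 0).shiftIso (-1) 0 (-1) (by omega)).app _)).of_iso
        ((DerivedCategory.homologyFunctor X.Modules 0).mapIso e')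
    · refine IsZero.of_iso ?_ ((DerivedCategory.homologyFunctor X.Modules q).mapIso e)
      refine IsZero.of_iso ?_ (((DerivedCategory.homologyFunctor X.Modules 0).shiftIso (-0) q q (by omega)).app _)
      rcases lt_or_gt_of_ne hq with h | h
      · exact (DCoh.inD X V).isZero_of_isGE 0 q h
      · exact (DCoh.inD X V).isZero_of_isLE 0 q h
  haveI : G.IsLE (-1) := (DerivedCategory.isLE_iff _ _).2 fun i _ => hz i
  haveI : G.IsGE 0 := (DerivedCategory.isGE_iff _ _).2 fun i _ => hz i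
  exact (IsZero.iff_id_eq_zero _).2 (DerivedCategory.TStructure.t.zero (𝟙 G) (-1) 0 (by omega))

/-- a split epimorphism between isomorphic perfect objects is an isomorphism -/
theorem isIso_of_isSplitEpi {A B : DCoh.D X} (hA : DCoh.IsPerfect A) (hB : DCoh.IsPerfect B) (f : A ⟶ B)
    (s : B ⟶ A) (hs : s ≫ f = 𝟙 B) (e : B ≅ A) : IsIso f := by
  haveI : ∀ x : X, DCoh.HasLpull (X.fromSpecResidueField x) := fun x => KFlat.hasLpull _
  obtain ⟨Z, i, δ, hT⟩ := distinguished_cocone_triangle₁ f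
  let T := Triangle.mk i f δ
  have hZ : DCoh.IsPerfect Z := Groth.KTheory.Perf.isPerfect_obj₁ T hT hA hB
  haveI : IsSplitEpi f := ⟨⟨⟨s, hs⟩⟩⟩
  have h3 : δ = 0 := (cancel_epi f).1 ((comp_distTriang_mor_zero₂₃ T hT).trans comp_zero.symm)
  haveI : Mono i := (Triangle.mor₃_eq_zero_iff_mono₁ T hT).1 h3
  obtain ⟨r, hr⟩ : ∃ r : A ⟶ Z, 𝟙 A - f ≫ s = r ≫ i := Triangle.coyoneda_exact₂ T hT (𝟙 A - f ≫ s) (by
    show (𝟙 A - f ≫ s) ≫ f = 0
    simp [hs])
  have hir : i ≫ r = 𝟙 Z := by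
    refine (cancel_mono i).1 ?_
    have h' : (i : Z ⟶ A) ≫ f = 0 := comp_distTriang_mor_zero₁₂ T hT
    rw [Category.assoc, Category.id_comp, ← hr, Preadditive.comp_sub,
      Category.comp_id, ← Category.assoc, h', zero_comp, sub_zero]
  refine (Triangle.isZero₁_iff_isIso₂ T hT).1 (isZero_of_betti_eq_zero hZ fun x q => ?_)
  let g := X.fromSpecResidueField x
  let L := DCoh.Lpull g
  haveI : DCoh.HasRpush g := Groth.Misc4.PushRestrict.hasRightDerived _
  let adj := Groth.DerivedCoh.PushPull.lpullRpushAdj g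
  haveI : L.PreservesZeroMorphisms := ⟨fun P Q => by
    have hz : IsZero (L.obj (0 : DCoh.D X)) := by
      refine (IsZero.iff_id_eq_zero _).2 ((adj.homEquiv _ _).injective ((isZero_zero _).eq_of_src _ _))
    rw [show (0 : P ⟶ Q) = (0 : P ⟶ (0 : DCoh.D X)) ≫ (0 : (0 : DCoh.D X) ⟶ Q) from zero_comp.symm,
      L.map_comp, hz.eq_of_tgt (L.map (0 : P ⟶ 0)) 0, zero_comp]⟩
  let Φ := L ⋙ DerivedCategory.homologyFunctor _ q
  have hzero : Φ.map i ≫ Φ.map f = 0 := by
    rw [← Φ.map_comp, show (i : Z ⟶ A) ≫ f = 0 from comp_distTriang_mor_zero₁₂ T hT]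
    exact (congrArg _ (L.map_zero _ _)).trans (Functor.map_zero _ _ _)
  haveI : IsNoetherianRing (X.residueField x) := inferInstance
  haveI : IsLocallyNoetherian (Spec (X.residueField x)) := inferInstance
  have hcoh : Coh.IsCoh (Φ.obj B) :=
    Groth.KTheory.Perf.isCoh_hd_of_isPerfect (Groth.DerivedCoh.PCoh.isPerfect_Lpull g hB) q
  haveI : (Φ.obj B).IsQuasicoherent := hcoh.1
  haveI hfin : Module.Finite Γ(Spec (X.residueField x), ⊤) Γ(Φ.obj B, ⊤) :=
    Groth.QCohMod.finite_sections (Φ.obj B) hcoh.2 (isAffineOpen_top _)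
  let gf : Γ(Φ.obj B, ⊤) →ₗ[Γ(Spec (X.residueField x), ⊤)] Γ(Φ.obj B, ⊤) :=
    ((Φ.map e.hom ≫ Φ.map f).val.app (op ⊤)).hom
  have hsurj : Function.Surjective gf := fun b => by
    refine ⟨(Φ.map s ≫ Φ.map e.inv).val.app (op ⊤) b, ?_⟩
    change ((Φ.map s ≫ Φ.map e.inv) ≫ Φ.map e.hom ≫ Φ.map f).val.app (op ⊤) b = _
    rw [show (Φ.map s ≫ Φ.map e.inv) ≫ Φ.map e.hom ≫ Φ.map f = Φ.map ((s ≫ e.inv) ≫ e.hom ≫ f) by
      simp only [Functor.map_comp], Category.assoc, Iso.inv_hom_id_assoc, hs, Φ.map_id]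
    rfl
  have hinj := OrzechProperty.injective_of_surjective_endomorphism gf hsurj
  have hsub : Subsingleton ((DCoh.HD (L.obj Z) q).val.obj (op ⊤)) := by
    refine ⟨fun a b => ?_⟩
    have key : ∀ z, (Φ.map i).val.app (op ⊤) z = 0 := fun z => by
      have h1 : gf ((Φ.map e.inv).val.app (op ⊤) ((Φ.map i).val.app (op ⊤) z)) = gf 0 := by
        rw [map_zero]
        change (((Φ.map i ≫ Φ.map e.inv) ≫ Φ.map e.hom) ≫ Φ.map f).val.app (op ⊤) z = 0
        rw [Category.assoc (Φ.map i), ← Φ.map_comp, e.inv_hom_id, Φ.map_id, Category.comp_id, hzero]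
        rfl
      have h2 := congrArg ((Φ.map e.hom).val.app (op ⊤)) (hinj h1)
      refine Eq.trans ?_ (h2.trans (map_zero ((Φ.map e.hom).val.app (op ⊤)).hom))
      change _ = (Φ.map e.inv ≫ Φ.map e.hom).val.app (op ⊤) _
      rw [← Φ.map_comp, e.inv_hom_id, Φ.map_id]
      rfl
    have hid : ∀ z, (Φ.map r).val.app (op ⊤) ((Φ.map i).val.app (op ⊤) z) = z := fun z => by
      change (Φ.map i ≫ Φ.map r).val.app (op ⊤) z = z
      rw [← Φ.map_comp, hir, Φ.map_id]
      rfl
    rw [← hid a, ← hid b, key, key]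
  haveI : Nontrivial (Coh.Γtop (Spec (X.residueField x))) :=
    (Scheme.ΓSpecIso (X.residueField x)).commRingCatIsoToRingEquiv.toEquiv.nontrivial
  haveI : Subsingleton ((DCoh.HD ((DCoh.Lpull (X.fromSpecResidueField x)).obj T.obj₁) q).val.obj (op ⊤)) := hsub
  exact Module.finrank_zero_of_subsingleton

end Groth.RelPC.PnPush
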