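import Groth.Agent.RelPC.PnPush.TwistDetect
import Groth.Agent.RelPC.PnPush.PerfCancel
import Groth.Agent.RelPC.PnPush.Global
import Groth.Agent.KTheory.Basic
import Groth.Prelude.Def_SGA6

/-!
`K₀` of perfect complexes on projective space over any base is free on the twists.
-/

set_option linter.style.haveILetI false

universe u

open CategoryTheory CategoryTheory.Limits Pretriangulated AlgebraicGeometry
open Groth.KTheory.Perf (Rd)
open scoped ZeroObject

namespace Groth.RelPC.PnPush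

attribute [local instance] HasDerivedCategory.standard

/-- twists preserve perfect objects -/
theorem isPerfect_twD {X : Scheme.{u}} (L : X.Modules) (hL : PicF.IsInvertible L) {K : DCoh.D X}
    (hK : DCoh.IsPerfect K) : DCoh.IsPerfect ((twD L hL).obj K) := by
  refine Groth.DerivedCoh.PerfPush.isPerfect_of_local _ fun x => ?_
  obtain ⟨V, hx, h⟩ := exists_rd_twD L hL x
  exact ⟨V, hx, Groth.KTheory.Perf.isPerfect_of_iso (h K).some.symm
    (Groth.DerivedCoh.PCohDescent.isPerfect_rd _ hK)⟩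

/-- isomorphic perfect objects have the same class -/
theorem clTr_perf_iso {X : Scheme.{u}} {A B : DCoh.D X} (e : A ≅ B) (hA : DCoh.IsPerfect A) :
    KZero.clTr (SGA6.perfP X) A = KZero.clTr (SGA6.perfP X) B :=
  Groth.KTheory.clTr_iso (P := SGA6.perfP X) e hA (Groth.KTheory.Perf.isPerfect_of_iso e hA) (isZero_zero _)
    (Groth.KTheory.Perf.isPerfect_of_isZero (isZero_zero _))

theorem clTr_perf_zero {X : Scheme.{u}} {Z : DCoh.D X} (hZ : IsZero Z) :
    KZero.clTr (SGA6.perfP X) Z = 0 :=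
  Groth.KTheory.clTr_zero (P := SGA6.perfP X) hZ (Groth.KTheory.Perf.isPerfect_of_isZero hZ)

variable (r : ℕ) (S : Scheme.{u})

/-- the twist functor on projective space -/
noncomputable abbrev tD (d : ℤ) : DCoh.D (KRR.PY r S) ⥤ DCoh.D (KRR.PY r S) :=
  twD (Twist.twistOver r S d) (Groth.KTheory.RegSheaf.isInvertible_twistOver r S d)

theorem isPerfect_tD (d : ℤ) {K : DCoh.D (KRR.PY r S)} (hK : DCoh.IsPerfect K) :
    DCoh.IsPerfect ((tD r S d).obj K) :=
  isPerfect_twD _ _ hK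

theorem nonempty_tD_tD (d e : ℤ) (h : d + e = 0) : Nonempty (tD r S d ⋙ tD r S e ≅ 𝟭 _) := by
  refine nonempty_twD_twD _ _ ?_
  obtain ⟨m⟩ := Groth.KTheory.RegSheaf.nonempty_twistOver_add r S d e
  rw [h] at m
  obtain ⟨z⟩ := Groth.KTheory.RegSheaf.nonempty_structure_of_idem (Groth.KTheory.RegSheaf.isInvertible_twistOver r S 0)
    (by simpa using Groth.KTheory.RegSheaf.nonempty_twistOver_add r S 0 0)
  exact ⟨m ≪≫ z⟩

variable [DCoh.HasRpush (KRR.pr r S)]

/-- `Rf_*(-(-j))` -/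
noncomputable abbrev phiObj (j : ℤ) (E : DCoh.D (KRR.PY r S)) : DCoh.D S :=
  (DCoh.Rpush (KRR.pr r S)).obj ((tD r S (-j)).obj E)

theorem isPerfect_phiObj (j : ℤ) {E : DCoh.D (KRR.PY r S)} (hE : DCoh.IsPerfect E) :
    DCoh.IsPerfect (phiObj r S j E) :=
  isPerfect_Rpush_pn' r S _ (isPerfect_tD r S _ hE)

theorem exists_phi_triangle (j : ℤ) (T : Triangle (DCoh.D (KRR.PY r S))) (hT : T ∈ distTriang _) :
    ∃ c, Triangle.mk ((DCoh.Rpush (KRR.pr r S)).map ((tD r S (-j)).map T.mor₁))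
      ((DCoh.Rpush (KRR.pr r S)).map ((tD r S (-j)).map T.mor₂)) c ∈ distTriang (DCoh.D S) := by
  haveI : IsProper (KRR.pr r S) := Groth.Variety2.isProper_projSpaceOver_toBase r S
  exact Groth.DerivedCoh.PerfPush.exists_distinguished (KRR.pr r S) _ ((tD r S (-j)).map_distinguished _ hT)

/-- `[E] ↦ [Rf_*(E(-j))]` -/
noncomputable def phiK (j : ℤ) : SGA6.Kperf (KRR.PY r S) →+ SGA6.Kperf S :=
  Groth.KTheory.liftTr (SGA6.perfP (KRR.PY r S)) (fun E => KZero.clTr (SGA6.perfP S) (phiObj r S j E))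
    fun T hT h₁ h₂ h₃ => by
      obtain ⟨c, hc⟩ := exists_phi_triangle r S j T hT
      exact Groth.KTheory.clTr_rel (P := SGA6.perfP S) _ hc (isPerfect_phiObj r S j h₁)
        (isPerfect_phiObj r S j h₂) (isPerfect_phiObj r S j h₃)

theorem phiK_clTr (j : ℤ) {E : DCoh.D (KRR.PY r S)} (hE : DCoh.IsPerfect E) :
    phiK r S j (KZero.clTr (SGA6.perfP _) E) = KZero.clTr (SGA6.perfP S) (phiObj r S j E) :=
  Groth.KTheory.liftTr_clTr (P := SGA6.perfP (KRR.PY r S)) _ _ hE

variable [DCoh.HasLpull (KRR.pr r S)]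

theorem isZero_phiObj_pull (i j : ℤ) (h₁ : i < j) (h₂ : j - i ≤ r) (K : DCoh.D S) (hK : DCoh.IsPerfect K) :
    IsZero (phiObj r S j ((tD r S i).obj ((DCoh.Lpull (KRR.pr r S)).obj K))) :=
  (isZero_Rpush_pull_twist r S (i - j) (by omega) (by omega) K
    (Groth.KTheory.PerfAffine.isQCohD_of_isPerfect hK)).of_iso
      ((DCoh.Rpush (KRR.pr r S)).mapIso (nonempty_twD_twistOver_add r S i (-j) (i - j) (by omega) _).some)

theorem nonempty_phiObj_pull (i : ℤ) (K : DCoh.D S) (hK : DCoh.IsPerfect K) :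
    Nonempty (phiObj r S i ((tD r S i).obj ((DCoh.Lpull (KRR.pr r S)).obj K)) ≅ K) := by
  obtain ⟨a⟩ := nonempty_Rpush_pull r S K (Groth.KTheory.PerfAffine.isQCohD_of_isPerfect hK)
  exact ⟨(DCoh.Rpush (KRR.pr r S)).mapIso (nonempty_twD_twistOver_add r S i (-i) 0 (by omega) _).some ≪≫ a⟩

/-- one step of the semi-orthogonal decomposition -/
theorem exists_step_decomp (E : DCoh.D (KRR.PY r S)) (hE : DCoh.IsPerfect E) (j : ℤ) (hj : 0 ≤ j) :
    ∃ E' : DCoh.D (KRR.PY r S), DCoh.IsPerfect E' ∧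
      KZero.clTr (SGA6.perfP _) E = KZero.clTr (SGA6.perfP _)
        ((tD r S j).obj ((DCoh.Lpull (KRR.pr r S)).obj (phiObj r S j E))) + KZero.clTr (SGA6.perfP _) E' ∧
      IsZero (phiObj r S j E') ∧
      ∀ i : ℤ, j < i → i ≤ r → IsZero (phiObj r S i E) → IsZero (phiObj r S i E') := by
  let f := KRR.pr r S
  let R := DCoh.Rpush f
  let L := DCoh.Lpull f
  let adj := Groth.DerivedCoh.PushPull.lpullRpushAdj f
  let B := phiObj r S j E
  have hB : DCoh.IsPerfect B := isPerfect_phiObj r S j hE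
  let M := (tD r S (-j)).obj E
  let A := (tD r S j).obj (L.obj B)
  have hA : DCoh.IsPerfect A := isPerfect_tD r S j (Groth.DerivedCoh.PCoh.isPerfect_Lpull f hB)
  obtain ⟨η⟩ := nonempty_tD_tD r S j (-j) (by omega)
  haveI := isEquivalence_twD (Twist.twistOver r S (-j)) (Groth.KTheory.RegSheaf.isInvertible_twistOver r S (-j))
  let β : (tD r S (-j)).obj A ⟶ M := η.hom.app (L.obj B) ≫ adj.counit.app M
  let α : A ⟶ E := (tD r S (-j)).preimage β
  obtain ⟨E', a, b, hT⟩ := distinguished_cocone_triangle α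
  have hE' : DCoh.IsPerfect E' := Groth.KTheory.Perf.isPerfect_obj₃ _ hT hA hE
  refine ⟨E', hE', Groth.KTheory.clTr_rel (P := SGA6.perfP (KRR.PY r S)) _ hT hA hE hE', ?_, fun i hi hir hz => ?_⟩
  · obtain ⟨c, hc⟩ := exists_phi_triangle r S j _ hT
    refine (Triangle.isZero₃_iff_isIso₁ _ hc).2 ?_
    obtain ⟨e⟩ := nonempty_phiObj_pull r S j B hB
    refine isIso_of_isSplitEpi (isPerfect_phiObj r S j hA) hB _
      (adj.unit.app B ≫ R.map (η.inv.app (L.obj B))) ?_ e.symm
    show (adj.unit.app B ≫ R.map (η.inv.app (L.obj B))) ≫ R.map ((tD r S (-j)).map α) = _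
    rw [show (tD r S (-j)).map α = β from Functor.map_preimage _ _, Category.assoc, ← R.map_comp,
      Iso.inv_hom_id_app_assoc]
    exact adj.right_triangle_components M
  · obtain ⟨c, hc⟩ := exists_phi_triangle r S i _ hT
    exact Triangle.isZero₃_of_isZero₁₂ _ hc (isZero_phiObj_pull r S j i hi (by omega) B hB) hz

/-- the subgroup generated by pullbacks twisted by `O(i)`, `0 ≤ i ≤ r`, is everything -/
theorem mem_of_twists (G : AddSubgroup (SGA6.Kperf (KRR.PY r S)))
    (hG : ∀ (i : ℕ) (K : DCoh.D S), i ≤ r → DCoh.IsPerfect K →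
      KZero.clTr (SGA6.perfP _) ((tD r S (i : ℤ)).obj ((DCoh.Lpull (KRR.pr r S)).obj K)) ∈ G)
    (x : SGA6.Kperf (KRR.PY r S)) : x ∈ G := by
  induction x using Groth.KTheory.k0tr_induction with
  | h0 => exact G.zero_mem
  | hadd a b ha hb => exact G.add_mem ha hb
  | hneg a ha => exact G.neg_mem ha
  | hcl E hE =>
    have key : ∀ n : ℕ, n ≤ r + 1 → ∃ E' : DCoh.D (KRR.PY r S), DCoh.IsPerfect E' ∧
        KZero.clTr (SGA6.perfP _) E - KZero.clTr (SGA6.perfP _) E' ∈ G ∧
        ∀ i : ℤ, (r : ℤ) + 1 - n ≤ i → i ≤ r → IsZero (phiObj r S i E') := by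
      intro n
      induction n with
      | zero => exact fun _ => ⟨E, hE, by simp, fun i h₁ h₂ => by omega⟩
      | succ n ih =>
        intro hn
        obtain ⟨E₁, hE₁, hm, hz⟩ := ih (by omega)
        obtain ⟨j, hj⟩ : ∃ j : ℕ, j + n = r := ⟨r - n, by omega⟩
        obtain ⟨E₂, hE₂, hcl, hz₂, hkeep⟩ := exists_step_decomp r S E₁ hE₁ (j : ℤ) (by omega)
        refine ⟨E₂, hE₂, ?_, fun i h₁ h₂ => ?_⟩
        · rw [hcl] at hm
          have := G.add_mem hm (hG j _ (by omega) (isPerfect_phiObj r S (j : ℤ) hE₁))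
          rwa [show ∀ a b c : SGA6.Kperf (KRR.PY r S), a - (b + c) + b = a - c from fun a b c => by abel] at this
        · rcases eq_or_lt_of_le (show (j : ℤ) ≤ i by omega) with rfl | h
          · exact hz₂
          · exact hkeep i h h₂ (hz i (by omega) h₂)
    obtain ⟨E', hE', hm, hz⟩ := key (r + 1) le_rfl
    have h0 : IsZero E' := isZero_of_Rpush_twists r S E' (Groth.KTheory.PerfAffine.isQCohD_of_isPerfect hE')
      fun i hi => hz i (by omega) (by omega)
    rwa [clTr_perf_zero h0, sub_zero] at hm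

end Groth.RelPC.PnPush
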