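import Groth.Agent.KTheory.RegKoszul
import Groth.Agent.Variety2.Reg.Cohom
import Groth.Agent.KTheory.PerfCoh
import Groth.Agent.PicAux.TensorLift
import Mathlib.Algebra.Homology.Embedding.ExtendHomology
import Mathlib.Algebra.Homology.DerivedCategory.SingleTriangle

/-!
The Koszul complex of twists on relative projective space, and the window it gives for triangulated classes.
-/

set_option linter.style.haveILetI false
set_option linter.unusedSectionVars false

universe u v w

open CategoryTheory CategoryTheory.Limits Pretriangulated AlgebraicGeometry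
open Groth.Variety2.Reg Groth.KTheory.RegKoszul

namespace Groth.RelPC.PnPush

attribute [local instance] HasDerivedCategory.standard

section sums

open ZeroObject

variable {C : Type w} [Category.{v} C] [Preadditive C] [HasFiniteBiproducts C] [HasBinaryBiproducts C]
  [HasZeroObject C]

theorem nonempty_sigma_zero (A : C) : Nonempty ((∐ fun _ : Fin 0 => A) ≅ (0 : C)) :=
  ⟨{ hom := 0
     inv := 0
     hom_inv_id := Sigma.hom_ext _ _ fun i => i.elim0
     inv_hom_id := (isZero_zero C).eq_of_src _ _ }⟩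

theorem nonempty_sigma_one (A : C) : Nonempty ((∐ fun _ : Fin 1 => A) ≅ A) :=
  ⟨{ hom := Sigma.desc fun _ => 𝟙 A
     inv := Sigma.ι (fun _ : Fin 1 => A) 0
     hom_inv_id := Sigma.hom_ext _ _ fun i => by
       obtain rfl : i = 0 := Subsingleton.elim _ _
       simp
     inv_hom_id := by simp }⟩

theorem nonempty_sigma_add (A : C) (m k : ℕ) :
    Nonempty (((∐ fun _ : Fin m => A) ⊞ (∐ fun _ : Fin k => A)) ≅ (∐ fun _ : Fin (m + k) => A)) := by
  refine ⟨{ hom := biprod.desc (Sigma.desc fun i => Sigma.ι (fun _ : Fin (m + k) => A) (Fin.castAdd k i))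
              (Sigma.desc fun i => Sigma.ι (fun _ : Fin (m + k) => A) (Fin.natAdd m i))
            inv := Sigma.desc fun i => Fin.addCases (motive := fun _ => A ⟶ _)
              (fun i => Sigma.ι (fun _ : Fin m => A) i ≫ biprod.inl)
              (fun i => Sigma.ι (fun _ : Fin k => A) i ≫ biprod.inr) i
            hom_inv_id := ?_
            inv_hom_id := ?_ }⟩
  · refine biprod.hom_ext' _ _ (Sigma.hom_ext _ _ fun i => ?_) (Sigma.hom_ext _ _ fun i => ?_) <;> simp
  · refine Sigma.hom_ext _ _ fun i => ?_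
    refine Fin.addCases (fun i => ?_) (fun i => ?_) i <;> simp

theorem nonempty_sigma_congr {A B : C} (e : A ≅ B) {m k : ℕ} (h : m = k) :
    Nonempty ((∐ fun _ : Fin m => A) ≅ (∐ fun _ : Fin k => B)) := by
  subst h
  exact ⟨Sigma.mapIso fun _ => e⟩

/-- the terms of a Koszul complex are sums of copies of the members of the family -/
theorem nonempty_kosz_iso (G : ℤ → C) : ∀ (s j : ℕ) (a : ℤ),
    Nonempty (Kosz.obj G s j a ≅ ∐ fun _ : Fin (Nat.choose s j) => G (a - j))
  | 0, 0, a => by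
    obtain ⟨e⟩ := nonempty_sigma_congr (eqToIso (show G a = G (a - ((0 : ℕ) : ℤ)) by simp))
      (show 1 = Nat.choose 0 0 from (Nat.choose_self 0).symm)
    exact ⟨(nonempty_sigma_one _).some.symm ≪≫ e⟩
  | 0, j + 1, a => by
    obtain ⟨e⟩ := nonempty_sigma_congr (Iso.refl (G (a - ((j + 1 : ℕ) : ℤ))))
      (show 0 = Nat.choose 0 (j + 1) from (Nat.choose_zero_succ j).symm)
    exact ⟨(nonempty_sigma_zero _).some.symm ≪≫ e⟩
  | s + 1, 0, a => by
    obtain ⟨e⟩ := nonempty_kosz_iso G s 0 a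
    obtain ⟨e'⟩ := nonempty_sigma_congr (Iso.refl (G (a - ((0 : ℕ) : ℤ))))
      (show Nat.choose s 0 = Nat.choose (s + 1) 0 by simp)
    exact ⟨e ≪≫ e'⟩
  | s + 1, j + 1, a => by
    obtain ⟨e₁⟩ := nonempty_kosz_iso G s (j + 1) a
    obtain ⟨e₂⟩ := nonempty_kosz_iso G s j (a - 1)
    obtain ⟨e₃⟩ := nonempty_sigma_congr (eqToIso (show G (a - 1 - j) = G (a - ((j + 1 : ℕ) : ℤ)) from
      congrArg G (by push_cast; omega))) (rfl : Nat.choose s j = Nat.choose s j)
    obtain ⟨e₄⟩ := nonempty_sigma_add (G (a - ((j + 1 : ℕ) : ℤ))) (Nat.choose s (j + 1)) (Nat.choose s j)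
    obtain ⟨e₅⟩ := nonempty_sigma_congr (Iso.refl (G (a - ((j + 1 : ℕ) : ℤ))))
      (show Nat.choose s (j + 1) + Nat.choose s j = Nat.choose (s + 1) (j + 1) by
        rw [Nat.choose_succ_succ, add_comm])
    exact ⟨biprod.mapIso e₁ (e₂ ≪≫ e₃) ≪≫ e₄ ≪≫ e₅⟩

end sums

variable {n : ℕ} {T : Scheme.{u}}

theorem nonempty_G_structure (a : ℤ) :
    Nonempty (G (Coh.structureModule (KRR.PY n T)) a ≅ Twist.twistOver n T a) :=
  ⟨(Groth.PicAux.exists_leftUnitor _).choose⟩

variable (n T) in
/-- The Koszul complex of twists with degree zero term `O(a)`. -/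
noncomputable def kosz (a : ℤ) : ChainComplex (KRR.PY n T).Modules ℕ :=
  ChainComplex.of (fun j => Kosz.obj (G (Coh.structureModule (KRR.PY n T))) (n + 1) j a)
    (fun j => Kosz.d (op (Coh.structureModule (KRR.PY n T))) (n + 1) j a)
    (fun j => Kosz.d_comp_d _ (op_comm _) (n + 1) j a)

theorem kosz_d (a : ℤ) (j : ℕ) : (kosz n T a).d (j + 1) j =
    Kosz.d (op (Coh.structureModule (KRR.PY n T))) (n + 1) j a :=
  ChainComplex.of_d (fun j => Kosz.obj (G (Coh.structureModule (KRR.PY n T))) (n + 1) j a)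
    (fun j => Kosz.d (op (Coh.structureModule (KRR.PY n T))) (n + 1) j a) j

theorem exactAt_kosz (a : ℤ) (j : ℕ) : (kosz n T a).ExactAt j := by
  let O := Coh.structureModule (KRR.PY n T)
  cases j with
  | zero =>
    rw [HomologicalComplex.exactAt_iff' _ 1 0 0 (by simp) (by simp)]
    rw [ShortComplex.exact_iff_epi _ ((kosz n T a).shape 0 0 (by simp))]
    change Epi ((kosz n T a).d 1 0)
    rw [show (kosz n T a).d 1 0 = _ from kosz_d a 0]
    exact epi_kosz (op O) (n + 1) (op_comm O) (op_stalk_bijective O) a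
  | succ j =>
    rw [HomologicalComplex.exactAt_iff' _ (j + 2) (j + 1) j (by simp) (by simp)]
    have := exact_kosz (op O) (n + 1) (op_comm O) (op_stalk_bijective O) j a
    refine ShortComplex.exact_of_iso ?_ this
    exact ShortComplex.isoMk (Iso.refl _) (Iso.refl _) (Iso.refl _)
      ((Category.id_comp _).trans ((kosz_d a (j + 1)).trans (Category.comp_id _).symm))
      ((Category.id_comp _).trans ((kosz_d a j).trans (Category.comp_id _).symm))

/-- an exact complex of twists with binomial multiplicities -/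
theorem exists_exact_twists (n : ℕ) (T : Scheme.{u}) (a : ℤ) :
    ∃ C : CochainComplex (KRR.PY n T).Modules ℤ, (∀ i : ℤ, C.ExactAt i) ∧
      (∀ i : ℕ, i ≤ n + 1 →
        Nonempty (C.X (i : ℤ) ≅ ∐ fun _ : Fin (Nat.choose (n + 1) i) => Twist.twistOver n T (a + i))) ∧
      (∀ i : ℤ, i < 0 ∨ (n : ℤ) + 1 < i → IsZero (C.X i)) := by
  haveI : HasFiniteBiproducts (KRR.PY n T).Modules := Abelian.hasFiniteBiproducts
  let e := ComplexShape.embeddingUpIntLE ((n : ℤ) + 1)
  let K := kosz n T (a + n + 1)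
  refine ⟨K.extend e, fun i => ?_, fun i hi => ?_, fun i hi => ?_⟩
  · by_cases h : ∃ j, e.f j = i
    · obtain ⟨j, hj⟩ := h
      rw [HomologicalComplex.extend_exactAt_iff _ e hj]
      exact exactAt_kosz _ j
    · exact HomologicalComplex.extend_exactAt _ e i fun j hj => h ⟨j, hj⟩
  · have hf : e.f (n + 1 - i) = (i : ℤ) := by
      show (n : ℤ) + 1 - ((n + 1 - i : ℕ) : ℤ) = (i : ℤ)
      omega
    obtain ⟨e₁⟩ := nonempty_kosz_iso (G (Coh.structureModule (KRR.PY n T))) (n + 1) (n + 1 - i) (a + n + 1)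
    obtain ⟨e₂⟩ := nonempty_G_structure (n := n) (T := T) (a + i)
    obtain ⟨e₃⟩ := nonempty_sigma_congr
      (eqToIso (show G (Coh.structureModule (KRR.PY n T)) (a + n + 1 - ((n + 1 - i : ℕ) : ℤ)) =
        G (Coh.structureModule (KRR.PY n T)) (a + i) from congrArg _ (by omega)) ≪≫ e₂)
      (show Nat.choose (n + 1) (n + 1 - i) = Nat.choose (n + 1) i from Nat.choose_symm hi)
    exact ⟨K.extendXIso e hf ≪≫ e₁ ≪≫ e₃⟩
  · rcases hi with hi | hi
    · by_cases h : ∃ j, e.f j = i
      · obtain ⟨j, hj⟩ := h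
        have hj' : (n : ℤ) + 1 - (j : ℤ) = i := hj
        exact (Variety2.Reg.isZero_kosz (n + 1) j _ (by omega)).of_iso (K.extendXIso e hj)
      · exact K.isZero_extend_X e i fun j hj => h ⟨j, hj⟩
    · refine K.isZero_extend_X e i fun j hj => ?_
      have hj' : (n : ℤ) + 1 - (j : ℤ) = i := hj
      omega

/-- a triangulated class containing `n + 1` consecutive twists contains all of them -/
theorem prop_twist_of_window (P : ObjectProperty (DCoh.D (KRR.PY n T))) [P.IsTriangulated]
    [P.IsClosedUnderIsomorphisms] (a₀ : ℤ)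
    (h : ∀ a : ℤ, a₀ ≤ a → a ≤ a₀ + n → P (DCoh.inD _ (Twist.twistOver n T a))) (a : ℤ) :
    P (DCoh.inD _ (Twist.twistOver n T a)) := by
  let O := Coh.structureModule (KRR.PY n T)
  haveI : HasFiniteBiproducts (KRR.PY n T).Modules := Abelian.hasFiniteBiproducts
  let tw : ℤ → Prop := fun a => P (DCoh.inD _ (G O a))
  suffices tw a from P.prop_of_iso ((DerivedCategory.singleFunctor _ 0).mapIso (nonempty_G_structure a).some) this
  have h' : ∀ b, a₀ ≤ b → b ≤ a₀ + n → tw b := fun b h₁ h₂ =>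
    P.prop_of_iso ((DerivedCategory.singleFunctor _ 0).mapIso (nonempty_G_structure b).some).symm (h b h₁ h₂)
  have hzero : ∀ {M : (KRR.PY n T).Modules}, IsZero M → P (DCoh.inD _ M) := fun hM => by
    obtain ⟨Z, hZ, hPZ⟩ := P.exists_prop_of_containsZero
    exact P.prop_of_iso (hZ.iso ((DerivedCategory.singleFunctor _ 0).map_isZero hM)) hPZ
  have h3 : ∀ {S : ShortComplex (KRR.PY n T).Modules}, S.ShortExact → P (DCoh.inD _ S.X₁) →
      P (DCoh.inD _ S.X₂) → P (DCoh.inD _ S.X₃) := fun hS h₁ h₂ =>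
    P.ext_of_isTriangulatedClosed₃ _ hS.singleTriangle_distinguished h₁ h₂
  have h1 : ∀ {S : ShortComplex (KRR.PY n T).Modules}, S.ShortExact → P (DCoh.inD _ S.X₂) →
      P (DCoh.inD _ S.X₃) → P (DCoh.inD _ S.X₁) := fun hS h₂ h₃ =>
    P.ext_of_isTriangulatedClosed₁ _ hS.singleTriangle_distinguished h₂ h₃
  have hbi : ∀ {A B : (KRR.PY n T).Modules}, P (DCoh.inD _ A) → P (DCoh.inD _ B) →
      P (DCoh.inD _ (A ⊞ B)) := fun {A B} hA hB =>
    P.ext_of_isTriangulatedClosed₂ _ (ShortComplex.Splitting.ofHasBinaryBiproduct A B).shortExact.singleTriangle_distinguished hA hB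
  have hobj : ∀ (s j : ℕ) (b : ℤ), tw (b - j) → P (DCoh.inD _ (Kosz.obj (G O) s j b)) := by
    intro s
    induction s with
    | zero =>
      rintro (_ | j) b hb
      · simpa [tw, Kosz.obj] using hb
      · exact hzero (isZero_zero _)
    | succ s ih =>
      rintro (_ | j) b hb
      · exact ih 0 b hb
      · exact hbi (ih (j + 1) b hb) (ih j (b - 1) (by
          rw [show b - 1 - (j : ℤ) = b - ((j + 1 : ℕ) : ℤ) by push_cast; omega]
          exact hb))
  have hseq := fun (b : ℤ) (j : ℕ) =>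
    shortExact_cycles (op O) (n + 1) (op_comm O) (op_stalk_bijective O) j b
  choose w hw using hseq
  have hker := fun b : ℤ => haveI := epi_kosz (op O) (n + 1) (op_comm O) (op_stalk_bijective O) b
    Variety2.Reg.kernel_shortExact (Kosz.d (op O) (n + 1) 0 b)
  have up : ∀ b, (∀ j : ℕ, 1 ≤ j → j ≤ n + 1 → tw (b - j)) → tw b := by
    intro b hb
    have hj : ∀ j : ℕ, 1 ≤ j → P (DCoh.inD _ (Kosz.obj (G O) (n + 1) j b)) := fun j hj =>
      if hj' : j ≤ n + 1 then hobj _ _ _ (hb j hj hj') else hzero (Variety2.Reg.isZero_kosz _ _ _ (by omega))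
    have hZ : ∀ (k j : ℕ), n + 1 ≤ j + k → P (DCoh.inD _ (kernel (Kosz.d (op O) (n + 1) j b))) := by
      intro k
      induction k with
      | zero =>
        exact fun j hj => hzero (IsZero.of_mono (kernel.ι (Kosz.d (op O) (n + 1) j b))
          (Variety2.Reg.isZero_kosz (n + 1) (j + 1) b (by omega)))
      | succ k ih => exact fun j hjk => h3 (hw b j) (ih (j + 1) (by omega)) (hj (j + 2) (by omega))
    have h0 := h3 (hker b) (hZ (n + 1) 0 (by omega)) (hj 1 le_rfl)
    exact P.prop_of_iso ((DerivedCategory.singleFunctor _ 0).mapIso (Kosz.obj0Iso (n + 1) b)) h0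
  have down : ∀ b, (∀ j : ℕ, j ≤ n → tw (b - j)) → tw (b - (n + 1 : ℕ)) := by
    intro b hb
    have hj : ∀ j : ℕ, j ≤ n → P (DCoh.inD _ (Kosz.obj (G O) (n + 1) j b)) := fun j hj => hobj _ _ _ (hb j hj)
    have hZ0 : ∀ j : ℕ, j + 1 ≤ n → P (DCoh.inD _ (kernel (Kosz.d (op O) (n + 1) j b))) := by
      intro j
      induction j with
      | zero => exact fun h => h1 (hker b) (hj 1 h) (hj 0 (Nat.zero_le _))
      | succ j ih => exact fun h => h1 (hw b j) (hj (j + 2) h) (ih (by omega))
    have hlast : P (DCoh.inD _ (Kosz.obj (G O) (n + 1) (n + 1) b)) := by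
      have hzk : P (DCoh.inD _ (kernel (Kosz.d (op O) (n + 1) (n + 1) b))) :=
        hzero (IsZero.of_mono (kernel.ι (Kosz.d (op O) (n + 1) (n + 1) b))
          (Variety2.Reg.isZero_kosz (n + 1) (n + 1 + 1) b (by omega)))
      have hn : P (DCoh.inD _ (kernel (Kosz.d (op O) (n + 1) n b))) := h3 (hw b n) hzk
        (hzero (Variety2.Reg.isZero_kosz _ _ _ (by omega)))
      rcases Nat.eq_zero_or_pos n with h0 | h0
      · subst h0
        exact P.ext_of_isTriangulatedClosed₂ _ (hker b).singleTriangle_distinguished hn (hj 0 le_rfl)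
      · obtain ⟨m, rfl⟩ := Nat.exists_eq_add_of_le' h0
        exact P.ext_of_isTriangulatedClosed₂ _ (hw b m).singleTriangle_distinguished hn (hZ0 m le_rfl)
    obtain ⟨e⟩ := nonempty_kosz_iso (G O) (n + 1) (n + 1) b
    obtain ⟨e'⟩ := nonempty_sigma_congr (Iso.refl (G O (b - ((n + 1 : ℕ) : ℤ))))
      (Nat.choose_self (n + 1))
    exact P.prop_of_iso ((DerivedCategory.singleFunctor _ 0).mapIso (e ≪≫ e' ≪≫ (nonempty_sigma_one _).some)) hlast
  have key : ∀ k : ℕ, ∀ b, a₀ - k ≤ b → b ≤ a₀ + n + k → tw b := by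
    intro k
    induction k with
    | zero => exact fun b h₁ h₂ => h' b (by simpa using h₁) (by simpa using h₂)
    | succ k ih =>
      intro b h₁ h₂
      by_cases hlow : b < a₀ - k
      · have := down (b + (n + 1 : ℕ)) fun j hj => ih _ (by push_cast; omega) (by push_cast; omega)
        simpa using this
      by_cases hhigh : a₀ + n + k < b
      · exact up b fun j hj₁ hj₂ => ih _ (by omega) (by omega)
      exact ih b (by omega) (by omega)
  exact key (a - a₀).natAbs a (by omega) (by omega)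

end Groth.RelPC.PnPush
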