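import Groth.Agent.RelPC.PnPush.Env
import Groth.Agent.RelPC.PnPush.Koszul
import Groth.Agent.RelPC.Closed
import Groth.Agent.RelPC.ExternalPC
import Groth.Agent.DerivedCoh.PushPull.RpushTilde
import Groth.Agent.DerivedCoh.PCoh.Pullback
import Groth.Agent.DerivedCoh.PerfPush.OpenSupp
import Groth.Agent.DerivedCoh.PerfPush.ProperSupp
import Groth.Agent.Misc4.PerfectEnvelope
import Groth.Agent.Misc4.PerfectGenerator
import Groth.Agent.Misc4.KoszulFactor
import Groth.Agent.PnCoh.OverAffine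
import Groth.Agent.PnCoh.TwistQuot
import Groth.Agent.PnCoh.VanishingClosed
import Groth.Agent.Variety2.ProjBasics
import Groth.Agent.S1008
import Groth.Agent.FlatStrata.Twist
import Groth.Agent.KTheory.RegSheaf

/-!
Twists generate the derived category of quasi-coherent modules of a scheme affine over `P^n`.
-/

set_option linter.style.haveILetI false

universe u

open CategoryTheory CategoryTheory.Limits Pretriangulated AlgebraicGeometry
open scoped ZeroObject

namespace Groth.RelPC.PnPush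

attribute [local instance] HasDerivedCategory.standard

variable {X Y : Scheme.{u}}

/-- objects all whose shifts have only zero maps into `E` -/
def Orth (E : DCoh.D X) : ObjectProperty (DCoh.D X) :=
  fun K => ∀ (n : ℤ) (φ : K⟦n⟧ ⟶ E), φ = 0

instance orth_iso (E : DCoh.D X) : (Orth E).IsClosedUnderIsomorphisms :=
  ⟨fun e h n φ => (cancel_epi ((shiftFunctor _ n).map e.hom)).1 ((h n _).trans comp_zero.symm)⟩

instance orth_retract (E : DCoh.D X) : (Orth E).IsStableUnderRetracts :=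
  ⟨fun r h n φ => by
    have h1 : (r.r⟦n⟧' ≫ φ) = 0 := h n _
    have h2 : φ = r.i⟦n⟧' ≫ r.r⟦n⟧' ≫ φ := by
      rw [← Category.assoc, ← Functor.map_comp, r.retract]
      simp
    exact h2.trans ((congrArg (r.i⟦n⟧' ≫ ·) h1).trans comp_zero)⟩

instance orth_triangulated (E : DCoh.D X) : (Orth E).IsTriangulated where
  toContainsZero := ⟨⟨0, isZero_zero _, fun n φ =>
    ((shiftFunctor (DCoh.D X) n).map_isZero (isZero_zero _)).eq_of_src _ _⟩⟩
  toIsStableUnderShift := ⟨fun a => ObjectProperty.IsStableUnderShiftBy.mk fun K hK n φ =>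
    (cancel_epi ((shiftFunctorAdd' (DCoh.D X) a n (a + n) rfl).hom.app K)).1
      ((hK (a + n) _).trans comp_zero.symm)⟩
  toIsTriangulatedClosed₂ := ObjectProperty.IsTriangulatedClosed₂.mk' fun T hT h₁ h₃ n φ => by
    obtain ⟨ψ, hψ⟩ := Triangle.yoneda_exact₂ _ (Triangle.shift_distinguished _ hT n) φ (h₁ n _)
    exact hψ.trans ((congrArg _ (h₃ n ψ)).trans comp_zero)

/-- `Rg_*` commutes with shifts, objectwise -/
theorem nonempty_Rpush_shift (g : X ⟶ Y) [DCoh.HasRpush g] (K : DCoh.D X) (n : ℤ) :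
    Nonempty ((DCoh.Rpush g).obj (K⟦n⟧) ≅ ((DCoh.Rpush g).obj K)⟦n⟧) := by
  have one : ∀ L : DCoh.D X, Nonempty ((DCoh.Rpush g).obj (L⟦(1 : ℤ)⟧) ≅ ((DCoh.Rpush g).obj L)⟦(1 : ℤ)⟧) := by
    intro L
    obtain ⟨c, hc⟩ := Groth.DerivedCoh.PerfPush.exists_distinguished g _
      (rot_of_distTriang _ (contractible_distinguished L))
    haveI : IsIso c := (Triangle.isZero₂_iff_isIso₃ _ hc).1
      (Groth.DerivedCoh.PerfPush.isZero_Rpush g (isZero_zero (DCoh.D X)))
    exact ⟨@asIso _ _ _ _ c ‹_›⟩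
  let Φ := DCoh.Rpush g
  induction n using Int.induction_on with
  | zero => exact ⟨Φ.mapIso ((shiftFunctorZero (DCoh.D X) ℤ).app K) ≪≫
      ((shiftFunctorZero (DCoh.D Y) ℤ).app _).symm⟩
  | succ k ih =>
    obtain ⟨a⟩ := ih
    obtain ⟨b⟩ := one (K⟦(k : ℤ)⟧)
    exact ⟨Φ.mapIso ((shiftFunctorAdd' (DCoh.D X) (k : ℤ) 1 ((k : ℤ) + 1) rfl).app K) ≪≫ b ≪≫
      (shiftFunctor _ (1 : ℤ)).mapIso a ≪≫ ((shiftFunctorAdd' (DCoh.D Y) (k : ℤ) 1 ((k : ℤ) + 1) rfl).app _).symm⟩
  | pred k ih =>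
    obtain ⟨a⟩ := ih
    obtain ⟨b⟩ := one (K⟦(-(k : ℤ) - 1)⟧)
    exact ⟨((shiftFunctorCompIsoId (DCoh.D Y) (1 : ℤ) (-1) (by omega)).app _).symm ≪≫
      (shiftFunctor _ (-1 : ℤ)).mapIso (b.symm ≪≫
        Φ.mapIso ((shiftFunctorAdd' (DCoh.D X) (-(k : ℤ) - 1) 1 (-(k : ℤ)) (by omega)).app K).symm ≪≫ a) ≪≫
      ((shiftFunctorAdd' (DCoh.D Y) (-(k : ℤ)) (-1) (-(k : ℤ) - 1) (by omega)).app _).symm⟩

/-- on an affine scheme the structure module detects the cohomology of quasi-coherent objects -/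
theorem isZero_HD_of_hom_affine (W : Scheme.{u}) [IsAffine W] (E : DCoh.D W) (hE : DCoh.IsQCohD E) (n : ℤ)
    (h : ∀ φ : DCoh.inD W (Coh.structureModule W) ⟶ E⟦n⟧, φ = 0) : IsZero (DCoh.HD E n) := by
  let R := Γ(W, ⊤)
  let j : Spec R ⟶ W := W.isoSpec.inv
  haveI := Groth.PropsBasic2.preservesFiniteLimits_tilde R
  haveI := Groth.Misc4.ApproxExtend.preservesFiniteLimits_restrictFunctor j
  obtain ⟨M, ⟨eM⟩⟩ := (Groth.Misc4.QCohTildeD.isQCohD_iff (R := R) _).1
    (Groth.Misc4.QCohDPerf.isQCohD_restrict j hE)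
  obtain ⟨ι⟩ := Groth.Misc4.KoszulUnit.nonempty_K_nil_iso (A := R)
  have hM : IsZero ((DerivedCategory.homologyFunctor (ModuleCat.{u} R) n).obj M) := by
    refine Groth.Misc4.KoszulOrth.isZero_of_orth [] (by simp) n fun φ => ?_
    refine (Groth.Misc4.QCohTildeD.bijective_map (R := R) _ _).1 ?_
    let σ : (DCoh.restrictD j).obj (DCoh.inD W (Coh.structureModule W)) ≅
        DCoh.inD (Spec R) (Coh.structureModule (Spec R)) :=
      ((Scheme.Modules.restrictFunctor j).mapDerivedCategorySingleFunctor 0).app _ ≪≫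
        (DerivedCategory.singleFunctor _ 0).mapIso (Scheme.Modules.restrictUnitIso j)
    let τ : (DCoh.tildeD R).obj (M⟦n⟧) ≅ (DCoh.restrictD j).obj (E⟦n⟧) :=
      ((DCoh.tildeD R).commShiftIso n).app M ≪≫ (shiftFunctor _ n).mapIso eM ≪≫
        (((DCoh.restrictD j).commShiftIso n).app E).symm
    obtain ⟨f, hf⟩ := Groth.Misc4.ApproxGlue.rd_surjective j (fun i x _ => ⟨W.isoSpec.hom.base x, by
      show (W.isoSpec.hom ≫ W.isoSpec.inv).base x = x
      simp⟩) (σ.hom ≫ ι.inv ≫ (DCoh.tildeD R).map φ ≫ τ.hom)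
    rw [h f, Functor.map_zero] at hf
    rw [← cancel_epi ι.inv, ← cancel_epi σ.hom, ← cancel_mono τ.hom]
    simpa using hf.symm
  obtain ⟨d⟩ := Groth.Misc4.KoszulUnit.nonempty_hd_tildeD M n
  obtain ⟨e⟩ := Groth.KTheory.Perf.nonempty_hdRd j E n
  have hz : IsZero ((Scheme.Modules.restrictFunctor j).obj (DCoh.HD E n)) :=
    ((tilde.functor R).map_isZero hM).of_iso (e.symm ≪≫
      (DerivedCategory.homologyFunctor _ n).mapIso eM.symm ≪≫ d)
  refine Groth.Misc4.ApproxExtend.isZero_iff_support.2 (Set.eq_empty_iff_forall_notMem.2 fun x hx => ?_)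
  obtain ⟨y, rfl⟩ : ∃ y, j.base y = x := ⟨W.isoSpec.hom.base x, by
    show (W.isoSpec.hom ≫ W.isoSpec.inv).base x = x
    simp⟩
  have hy := (Groth.Misc4.ApproxExtend.mem_support_hd_rd j E n y).2 hx
  exact Set.eq_empty_iff_forall_notMem.1 (Groth.Misc4.ApproxExtend.isZero_iff_support.1
    (hz.of_iso e)) y hy

/-- an affine morphism reflects zero objects with quasi-coherent cohomology -/
theorem isZero_of_isZero_Rpush (g : X ⟶ Y) [IsAffineHom g] [DCoh.HasRpush g] (E : DCoh.D X)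
    (hE : DCoh.IsQCohD E) (hz : IsZero ((DCoh.Rpush g).obj E)) : IsZero E := by
  refine Groth.DerivedCoh.PerfPush.isZero_of_HD fun m => ?_
  refine Groth.Misc4.ApproxExtend.isZero_iff_support.2 (Set.eq_empty_iff_forall_notMem.2 fun x hx => ?_)
  obtain ⟨V, hV, hxV, -⟩ := exists_isAffineOpen_mem_and_subset (x := g.base x) (U := (⊤ : Y.Opens)) trivial
  let W := g ⁻¹ᵁ V
  haveI : IsAffine (V : Scheme.{u}) := hV
  haveI : IsAffine (W : Scheme.{u}) := hV.preimage g
  haveI := Groth.Misc4.ApproxExtend.preservesFiniteLimits_restrictFunctor V.ι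
  haveI := Groth.Misc4.ApproxExtend.preservesFiniteLimits_restrictFunctor W.ι
  haveI : DCoh.HasRpush (g ∣_ V) := Groth.Misc4.PushRestrict.hasRightDerived _
  haveI := Groth.DerivedCoh.KFlat.hasLpull (g ∣_ V)
  obtain ⟨c⟩ := Groth.Misc4.PushRestrict.restrictD_Rpush_iso g V
  let E' := (DCoh.restrictD W.ι).obj E
  have hE'q : DCoh.IsQCohD E' := Groth.Misc4.QCohDPerf.isQCohD_restrict W.ι hE
  have hz' : IsZero ((DCoh.Rpush (g ∣_ V)).obj E') :=
    ((DCoh.restrictD V.ι).map_isZero hz).of_iso (c.app E).symm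
  have h0 : IsZero (DCoh.HD E' m) := by
    refine isZero_HD_of_hom_affine _ E' hE'q m fun φ => ?_
    obtain ⟨s⟩ := nonempty_Rpush_shift (g ∣_ V) E' m
    obtain ⟨u⟩ := Groth.RelPC.nonempty_Lpull_unitCx (g ∣_ V)
    let σV := (DerivedCategory.singleFunctorIsoCompQ (V : Scheme.{u}).Modules 0).app (Coh.structureModule _)
    let σW := (DerivedCategory.singleFunctorIsoCompQ (W : Scheme.{u}).Modules 0).app (Coh.structureModule _)
    let adj := Groth.DerivedCoh.PushPull.lpullRpushAdj (g ∣_ V)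
    have hs : IsZero ((DCoh.Rpush (g ∣_ V)).obj (E'⟦m⟧)) :=
      ((shiftFunctor _ m).map_isZero hz').of_iso s
    let υ : (DCoh.Lpull (g ∣_ V)).obj (DCoh.inD _ (Coh.structureModule (V : Scheme.{u}))) ≅
        DCoh.inD _ (Coh.structureModule (W : Scheme.{u})) :=
      (DCoh.Lpull (g ∣_ V)).mapIso σV ≪≫ u ≪≫ σW.symm
    rw [← cancel_epi υ.hom, comp_zero]
    exact (adj.homEquiv _ _).injective (hs.eq_of_tgt _ _)
  exact Set.eq_empty_iff_forall_notMem.1 (Groth.Misc4.ApproxExtend.isZero_iff_support.1 h0) ⟨x, hxV⟩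
    ((Groth.Misc4.ApproxExtend.mem_support_hd_rd W.ι E m ⟨x, hxV⟩).2 hx)

section twists

variable (n : ℕ) (g : X ⟶ CohB1.ProjSpace n (ULift.{u} ℤ))

/-- the pulled back twists -/
noncomputable abbrev tw (d : ℤ) : X.Modules :=
  (Scheme.Modules.pullback g).obj (Twist.twistProjSpace n (ULift.{u} ℤ) d)

theorem isFinLocFree_tw (d : ℤ) : FlatMod.IsFinLocFree (tw n g d) :=
  Groth.LocFree.isFinLocFree_pullback g fun x =>
    let ⟨U, hx, e⟩ := LocFree.isInvertible_iff_ofRank_one.mp (Groth.PnCoh.isInvertible_twist n (ULift.{u} ℤ) d) x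
    ⟨U, 1, hx, e⟩

theorem exists_epi_over {Q : ObjectProperty (DCoh.D (CohB1.ProjSpaceOver n (Spec (CommRingCat.of (ULift.{u} ℤ)))))}
    [Q.IsTriangulated] [Q.IsClosedUnderIsomorphisms]
    (hQ : ∀ d, Q (DCoh.inD _ (Twist.twistOver n (Spec (CommRingCat.of (ULift.{u} ℤ))) d)))
    (M : (CohB1.ProjSpaceOver n (Spec (CommRingCat.of (ULift.{u} ℤ)))).Modules) (hM : Coh.IsCoh M) :
    ∃ (E : (CohB1.ProjSpaceOver n (Spec (CommRingCat.of (ULift.{u} ℤ)))).Modules) (φ : E ⟶ M),
      Epi φ ∧ Coh.IsCoh E ∧ Q (DCoh.inD _ E) := by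
  let Z := ULift.{u} ℤ
  let ι := Groth.PnCoh.overIso n Z
  let F := Scheme.Modules.pullback ι.hom
  let G := Scheme.Modules.pullback ι.inv
  let c : F ⋙ G ≅ 𝟭 _ := Scheme.Modules.pullbackComp ι.inv ι.hom ≪≫
    Scheme.Modules.pullbackCongr ι.inv_hom_id ≪≫ Scheme.Modules.pullbackId _
  haveI := Groth.PnCoh.isLocallyNoetherian_projSpace n Z
  haveI : IsLocallyNoetherian (CohB1.ProjSpaceOver n (Spec (CommRingCat.of Z))) :=
    LocallyOfFiniteType.isLocallyNoetherian ι.inv
  obtain ⟨r, d, φ, -, hφ⟩ := Groth.PnCoh.exists_epi_twists (CohB1.polyGrading n Z) (F.obj M)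
    (Groth.FlatStrata.isCoh_pullback ι.hom hM) 0
  haveI : G.IsLeftAdjoint := (Scheme.Modules.pullbackPushforwardAdjunction ι.inv).isLeftAdjoint
  haveI := hφ
  let N : Fin r → (CohB1.ProjSpaceOver n (Spec (CommRingCat.of Z))).Modules :=
    fun j => Twist.twistOver n (Spec (CommRingCat.of Z)) (d j)
  let e : (∐ N) ≅ G.obj (∐ fun j : Fin r => Twist.twistProjSpace n Z (d j)) :=
    (Sigma.mapIso fun j => (c.app (N j)).symm ≪≫
      G.mapIso (Groth.PnCoh.nonempty_pullback_overIso_twist n Z (d j)).some) ≪≫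
      (PreservesCoproduct.iso G _).symm
  haveI : Epi (G.map φ) :=
    @Functor.map_epi _ _ _ _ G (Functor.preservesEpimorphisms_of_adjunction
      (Scheme.Modules.pullbackPushforwardAdjunction ι.inv)) _ _ φ hφ
  refine ⟨∐ N, e.hom ≫ G.map φ ≫ (c.app M).hom, ?_, ?_, ?_⟩
  · exact @epi_comp _ _ _ _ _ e.hom inferInstance (G.map φ ≫ (c.app M).hom) (@epi_comp _ _ _ _ _ (G.map φ) this (c.app M).hom inferInstance)
  · exact Groth.RelPC.prop_sigma_finite (fun M => Coh.IsCoh M) (fun e h => Groth.QCohMod.isCoh_of_iso e h)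
      (fun M hM => Groth.Misc4.CohProperSupp.isCoh_of_isZero hM) (fun A B hA hB => Groth.QCohMod.isCoh_biprod hA hB)
      _ N fun j => ⟨Groth.KTheory.LocFree.isQCoh (Groth.KTheory.RegSheaf.isFinLocFree_twistOver n _ (d j)), Groth.Ega2Proj.isFT_of_isInvertible (Groth.KTheory.RegSheaf.isInvertible_twistOver n _ (d j))⟩
  · refine Groth.RelPC.prop_sigma_finite (fun M => Q (DCoh.inD _ M))
      (fun e hM => Q.prop_of_iso ((DerivedCategory.singleFunctor _ 0).mapIso e) hM) (fun M hM => ?_)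
      (fun A B hA hB => Q.ext_of_isTriangulatedClosed₂ _
        (ShortComplex.Splitting.ofHasBinaryBiproduct A B).shortExact.singleTriangle_distinguished hA hB)
      _ N fun j => hQ _
    obtain ⟨W, hW, hQW⟩ := Q.exists_prop_of_containsZero
    exact Q.prop_of_iso (hW.iso ((DerivedCategory.singleFunctor _ 0).map_isZero hM)) hQW

set_option linter.unusedSectionVars false

variable [IsAffineHom g] [CompactSpace X] [QuasiSeparatedSpace X]

/-- twists in any window of length `n + 1` generate -/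
theorem isZero_of_orth_window (a₀ : ℤ) (E : DCoh.D X) (hE : DCoh.IsQCohD E)
    (h : ∀ d : ℤ, a₀ ≤ d → d ≤ a₀ + n → Orth E (DCoh.inD X (tw n g d))) : IsZero E := by
  let Z := ULift.{u} ℤ
  let T : Scheme.{u} := Spec (CommRingCat.of Z)
  let ι := (Groth.PnCoh.overIso n Z)
  let k : X ⟶ CohB1.ProjSpaceOver n T := g ≫ ι.hom
  haveI : IsAffineHom k := inferInstance
  haveI : IsProper (CohB1.ProjSpaceOver.toBase n T) := inferInstance
  haveI : IsLocallyNoetherian (CohB1.ProjSpaceOver n T) :=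
    LocallyOfFiniteType.isLocallyNoetherian (CohB1.ProjSpaceOver.toBase n T)
  haveI : CompactSpace (CohB1.ProjSpaceOver n T) :=
    QuasiCompact.compactSpace_of_compactSpace (CohB1.ProjSpaceOver.toBase n T)
  haveI : IsNoetherian (CohB1.ProjSpaceOver n T) := {}
  haveI := Groth.DerivedCoh.KFlat.hasLpull k
  haveI : DCoh.HasRpush k := Groth.Misc4.PushRestrict.hasRightDerived _
  let adj := Groth.DerivedCoh.PushPull.lpullRpushAdj k
  let E' := (DCoh.Rpush k).obj E
  have hpull : ∀ d : ℤ, Nonempty ((DCoh.Lpull k).obj (DCoh.inD _ (Twist.twistOver n T d)) ≅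
      DCoh.inD X (tw n g d)) := fun d => by
    obtain ⟨e⟩ := Groth.PnCoh.nonempty_pullback_overIso_twist n Z d
    have hfl : FlatMod.IsFinLocFree (Twist.twistOver n T d) :=
      Groth.KTheory.RegSheaf.isFinLocFree_twistOver n T d
    exact ⟨(DCoh.Lpull k).mapIso ((DerivedCategory.singleFunctorIsoCompQ _ 0).app _) ≪≫
      Groth.DerivedCoh.KFlat.lpullQIso k _ (Groth.Misc4.QCohDColim.isKFlat_single _
        (Groth.DerivedCoh.PCoh.isFlat_of_isFinLocFree hfl) 0) ≪≫
      DerivedCategory.Q.mapIso ((HomologicalComplex.singleMapHomologicalComplex _ (ComplexShape.up ℤ) 0).app _) ≪≫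
      ((DerivedCategory.singleFunctorIsoCompQ X.Modules 0).app _).symm ≪≫
      (DerivedCategory.singleFunctor X.Modules 0).mapIso
        (((Scheme.Modules.pullbackComp g ι.hom).app _).symm ≪≫ (Scheme.Modules.pullback g).mapIso e)⟩
  have hwin : ∀ d : ℤ, a₀ ≤ d → d ≤ a₀ + n → Orth E' (DCoh.inD _ (Twist.twistOver n T d)) := by
    intro d h₁ h₂ m φ
    obtain ⟨e⟩ := hpull d
    obtain ⟨s⟩ := nonempty_Rpush_shift k E (-m)
    let ε := shiftFunctorCompIsoId (DCoh.D (CohB1.ProjSpaceOver n T)) m (-m) (by omega)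
    let ψ : DCoh.inD _ (Twist.twistOver n T d) ⟶ (DCoh.Rpush k).obj (E⟦-m⟧) :=
      ε.inv.app _ ≫ φ⟦-m⟧' ≫ s.inv
    have h0 : ∀ χ : DCoh.inD X (tw n g d) ⟶ E⟦-m⟧, χ = 0 := fun χ => by
      have := h d h₁ h₂ m
      let ε' := shiftFunctorCompIsoId (DCoh.D X) (-m) m (by omega)
      refine (shiftFunctor (DCoh.D X) m).map_injective ?_
      rw [Functor.map_zero, ← cancel_mono (ε'.hom.app E), zero_comp]
      exact this _
    have hψ : ψ = 0 := by
      refine (adj.homEquiv _ _).symm.injective ?_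
      rw [(cancel_epi e.inv).1 ((h0 (e.inv ≫ (adj.homEquiv _ _).symm ψ)).trans comp_zero.symm)]
      exact ((cancel_epi e.inv).1 ((h0 (e.inv ≫ (adj.homEquiv _ _).symm 0)).trans comp_zero.symm)).symm
    refine (shiftFunctor (DCoh.D _) (-m)).map_injective ?_
    rw [Functor.map_zero, ← cancel_epi (ε.inv.app _), ← cancel_mono s.inv, comp_zero, zero_comp,
      Category.assoc]
    exact hψ
  have hall : ∀ d : ℤ, Orth E' (DCoh.inD _ (Twist.twistOver n T d)) := prop_twist_of_window _ a₀ hwin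
  let Q : ObjectProperty (DCoh.D (CohB1.ProjSpaceOver n T)) :=
    (fun K => DCoh.IsPerfect K) ⊓ Orth E'
  haveI : Q.IsTriangulated :=
    { toContainsZero := ⟨⟨0, isZero_zero _, Groth.KTheory.Perf.isPerfect_of_isZero (isZero_zero _),
        fun m φ => ((shiftFunctor _ m).map_isZero (isZero_zero _)).eq_of_src _ _⟩⟩
      toIsStableUnderShift := ⟨fun a => ObjectProperty.IsStableUnderShiftBy.mk fun K hK =>
        ⟨Groth.KTheory.Perf.isPerfect_shift hK.1 a, (Orth E').le_shift a K hK.2⟩⟩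
      toIsTriangulatedClosed₂ := ObjectProperty.IsTriangulatedClosed₂.mk' fun T hT h₁ h₃ =>
        ⟨Groth.KTheory.Perf.isPerfect_obj₂ T hT h₁.1 h₃.1,
          (Orth E').ext_of_isTriangulatedClosed₂ T hT h₁.2 h₃.2⟩ }
  haveI : Q.IsClosedUnderIsomorphisms :=
    ⟨fun e hK => ⟨Groth.KTheory.Perf.isPerfect_of_iso e hK.1, (Orth E').prop_of_iso e hK.2⟩⟩
  have htwQ : ∀ d, Q (DCoh.inD _ (Twist.twistOver n T d)) := fun d =>
    ⟨Groth.KTheory.Perf.isPerfect_inD_of_finLocFree (Groth.KTheory.RegSheaf.isFinLocFree_twistOver n T d), hall d⟩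
  have hperf : ∀ K, DCoh.IsPerfect K → Orth E' K := fun K hK => by
    obtain ⟨R, hR, ⟨r⟩⟩ := exists_retract_of_perfect (Q := Q) (fun _ h => h.1) (exists_epi_over n htwQ) K hK
    exact (Orth E').prop_of_retract r hR.2
  obtain ⟨P, hP, hPgen⟩ := Groth.Agent.S1008.result (CohB1.ProjSpaceOver n T)
  exact isZero_of_isZero_Rpush k E hE ((hPgen E' (Groth.Misc4.QCohRpushD.isQCohD k E hE)).2 (hperf P hP))

/-- a triangulated retract closed class containing a window of twists contains the perfect objects -/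
theorem prop_of_perfect_tw (Q : ObjectProperty (DCoh.D X)) [Q.IsTriangulated] [Q.IsClosedUnderIsomorphisms]
    [Q.IsStableUnderRetracts] (a₀ : ℤ)
    (h : ∀ d : ℤ, a₀ ≤ d → d ≤ a₀ + n → Q (DCoh.inD X (tw n g d))) (P : DCoh.D X) (hP : DCoh.IsPerfect P) :
    Q P := by
  let N : Fin (n + 1) → X.Modules := fun i => tw n g (a₀ + (i : ℕ))
  let G := ∐ N
  have hG : DCoh.IsPerfect (DCoh.inD X G) :=
    Groth.KTheory.Perf.isPerfect_inD_of_finLocFree
      (Groth.DerivedCoh.PCoh.isFinLocFree_sigma_finite _ N fun i => isFinLocFree_tw n g _)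
  have hQG : Q (DCoh.inD X G) := by
    refine Groth.RelPC.prop_sigma_finite (fun M : X.Modules => Q (DCoh.inD X M))
      (fun e hM => Q.prop_of_iso ((DerivedCategory.singleFunctor _ 0).mapIso e) hM) (fun M hM => ?_)
      (fun A B hA hB => Q.ext_of_isTriangulatedClosed₂ _
        (ShortComplex.Splitting.ofHasBinaryBiproduct A B).shortExact.singleTriangle_distinguished hA hB)
      _ N fun i => h _ (by omega) (by have := i.isLt; omega)
    obtain ⟨Z, hZ, hQZ⟩ := Q.exists_prop_of_containsZero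
    exact Q.prop_of_iso (hZ.iso ((DerivedCategory.singleFunctor _ 0).map_isZero hM)) hQZ
  haveI : ObjectProperty.Nonempty (fun K : DCoh.D X => K = DCoh.inD X G) :=
    ObjectProperty.nonempty_of_prop (X := DCoh.inD X G) rfl
  have henv := Groth.Misc4.PerfectEnvelope.mem_envelope (DCoh.inD X G) hG (fun E hE hE0 => ?_) P hP
  · exact (ObjectProperty.triangEnvelope_le_iff (P := fun K : DCoh.D X => K = DCoh.inD X G) (Q := Q)).2
      (fun K hK => hK ▸ hQG) P henv
  · refine isZero_of_orth_window n g a₀ E hE fun d h₁ h₂ => ?_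
    let i : Fin (n + 1) := ⟨(d - a₀).toNat, by omega⟩
    have hi : tw n g d = N i := by
      show _ = tw n g (a₀ + ((d - a₀).toNat : ℕ))
      rw [show a₀ + ((d - a₀).toNat : ℕ) = d by omega]
    rw [hi]
    let r : Retract (DCoh.inD X (N i)) (DCoh.inD X G) :=
      { i := (DerivedCategory.singleFunctor X.Modules 0).map (Sigma.ι N i)
        r := (DerivedCategory.singleFunctor X.Modules 0).map (Sigma.π N i)
        retract := by rw [← Functor.map_comp, Sigma.ι_π_eq_id]; exact CategoryTheory.Functor.map_id _ _ }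
    exact (Orth E).prop_of_retract r hE0

end twists

end Groth.RelPC.PnPush
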