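import Groth.Agent.Misc4.KoszulFactor
import Groth.Agent.Misc4.QCohTildeD
import Groth.Agent.DerivedCoh.PCoh.TopCohomology
import Groth.Agent.DescentBase.QCohFpqc
import Groth.Agent.PropsBasic.FPSections
import Groth.Agent.RelPC.PnPush.Gen
import Groth.Agent.RelPC.Sections

/-!
The structure module as a test object for the top cohomology over an affine scheme.
-/

set_option linter.style.haveILetI false

universe u

open CategoryTheory CategoryTheory.Limits AlgebraicGeometry

namespace Groth.RelPC.PnPush

attribute [local instance] HasDerivedCategory.standard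

local notation "up" => ComplexShape.up ℤ

/-- the structure module placed in degree `k` -/
noncomputable abbrev strMod (X : Scheme.{u}) (k : ℤ) : DCoh.D X :=
  (DerivedCategory.singleFunctor X.Modules k).obj (Coh.structureModule X)

attribute [local instance] Groth.RelPC.preservesFiniteLimits_tilde'

variable (R : CommRingCat.{u})

/-- maps out of a projective module in one degree are maps of complexes -/
theorem exists_single_lift {P : ModuleCat.{u} R} [Projective P] (k : ℤ)
    (L : CochainComplex (ModuleCat.{u} R) ℤ)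
    (φ : DerivedCategory.Q.obj ((HomologicalComplex.single (ModuleCat.{u} R) up k).obj P) ⟶
      DerivedCategory.Q.obj L) : ∃ f, DerivedCategory.Q.map f = φ := by
  let K : CochainComplex (ModuleCat.{u} R) ℤ := (HomologicalComplex.single (ModuleCat.{u} R) up k).obj P
  haveI : K.IsKProjective := by
    haveI : ∀ n, Projective (K.X n) := fun n => by
      by_cases h : n = k
      · subst h
        exact Projective.of_iso (HomologicalComplex.singleObjXSelf up n P).symm inferInstance
      · exact (HomologicalComplex.isZero_single_obj_X _ _ _ _ h).projective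
    exact CochainComplex.isKProjective_of_projective K k
  let q := DerivedCategory.quotientCompQhIso (ModuleCat.{u} R)
  obtain ⟨g, hg⟩ := (CochainComplex.IsKProjective.Qh_map_bijective K
    ((HomotopyCategory.quotient _ up).obj L)).surjective (q.hom.app K ≫ φ ≫ q.inv.app L)
  obtain ⟨f, rfl⟩ := (HomotopyCategory.quotient _ up).map_surjective g
  refine ⟨f, ?_⟩
  refine (cancel_epi (q.hom.app K)).1 ((q.hom.naturality f).symm.trans ?_)
  rw [Functor.comp_map]
  rw [hg]
  simp

/-- `A~` in degree `k` is the structure module in degree `k` -/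
theorem nonempty_tildeD_singleK (k : ℤ) :
    Nonempty ((DCoh.tildeD R).obj ((DerivedCategory.singleFunctor (ModuleCat.{u} R) k).obj (ModuleCat.of R R)) ≅
      strMod (Spec R) k) :=
  ⟨((tilde.functor R).mapDerivedCategorySingleFunctor k).app _ ≪≫
    (DerivedCategory.singleFunctor _ k).mapIso (tildeSelf (R := R))⟩

/-- nothing maps from the structure module above the amplitude -/
theorem eq_zero_of_isLE_affine (M : DCoh.D (Spec R)) (hM : DCoh.IsQCohD M) (b k : ℤ) [M.IsLE b]
    (hk : b < k) (φ : strMod (Spec R) k ⟶ M) : φ = 0 := by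
  obtain ⟨N, ⟨e⟩⟩ := (Groth.Misc4.QCohTildeD.isQCohD_iff (R := R) M).1 hM
  haveI : N.IsLE b := (DerivedCategory.isLE_iff _ _).2 fun i hi => by
    obtain ⟨c⟩ := Groth.Misc4.KoszulUnit.nonempty_hd_tildeD' (R := R) N i
    exact Groth.Misc4.KoszulUnit.isZero_of_isZero_tilde _
      ((M.isZero_of_isLE b i hi).of_iso (c.symm ≪≫ (DerivedCategory.homologyFunctor _ i).mapIso e))
  obtain ⟨L, hL, ⟨eL⟩⟩ := N.exists_iso_Q_obj_of_isLE b
  obtain ⟨σ⟩ := nonempty_tildeD_singleK R k
  obtain ⟨ψ, hψ⟩ := (Groth.Misc4.QCohTildeD.bijective_map (R := R) _ _).2 (σ.hom ≫ φ ≫ e.inv)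
  let s := (DerivedCategory.singleFunctorIsoCompQ (ModuleCat.{u} R) k).app (ModuleCat.of R R)
  obtain ⟨f, hf⟩ := exists_single_lift R k L (s.inv ≫ ψ ≫ eL.hom)
  have hf0 : f = 0 := HomologicalComplex.hom_ext _ _ fun i => by
    by_cases h : i = k
    · exact (L.isZero_of_isStrictlyLE b i (by omega)).eq_of_tgt _ _
    · exact (HomologicalComplex.isZero_single_obj_X _ _ _ _ h).eq_of_src _ _
  rw [hf0, Functor.map_zero] at hf
  have hψ0 : ψ = 0 := by
    rw [← cancel_epi s.inv, ← cancel_mono eL.hom, comp_zero, zero_comp, Category.assoc]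
    exact hf.symm
  rw [← cancel_epi σ.hom, ← cancel_mono e.inv, comp_zero, zero_comp, Category.assoc]
  exact hψ.symm.trans ((congrArg (DCoh.tildeD R).map hψ0).trans (Functor.map_zero _ _ _))

/-- cohomology of a complex of modules made into sheaves -/
noncomputable def hdTildeIso (b : ℤ) :
    DerivedCategory.Q ⋙ DCoh.tildeD R ⋙ DerivedCategory.homologyFunctor (Spec R).Modules b ≅
      HomologicalComplex.homologyFunctor (ModuleCat.{u} R) up b ⋙ tilde.functor R :=
  (Functor.associator _ _ _).symm ≪≫
    Functor.isoWhiskerRight (tilde.functor R).mapDerivedCategoryFactors _ ≪≫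
    Functor.associator _ _ _ ≪≫
    Functor.isoWhiskerLeft _ (DerivedCategory.homologyFunctorFactors (Spec R).Modules b) ≪≫
    NatIso.ofComponents (fun L => (L.sc b).mapHomologyIso (tilde.functor R))
      (fun f => ShortComplex.mapHomologyIso_hom_naturality
        ((HomologicalComplex.shortComplexFunctor (ModuleCat.{u} R) up b).map f) (tilde.functor R))

/-- finitely many sections generate the top cohomology of a pseudo-coherent object -/
theorem exists_gen_top (M : DCoh.D (Spec R)) (hq : DCoh.IsQCohD M)
    (hM : ∀ m : ℤ, DCoh.IsPseudoCoherentD m M) (b : ℤ) [M.IsLE b] :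
    ∃ (k : ℕ) (s : Fin k → (strMod (Spec R) b ⟶ M)), ∀ (P : DCoh.D (Spec R)) (α : P ⟶ M),
      (∀ i, ∃ t, t ≫ α = s i) → Epi ((DerivedCategory.homologyFunctor _ b).map α) := by
  obtain ⟨N, ⟨e⟩⟩ := (Groth.Misc4.QCohTildeD.isQCohD_iff (R := R) M).1 hq
  let L := DerivedCategory.Q.objPreimage N
  let eM : (DCoh.tildeD R).obj (DerivedCategory.Q.obj L) ≅ M :=
    (DCoh.tildeD R).mapIso (DerivedCategory.Q.objObjPreimageIso N) ≪≫ e
  let ν := hdTildeIso R b
  let eH : (tilde.functor R).obj (L.homology b) ≅ DCoh.HD M b :=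
    (ν.app L).symm ≪≫ (DerivedCategory.homologyFunctor _ b).mapIso eM
  haveI hfin : Module.Finite R (L.homology b) := by
    haveI : (DCoh.HD M b).IsQuasicoherent := hq b
    refine (Groth.PropsBasic.FPSections.isFT_tilde_iff (R := R) _).1
      (Groth.DescentBase.QCohFpqc.isFT_of_iso eH.symm ?_)
    exact Groth.DerivedCoh.PCoh.isFT_top (hM b) fun i hi => M.isZero_of_isLE b i hi
  obtain ⟨k, g, hg⟩ := Module.Finite.exists_fin (R := R) (M := L.homology b)
  have hsurj : Function.Surjective (L.homologyπ b) :=
    (ModuleCat.epi_iff_surjective _).1 inferInstance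
  choose c hc using fun i => hsurj (g i)
  let z : Fin k → (ModuleCat.of R R ⟶ L.cycles b) := fun i =>
    ModuleCat.ofHom (LinearMap.toSpanSingleton R _ (c i))
  let f : Fin k → ((HomologicalComplex.single (ModuleCat.{u} R) up b).obj (ModuleCat.of R R) ⟶ L) := fun i =>
    HomologicalComplex.mkHomFromSingle (z i ≫ L.iCycles b) fun j _ => by
      rw [Category.assoc, HomologicalComplex.iCycles_d, comp_zero]
  have hcyc : ∀ i, (HomologicalComplex.singleObjCyclesSelfIso up b _).inv ≫
      HomologicalComplex.cyclesMap (f i) b = z i := fun i => by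
    rw [← cancel_mono (L.iCycles b), Category.assoc, HomologicalComplex.cyclesMap_i,
      HomologicalComplex.singleObjCyclesSelfIso_inv_iCycles_assoc,
      HomologicalComplex.mkHomFromSingle_f, Iso.inv_hom_id_assoc]
  have hgen : ∀ {Z : (Spec R).Modules} (h : (tilde.functor R).obj (L.homology b) ⟶ Z),
      (∀ i, (tilde.functor R).map (HomologicalComplex.homologyMap (f i) b) ≫ h = 0) → h = 0 := by
    intro Z h hh
    let adj := tilde.adjunction (R := R)
    refine (adj.homEquiv _ _).injective ?_
    have h0 : ∀ i, HomologicalComplex.homologyMap (f i) b ≫ adj.homEquiv _ _ h = 0 := fun i => by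
      rw [← adj.homEquiv_naturality_left, hh i]
      simp [Adjunction.homEquiv_unit]
    have hgi : ∀ i, (adj.homEquiv _ _ h) (g i) = 0 := fun i => by
      have h1 := congrArg (fun t => (HomologicalComplex.singleObjCyclesSelfIso up b (ModuleCat.of R R)).inv ≫
        ((HomologicalComplex.single (ModuleCat.{u} R) up b).obj (ModuleCat.of R R)).homologyπ b ≫ t) (h0 i)
      simp only [comp_zero, HomologicalComplex.homologyπ_naturality_assoc, reassoc_of% (hcyc i)] at h1
      have h2 := congrArg (fun (t : ModuleCat.of R R ⟶ _) => t.hom (1 : R)) h1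
      refine Eq.trans ?_ h2
      exact congrArg (adj.homEquiv _ _ h).hom ((hc i).symm.trans
        (congrArg (L.homologyπ b).hom (one_smul R (c i)).symm))
    have hzero : adj.homEquiv _ _ h = 0 :=
      ModuleCat.hom_ext (LinearMap.ext_on_range hg fun i => by simpa using hgi i)
    rw [hzero]
    simp [Adjunction.homEquiv_unit]
  obtain ⟨σ⟩ := nonempty_tildeD_singleK R b
  let s' := (DerivedCategory.singleFunctorIsoCompQ (ModuleCat.{u} R) b).app (ModuleCat.of R R)
  refine ⟨k, fun i => σ.inv ≫ (DCoh.tildeD R).map (s'.hom ≫ DerivedCategory.Q.map (f i)) ≫ eM.hom,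
    fun P α hα => Preadditive.epi_of_cancel_zero _ fun {Z} h hh => ?_⟩
  let H := DerivedCategory.homologyFunctor (Spec R).Modules b
  have hker : ∀ i, H.map ((DCoh.tildeD R).map (DerivedCategory.Q.map (f i))) ≫
      H.map eM.hom ≫ h = 0 := fun i => by
    obtain ⟨t, ht⟩ := hα i
    have h1 : H.map t ≫ H.map α ≫ h = 0 := by rw [hh, comp_zero]
    rw [← H.map_comp_assoc, ht, Functor.map_comp, Functor.map_comp, Functor.map_comp] at h1
    simp only [Category.assoc] at h1
    have h3 := (cancel_epi (H.map σ.inv)).1 (h1.trans comp_zero.symm)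
    rw [Functor.map_comp, Category.assoc] at h3
    exact (cancel_epi (H.map ((DCoh.tildeD R).map s'.hom))).1 (h3.trans comp_zero.symm)
  have h4 : (ν.app L).inv ≫ H.map eM.hom ≫ h = 0 := hgen _ fun i => by
    have hn := ν.inv.naturality (f i)
    refine (reassoc_of% hn) _ |>.trans ?_
    exact (congrArg (ν.inv.app _ ≫ ·) (hker i)).trans comp_zero
  have h5 := (cancel_epi (ν.app L).inv).1 (h4.trans comp_zero.symm)
  exact (cancel_epi (H.map eM.hom)).1 (h5.trans comp_zero.symm)

end Groth.RelPC.PnPush
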