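import Groth.Agent.PicAux.Powers
import Groth.Agent.DerivedCoh.KFlat.Amplitude
import Groth.Agent.DerivedCoh.PerfPush.FlatProper
import Groth.Agent.DerivedCoh.PCoh.Perfect
import Groth.Agent.Misc4.QCohDPerf
import Groth.Agent.RelPC.QCoh

/-!
Twisting by an invertible module on the derived category.
-/

set_option linter.style.haveILetI false

universe u

open CategoryTheory CategoryTheory.Limits AlgebraicGeometry
open Groth.KTheory.Perf (Rd Rc rdQIso exists_rep)

namespace Groth.RelPC.PnPush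

attribute [local instance] HasDerivedCategory.standard

local notation "up" => ComplexShape.up ℤ

variable {X : Scheme.{u}}

/-- `- ⊗ L` on the derived category, for invertible `L` -/
noncomputable def twD (L : X.Modules) (hL : PicF.IsInvertible L) : DCoh.D X ⥤ DCoh.D X :=
  haveI := Groth.PicAux.isEquivalence_tensorRightMod_of_isInvertible hL
  (DCoh.tensorRightMod L).mapDerivedCategory

variable (L : X.Modules) (hL : PicF.IsInvertible L)

/-- value on complexes -/
noncomputable def twDQIso : DerivedCategory.Q ⋙ twD L hL ≅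
    (DCoh.tensorRightMod L).mapHomologicalComplex up ⋙ DerivedCategory.Q :=
  haveI := Groth.PicAux.isEquivalence_tensorRightMod_of_isInvertible hL
  (DCoh.tensorRightMod L).mapDerivedCategoryFactors

noncomputable instance commShift_twD : (twD L hL).CommShift ℤ := by
  haveI := Groth.PicAux.isEquivalence_tensorRightMod_of_isInvertible hL
  exact inferInstanceAs ((DCoh.tensorRightMod L).mapDerivedCategory.CommShift ℤ)

instance isTriangulated_twD : (twD L hL).IsTriangulated := by
  haveI := Groth.PicAux.isEquivalence_tensorRightMod_of_isInvertible hL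
  exact inferInstanceAs ((DCoh.tensorRightMod L).mapDerivedCategory.IsTriangulated)

/-- value on modules in one degree -/
theorem nonempty_twD_single (M : X.Modules) (n : ℤ) :
    Nonempty ((twD L hL).obj ((DerivedCategory.singleFunctor X.Modules n).obj M) ≅
      (DerivedCategory.singleFunctor X.Modules n).obj ((DCoh.tensorRightMod L).obj M)) :=
  haveI := Groth.PicAux.isEquivalence_tensorRightMod_of_isInvertible hL
  ⟨((DCoh.tensorRightMod L).mapDerivedCategorySingleFunctor n).app M⟩

/-- the derived tensor product with an invertible module is the twist -/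
theorem nonempty_ltm_twD [DCoh.HasLTensorMod L] (K : DCoh.D X) :
    Nonempty ((DCoh.LTensorMod L).obj K ≅ (twD L hL).obj K) := by
  obtain ⟨C₀, ⟨e⟩⟩ := exists_rep K
  let C := (Groth.DerivedCoh.KFlat.flatResolution X).obj C₀
  haveI := Groth.DerivedCoh.KFlat.flatResolution_quasiIso C₀
  let eC : DCoh.toD X C ≅ K :=
    asIso (DerivedCategory.Q.map ((Groth.DerivedCoh.KFlat.flatResolutionAug X).app C₀)) ≪≫ e
  exact ⟨(DCoh.LTensorMod L).mapIso eC.symm ≪≫
    Groth.DerivedCoh.KFlat.ltmQIso L C (Groth.DerivedCoh.KFlat.flatResolution_isKFlat C₀) ≪≫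
    ((twDQIso L hL).app C).symm ≪≫ (twD L hL).mapIso eC⟩

/-- inverse twists -/
theorem nonempty_twD_twD {L M : X.Modules} (hL : PicF.IsInvertible L) (hM : PicF.IsInvertible M)
    (h : ClSub.IsInverseOf L M) : Nonempty (twD L hL ⋙ twD M hM ≅ 𝟭 (DCoh.D X)) := by
  let e₀ : DCoh.tensorRightMod L ⋙ DCoh.tensorRightMod M ≅ 𝟭 X.Modules :=
    ((Groth.PicAux.twistEquiv h).unitIso).symm
  let e : DerivedCategory.Q ⋙ twD L hL ⋙ twD M hM ≅ DerivedCategory.Q :=
    (Functor.associator _ _ _).symm ≪≫ Functor.isoWhiskerRight (twDQIso L hL) _ ≪≫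
      Functor.associator _ _ _ ≪≫ Functor.isoWhiskerLeft _ (twDQIso M hM) ≪≫
      NatIso.ofComponents (fun C => DerivedCategory.Q.mapIso
        (HomologicalComplex.Hom.isoOfComponents (fun i => e₀.app (C.X i))
          (fun i j _ => (e₀.hom.naturality (C.d i j)).symm)))
        (fun {C D} f => by
          show DerivedCategory.Q.map _ ≫ DerivedCategory.Q.map _ = DerivedCategory.Q.map _ ≫ DerivedCategory.Q.map f
          rw [← Functor.map_comp, ← Functor.map_comp]
          exact congrArg _ (HomologicalComplex.hom_ext _ _ fun i => e₀.hom.naturality (f.f i)))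
  exact ⟨Localization.liftNatIso DerivedCategory.Q (HomologicalComplex.quasiIso X.Modules up)
    (DerivedCategory.Q ⋙ twD L hL ⋙ twD M hM) DerivedCategory.Q _ _ e⟩

theorem isEquivalence_twD : (twD L hL).IsEquivalence := by
  obtain ⟨M, hM, h⟩ := Groth.PicAux.exists_isInverseOf hL
  obtain ⟨e⟩ := nonempty_twD_twD hL hM h
  obtain ⟨e'⟩ := nonempty_twD_twD hM hL (Groth.PicAux.isInverseOf_symm h)
  exact (CategoryTheory.Equivalence.mk (twD L hL) (twD M hM) e.symm e').isEquivalence_functor

/-- twisting is locally trivial -/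
theorem exists_rd_twD (x : X) : ∃ V : X.Opens, x ∈ V ∧ ∀ K : DCoh.D X,
    Nonempty ((Rd V.ι).obj ((twD L hL).obj K) ≅ (Rd V.ι).obj K) := by
  obtain ⟨V, hx, ⟨c⟩⟩ := hL x
  refine ⟨V, hx, fun K => ?_⟩
  obtain ⟨C, ⟨eC⟩⟩ := exists_rep K
  exact ⟨(Rd V.ι).mapIso ((twD L hL).mapIso eC.symm ≪≫ (twDQIso L hL).app C) ≪≫ rdQIso V.ι _ ≪≫
    DerivedCategory.Q.mapIso
      ((NatIso.mapHomologicalComplex (Groth.DerivedCoh.PerfPush.restrTm V.ι L).symm up).app C ≪≫
        (NatIso.mapHomologicalComplex (Groth.PicAux.twistCongr c ≪≫ Groth.PicAux.twistUnitIso) up).app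
          ((Rc V.ι).obj C) ≪≫ (Functor.mapHomologicalComplexIdIso _ up).app _) ≪≫
    (rdQIso V.ι C).symm ≪≫ (Rd V.ι).mapIso eC⟩

theorem pcD_twD {m : ℤ} {K : DCoh.D X} (hK : DCoh.IsPseudoCoherentD m K) :
    DCoh.IsPseudoCoherentD m ((twD L hL).obj K) := by
  refine Groth.DerivedCoh.PCoh.isPseudoCoherentD_of_local fun x => ?_
  obtain ⟨V, hx, h⟩ := exists_rd_twD L hL x
  exact ⟨V, hx, Groth.DerivedCoh.PCoh.isPseudoCoherentD_of_iso (h K).some.symm
    (Groth.DerivedCoh.PCohDescent.pcoh_rd V.ι hK)⟩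

theorem isQCohD_twD {K : DCoh.D X} (hK : DCoh.IsQCohD K) : DCoh.IsQCohD ((twD L hL).obj K) := fun i =>
  Groth.QCohMod.isQCoh_of_forall_exists _ fun x => by
    obtain ⟨V, hx, h⟩ := exists_rd_twD L hL x
    obtain ⟨c⟩ := Groth.KTheory.Perf.nonempty_hdRd V.ι ((twD L hL).obj K) i
    exact ⟨V, hx, (Groth.QCohMod.isQCoh_iff_of_iso ((DerivedCategory.homologyFunctor _ i).mapIso
      (h K).some.symm ≪≫ c)).1 (Groth.Misc4.QCohDPerf.isQCohD_restrict V.ι hK i)⟩

end Groth.RelPC.PnPush
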