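import Groth.Agent.RelPC.PnPush.AffineTop
import Groth.Agent.RelPC.PnPush.TwistEquiv
import Groth.Agent.RelPC.PnPush.Gen
import Groth.Agent.Misc4.PushRestrict
import Groth.Agent.DerivedCoh.KFlat.Amplitude
import Groth.Agent.Pi1Ample.FiniteAffine
import Groth.Agent.Chow.ToPn
import Groth.Agent.Duality.SheafHomTwist
import Groth.Agent.PicAux.PullTensor
import Mathlib.Algebra.Homology.HomotopyCategory.HomComplexSingle

/-!
Powers of an ample module generate the derived category of quasi-coherent modules.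
-/

set_option linter.style.haveILetI false

universe u

open CategoryTheory CategoryTheory.Limits AlgebraicGeometry Opposite CochainComplex
open Groth.PicAux (oneSec homOfSection homOfSection_one hom_structure_ext)
open HomComplex

namespace Groth.RelPC.PnPush

attribute [local instance] HasDerivedCategory.standard

local notation "up" => ComplexShape.up ℤ

variable {X : Scheme.{u}}

/-- exactness of global sections kills maps from the structure module into a K-injective complex -/
theorem homotopic_zero_of_exact (J : CochainComplex X.Modules ℤ) (k : ℤ)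
    (hJ : (((DCoh.gammaAb X).mapHomologicalComplex up).obj J).ExactAt k)
    (f : (CochainComplex.singleFunctor X.Modules k).obj (Coh.structureModule X) ⟶ J) :
    Nonempty (Homotopy f 0) := by
  let σ := HomologicalComplex.singleObjXSelf up k (Coh.structureModule X)
  let g : Coh.structureModule X ⟶ J.X k := σ.inv ≫ f.f k
  have hg : g ≫ J.d k (k + 1) = 0 := by
    refine (Category.assoc _ _ _).trans ((congrArg (σ.inv ≫ ·) ((f.comm k (k + 1)).trans
      ((congrArg (_ ≫ ·) ((HomologicalComplex.isZero_single_obj_X up k (Coh.structureModule X) (k + 1)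
        (by omega)).eq_of_src (f.f (k + 1)) 0)).trans comp_zero))).trans comp_zero)
  rw [HomologicalComplex.exactAt_iff' _ (k - 1) k (k + 1) (by simp) (by simp),
    ShortComplex.ab_exact_iff] at hJ
  obtain ⟨w, hw⟩ := hJ (g.app ⊤ (oneSec X ⊤)) (by
    show (g ≫ J.d k (k + 1)).app ⊤ (oneSec X ⊤) = 0
    rw [hg]; rfl)
  have hgw : g = homOfSection (M := J.X (k - 1)) w ≫ J.d (k - 1) k := hom_structure_ext (by
    refine hw.symm.trans ?_
    show (J.d (k - 1) k).app ⊤ w = (J.d (k - 1) k).app ⊤ ((homOfSection (M := J.X (k - 1)) w).app ⊤ (oneSec X ⊤))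
    rw [homOfSection_one])
  let α : Cochain ((CochainComplex.singleFunctor X.Modules k).obj (Coh.structureModule X)) J (-1) :=
    Cochain.fromSingleMk (homOfSection (M := J.X (k - 1)) w) (show k + (-1) = k - 1 by omega)
  refine ⟨(Cochain.equivHomotopy f 0).symm ⟨α, ?_⟩⟩
  rw [Cochain.ofHom_zero, add_zero, Cochain.δ_fromSingleMk _ _ 0 k (add_zero k), ← hgw]
  refine Cochain.ext₀ _ _ fun p => ?_
  by_cases hp : p = k
  · subst hp
    refine (Cochain.ofHom_v f p).trans (Eq.trans ?_ (Cochain.fromSingleMk_v _ _).symm)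
    simp [g, σ]
  · exact (HomologicalComplex.isZero_single_obj_X up k (Coh.structureModule X) p hp).eq_of_src _ _

/-- vanishing of `RΓ` kills all maps from shifts of the structure module -/
theorem hom_strMod_eq_zero [DCoh.HasRΓ X] (E : DCoh.D X)
    (hE : ∀ p : ℤ, IsZero ((DerivedCategory.homologyFunctor AddCommGrpCat.{u} p).obj ((DCoh.RΓ X).obj E)))
    (k : ℤ) (φ : strMod X k ⟶ E) : φ = 0 := by
  obtain ⟨C, ⟨eC⟩⟩ := Groth.KTheory.Perf.exists_rep E
  let J := (Groth.DerivedCoh.KFlat.kres X).obj C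
  let a : C ⟶ J := (Groth.DerivedCoh.KFlat.kresAug X).app C
  let e : DerivedCategory.Q.obj J ≅ E := (asIso (DerivedCategory.Q.map a)).symm ≪≫ eC
  let r : (DCoh.RΓ X).obj E ≅
      (Groth.Misc4.PushRestrict.LB AddCommGrpCat.{u}).obj (((DCoh.gammaAb X).mapHomologicalComplex up).obj J) :=
    (DCoh.RΓ X).mapIso (eC.symm ≪≫ ((Groth.DerivedCoh.KFlat.L₀Q X).app C).symm) ≪≫
      (Groth.Misc4.PushRestrict.resIso (DCoh.gammaAb X)).app C
  have hex : (((DCoh.gammaAb X).mapHomologicalComplex up).obj J).ExactAt k :=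
    (HomologicalComplex.exactAt_iff_isZero_homology _ k).2 ((hE k).of_iso
      (((DerivedCategory.homologyFunctorFactors AddCommGrpCat.{u} k).app _).symm ≪≫
        (DerivedCategory.homologyFunctor _ k).mapIso
          (((DerivedCategory.quotientCompQhIso AddCommGrpCat.{u}).app _).symm ≪≫ r.symm)))
  let S := (CochainComplex.singleFunctor X.Modules k).obj (Coh.structureModule X)
  let s := (DerivedCategory.singleFunctorIsoCompQ X.Modules k).app (Coh.structureModule X)
  let q := DerivedCategory.quotientCompQhIso X.Modules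
  obtain ⟨g, hg⟩ := (CochainComplex.IsKInjective.Qh_map_bijective
    ((HomotopyCategory.quotient _ up).obj S) J).surjective (q.hom.app S ≫ (s.inv ≫ φ ≫ e.inv) ≫ q.inv.app J)
  obtain ⟨f, rfl⟩ := (HomotopyCategory.quotient _ up).map_surjective g
  obtain ⟨h⟩ := homotopic_zero_of_exact J k hex f
  rw [HomotopyCategory.eq_of_homotopy _ _ h, Functor.map_zero, Functor.map_zero] at hg
  have h1 := (cancel_epi (q.hom.app S)).1 (hg.symm.trans comp_zero.symm)
  have h2 := (cancel_mono (q.inv.app J)).1 (h1.trans zero_comp.symm)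
  exact (cancel_mono e.inv).1 (((cancel_epi s.inv).1 (h2.trans comp_zero.symm)).trans zero_comp.symm)

/-- an ample module gives an affine morphism to projective space over `ℤ` -/
theorem exists_affine_of_ample (L : X.Modules) (hL : CohB1.IsAmple L) [Nonempty X] :
    ∃ (m N : ℕ) (r : X ⟶ CohB1.ProjSpace m (ULift.{u} ℤ)), IsAffineHom r ∧
      Nonempty (tw m r 1 ≅ CohB1.tensorPow L (N + 1)) := by
  classical
  haveI : CompactSpace X := hL.2.1
  choose n t hxt _h htaff using fun x : X =>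
    Groth.PropsBasic.Ample.exists_affine_gloc_finite hL {x} (Set.finite_singleton _) ⊤ (Set.subset_univ _)
  obtain ⟨F, hF⟩ := isCompact_univ.elim_finite_subcover
    (fun x : X => ((Groth.PropsBasic.Ample.gloc (t x) : X.Opens) : Set X)) (fun x => (Groth.PropsBasic.Ample.gloc (t x)).2)
    (fun x _ => Set.mem_iUnion.2 ⟨x, hxt x rfl⟩)
  obtain ⟨N, hN⟩ := Groth.PropsBasic.Ample.exists_common_power_finset hL.1 F n t
  choose s hs using hN
  have hne : F.card ≠ 0 := by
    intro h
    obtain ⟨x⟩ := (inferInstance : Nonempty X)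
    have := hF (Set.mem_univ x)
    simp [Finset.card_eq_zero.1 h] at this
  obtain ⟨m, hm⟩ := Nat.exists_eq_succ_of_ne_zero hne
  let e : Fin (m + 1) ≃ F := (finCongr hm.symm).trans F.equivFin.symm
  let P := CohB1.tensorPow L (N + 1)
  let σ : Fin (m + 1) → ProjUP.Γm P := fun i => s (e i).1 (e i).2
  have hU : ∀ i, Chow.ToPn.U P σ i = Groth.PropsBasic.Ample.gloc (t (e i).1) := fun i => hs _ _
  have hcov : ⨆ i, Chow.ToPn.U P σ i = ⊤ := by
    refine eq_top_iff.2 fun x _ => ?_
    obtain ⟨y, hy, hxy⟩ := Set.mem_iUnion₂.1 (hF (Set.mem_univ x))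
    refine TopologicalSpace.Opens.mem_iSup.2 ⟨e.symm ⟨y, hy⟩, ?_⟩
    rw [hU, e.apply_symm_apply]
    exact hxy
  let q : X ⟶ Spec (CommRingCat.of (ULift.{u} ℤ)) := specULiftZIsTerminal.from X
  obtain ⟨r, hr⟩ := Chow.ToPn.exists_r q P σ hcov
  obtain ⟨τ, -⟩ := Chow.ToPn.exists_tau hr hcov
  refine ⟨m, N, r, isAffineHom_of_forall_exists_isAffineOpen r fun z => ?_, ⟨τ⟩⟩
  obtain ⟨i, hi⟩ : ∃ i : Fin (m + 1),
      z ∈ Proj.basicOpen (CohB1.polyGrading m (ULift.{u} ℤ)) (MvPolynomial.X i) := by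
    have h := Proj.iSup_basicOpen_eq_top (CohB1.polyGrading m (ULift.{u} ℤ))
      (fun i : Fin (m + 1) => (MvPolynomial.X i : MvPolynomial (Fin (m + 1)) (ULift.{u} ℤ)))
      Chow.ToPn.irrelevant_le_span_X
    exact TopologicalSpace.Opens.mem_iSup.1 (h.ge trivial)
  refine ⟨_, hi, Proj.isAffineOpen_basicOpen _ _ (Chow.ToPn.X_mem i) one_pos, ?_⟩
  exact ((Chow.ToPn.preimage_D hr hcov i).trans (hU i)).symm ▸ htaff (e i).1

/-- powers of an ample module detect nonzero objects -/
theorem isZero_of_ample [DCoh.HasRΓ X] (L : X.Modules) (hL : CohB1.IsAmple L)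
    [∀ n : ℕ, DCoh.HasLTensorMod (CohB1.tensorPow L n)] (K : DCoh.D X) (hK : DCoh.IsQCohD K)
    (h : ∀ (n : ℕ) (p : ℤ), IsZero ((DerivedCategory.homologyFunctor AddCommGrpCat.{u} p).obj
      ((DCoh.RΓ X).obj ((DCoh.LTensorMod (CohB1.tensorPow L n)).obj K)))) : IsZero K := by
  rcases isEmpty_or_nonempty X with hX | hX
  · refine (IsZero.iff_id_eq_zero _).2 ?_
    have h0 : ∀ k : ℤ, IsZero (DCoh.HD K k) := fun k =>
      Groth.KTheory.Perf.isZero_of_local fun x => (hX.false x).elim
    haveI : K.IsLE (-1) := (DerivedCategory.isLE_iff _ _).2 fun i _ => h0 i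
    haveI : K.IsGE 0 := (DerivedCategory.isGE_iff _ _).2 fun i _ => h0 i
    exact DerivedCategory.TStructure.t.zero (𝟙 K) (-1) 0 (by omega)
  obtain ⟨m, N, r, hr, ⟨τ⟩⟩ := exists_affine_of_ample L hL
  haveI := hr
  haveI : CompactSpace X := hL.2.1
  haveI : (CohB1.ProjSpace m (ULift.{u} ℤ)).IsSeparated := ⟨by
    rw [← terminal.comp_from (CohB1.ProjSpace.toSpec m (ULift.{u} ℤ))]
    infer_instance⟩
  haveI : X.IsSeparated := ⟨by
    rw [← terminal.comp_from r]
    infer_instance⟩
  refine isZero_of_orth_window m r (-(m : ℤ)) K hK fun d h₁ h₂ => ?_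
  obtain ⟨k, rfl⟩ : ∃ k : ℕ, d = -(k : ℤ) := ⟨(-d).toNat, by omega⟩
  let T := CohB1.tensorPow L ((N + 1) * k)
  have hT : PicF.IsInvertible T := Groth.PicAux.isInvertible_tensorPow hL.1 _
  obtain ⟨ep⟩ := Groth.Ega2Proj.nonempty_pow_iso
    (Groth.Duality.Pn.irrelevant_le_span_one m (ULift.{u} ℤ)) k
  obtain ⟨i0⟩ := Groth.Duality.Pn.isInverseOf_twist m (ULift.{u} ℤ) (-(k : ℤ))
  let eT : tw m r (k : ℤ) ≅ T := (Scheme.Modules.pullback r).mapIso ep ≪≫
    (Groth.PicAux.pullback_tensorPow r _ k).some ≪≫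
    (Groth.PicAux.nonempty_tensorPow_iso τ k).some ≪≫ (Groth.PicAux.tensorPow_mul L (N + 1) k).some.symm
  let u : (DCoh.tensorRightMod T).obj (tw m r (-(k : ℤ))) ≅ Coh.structureModule X :=
    PicGrp.tensorModIso (Iso.refl _) eT.symm ≪≫
      (Groth.PicAux.exists_pullback_tensorMod r _ _).choose.symm ≪≫
      (Scheme.Modules.pullback r).mapIso
        (PicGrp.tensorModIso (Iso.refl _) (eqToIso (congrArg (Twist.twistProjSpace m _) (neg_neg (k : ℤ)).symm)) ≪≫ i0) ≪≫
      (Groth.PicAux.pullback_structure_iso r).some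
  haveI := isEquivalence_twD T hT
  intro j φ
  let c := (SingleFunctors.shiftIso (DerivedCategory.singleFunctors X.Modules) j (-j) 0 (by omega)).app (tw m r (-(k : ℤ)))
  obtain ⟨v⟩ := nonempty_twD_single T hT (tw m r (-(k : ℤ))) (-j)
  obtain ⟨w⟩ := nonempty_ltm_twD T hT K
  let ψ : strMod X (-j) ≅ (twD T hT).obj ((DerivedCategory.singleFunctor X.Modules (-j)).obj (tw m r (-(k : ℤ)))) :=
    (v ≪≫ (DerivedCategory.singleFunctor X.Modules (-j)).mapIso u).symm
  have h0 : c.inv ≫ φ = 0 := by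
    refine (twD T hT).map_injective ?_
    rw [Functor.map_zero, ← cancel_epi ψ.hom, ← cancel_mono w.inv, comp_zero, zero_comp]
    exact hom_strMod_eq_zero _ (fun p => h _ p) _ _
  exact (cancel_epi c.inv).1 (h0.trans comp_zero.symm)

end Groth.RelPC.PnPush
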