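import Groth.Agent.DerivedCoh.RelAmp.PushAmp
import Groth.Agent.PnCoh.OverAffine
import Groth.Agent.PnCoh.Cohomology
import Groth.Agent.CohBase.RelAmpleVanish
import Groth.Agent.CohBase.RpushAffineLin
import Groth.Agent.Variety2.ProjBasics

/-!
Cohomological dimension of the projection of projective `r`-space.
-/

set_option linter.style.haveILetI false

universe u

open CategoryTheory CategoryTheory.Limits AlgebraicGeometry TopologicalSpace

namespace Groth.RelPC.PnPush

attribute [local instance] HasDerivedCategory.standard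

/-- quasi-coherent modules on `P^r` over an affine base have no higher direct images above `r` -/
theorem isZero_Rpush_affine (Y : Scheme.{u}) [IsAffine Y] (r : ℕ)
    (M : (CohB1.ProjSpaceOver r Y).Modules) [M.IsQuasicoherent] (p : ℕ) (hp : r < p) :
    IsZero ((Coh.Rpush (CohB1.ProjSpaceOver.toBase r Y) p).obj M) := by
  let f := CohB1.ProjSpaceOver.toBase r Y
  have := Groth.CohBase.isQCoh_Rpush f p (M := M)
  refine Groth.CohBase.isZero_of_sections_cover _ (fun _ : Unit => ⊤) (fun _ => isAffineOpen_top Y)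
    (by simp) fun _ => ?_
  obtain ⟨e⟩ := Groth.CohBase.exists_Rpush_linEquiv (f := f) (p := p) (M := M) (isAffineOpen_top Y)
  suffices Subsingleton (Coh.HH (f ⁻¹ᵁ ⊤ : (CohB1.ProjSpaceOver r Y).Opens)
      (M.restrict (f ⁻¹ᵁ ⊤).ι) p) from e.injective.subsingleton
  haveI : IsProper f := inferInstance
  haveI : (CohB1.ProjSpaceOver r Y).IsSeparated := ⟨by
    rw [← terminal.comp_from f]
    infer_instance⟩
  let g := (f ⁻¹ᵁ ⊤).ι ≫ pullback.fst (CohB1.ProjSpace.toSpec r (ULift.{u} ℤ))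
    (specULiftZIsTerminal.from Y)
  haveI : IsIso (f ⁻¹ᵁ ⊤).ι := by
    rw [Scheme.Hom.preimage_top]
    exact (inferInstance : IsIso (Scheme.topIso _).hom)
  haveI : IsAffineHom (pullback.fst (CohB1.ProjSpace.toSpec r (ULift.{u} ℤ))
    (specULiftZIsTerminal.from Y)) :=
    MorphismProperty.pullback_fst (P := @IsAffineHom) _ _ inferInstance
  haveI hg : IsAffineHom g := MorphismProperty.comp_mem _ _ _ inferInstance this
  haveI : ((f ⁻¹ᵁ ⊤ : (CohB1.ProjSpaceOver r Y).Opens) : Scheme.{u}).IsSeparated := ⟨by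
    rw [← terminal.comp_from (f ⁻¹ᵁ ⊤).ι]
    infer_instance⟩
  refine Groth.Agent.S0010.result _ (r + 1)
    (fun i => g ⁻¹ᵁ Groth.PnCoh.stdOpen r (ULift.{u} ℤ) ⟨i⟩) (fun i => ?_) ?_
    (fun V W hV hW => hV.inf hW) _ p hp
  · exact @IsAffineOpen.preimage _ _ (Groth.PnCoh.stdOpen r (ULift.{u} ℤ) ⟨i⟩) (Proj.isAffineOpen_basicOpen _ _
      ((MvPolynomial.mem_homogeneousSubmodule _ _).mpr (MvPolynomial.isHomogeneous_X _ i)) one_pos) g hg
  · refine eq_top_iff.2 fun x _ => ?_
    obtain ⟨i, hi⟩ := Opens.mem_iSup.1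
      ((Groth.PnCoh.isAcyclicCover_stdOpen r (ULift.{u} ℤ)).cover.ge (Opens.mem_top (g.base x)))
    exact Opens.mem_iSup.2 ⟨i.down, hi⟩

/-- the derived direct image along the projection of `P^r` over an affine base raises upper bounds by at most `r` -/
theorem isLE_Rpush_affine (Y : Scheme.{u}) [IsAffine Y] (r : ℕ)
    [DCoh.HasRpush (CohB1.ProjSpaceOver.toBase r Y)] (E : DCoh.D (CohB1.ProjSpaceOver r Y))
    (hE : DCoh.IsQCohD E) (a : ℤ) [E.IsLE a] :
    ((DCoh.Rpush (CohB1.ProjSpaceOver.toBase r Y)).obj E).IsLE (a + r) := by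
  refine Groth.DerivedCoh.RelAmp.isLE_Rpush_of_vanish _ r (fun M hM i hi => ?_) E hE a
  obtain ⟨p, rfl⟩ := Int.eq_ofNat_of_zero_le (show 0 ≤ i by omega)
  have : M.IsQuasicoherent := hM
  obtain ⟨c⟩ := Groth.DerivedCoh.PerfPush.nonempty_hd_single (CohB1.ProjSpaceOver.toBase r Y) M 0 p p (by omega)
  exact (isZero_Rpush_affine Y r M p (by omega)).of_iso c

end Groth.RelPC.PnPush
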