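import Groth.Agent.DerivedAdj.Devissage
import Groth.Agent.Misc4.PerfVanishQcqs
import Groth.Agent.DerivedCoh.ClassGen.Bounds
import Groth.Agent.KTheory.PerfCoh
import Groth.Agent.S1006
import Groth.Agent.Misc4.CohProperSupp
import Groth.Agent.QCohMod.Coherent
import Mathlib.Algebra.Homology.DerivedCategory.SingleTriangle

/-!
Approximation of bounded coherent objects by members of a triangulated class of perfect objects which contains
enough finite locally free quotients; consequently such a class, closed under retracts, contains all perfect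
objects of a Noetherian scheme.
-/

set_option linter.style.haveILetI false

universe u

open CategoryTheory CategoryTheory.Limits Pretriangulated AlgebraicGeometry

namespace Groth.RelPC.PnPush

section pretriangulated

variable {C : Type*} [Category C] [HasZeroObject C] [HasShift C ℤ] [Preadditive C]
  [∀ n : ℤ, (shiftFunctor C n).Additive] [Pretriangulated C]

theorem dist_iso₂ {A B B' Z : C} {f : A ⟶ B} {g : B ⟶ Z} {h : Z ⟶ A⟦(1 : ℤ)⟧}
    (hT : Triangle.mk f g h ∈ distTriang C) (e : B ≅ B') :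
    Triangle.mk (f ≫ e.hom) (e.inv ≫ g) h ∈ distTriang C :=
  isomorphic_distinguished _ hT _ (Triangle.isoMk _ _ (Iso.refl _) e.symm (Iso.refl _)
    (by dsimp [Triangle.mk]; simp) (by dsimp [Triangle.mk]; simp) (by dsimp [Triangle.mk]; simp))

theorem dist_zero_id {Z : C} (hZ : IsZero Z) (B : C) :
    Triangle.mk (0 : Z ⟶ B) (𝟙 B) (0 : B ⟶ Z⟦(1 : ℤ)⟧) ∈ distTriang C :=
  isomorphic_distinguished _ (contractible_distinguished₁ B) _
    (Triangle.isoMk _ _ hZ.isoZero (Iso.refl _) (Iso.refl _) (hZ.eq_of_src _ _) (by simp [Triangle.mk])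
      (by simp [Triangle.mk]))

end pretriangulated

attribute [local instance] HasDerivedCategory.standard

variable {X : Scheme.{u}}

/-- `L` is the middle of triangles `P ⟶ L ⟶ C` with `P` in `Q` and `C` in arbitrarily low degrees -/
def App (Q : ObjectProperty (DCoh.D X)) (L : DCoh.D X) : Prop :=
  DCoh.IsQCohD L ∧ ∀ c : ℤ, ∃ (P C : DCoh.D X) (f : P ⟶ L) (g : L ⟶ C) (h : C ⟶ P⟦(1 : ℤ)⟧),
    Triangle.mk f g h ∈ distTriang (DCoh.D X) ∧ Q P ∧ C.IsLE c

variable {Q : ObjectProperty (DCoh.D X)}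

theorem app_iso {L L' : DCoh.D X} (e : L ≅ L') (h : App Q L) : App Q L' := by
  refine ⟨(inferInstance : ObjectProperty.IsClosedUnderIsomorphisms
    (fun K : DCoh.D X => DCoh.IsQCohD K)).of_iso e h.1, fun c => ?_⟩
  obtain ⟨P, C, f, g, d, hT, hP, hC⟩ := h.2 c
  exact ⟨P, C, f ≫ e.hom, e.inv ≫ g, d, dist_iso₂ hT e, hP, hC⟩

theorem app_shift [Q.IsTriangulated] {L : DCoh.D X} (h : App Q L) (n : ℤ) : App Q (L⟦n⟧) := by
  refine ⟨Groth.Misc4.QCohDPerf.isQCohD_shift h.1 n, fun c => ?_⟩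
  obtain ⟨P, C, f, g, d, hT, hP, hC⟩ := h.2 (c + n)
  exact ⟨_, _, _, _, _, Triangle.shift_distinguished _ hT n, Q.le_shift n P hP,
    Groth.Misc4.PerfVanishQcqs.isLE_shift hC n c (by omega)⟩

variable [CompactSpace X] [QuasiSeparatedSpace X]

theorem app_obj₃ [Q.IsTriangulated] [Q.IsClosedUnderIsomorphisms] (hQ : ∀ P, Q P → DCoh.IsPerfect P)
    (T : Triangle (DCoh.D X)) (hT : T ∈ distTriang (DCoh.D X)) (h₁ : App Q T.obj₁) (h₂ : App Q T.obj₂) :
    App Q T.obj₃ := by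
  refine ⟨Groth.Misc4.QCohDPerf.isQCohD_obj₂ _ (rot_of_distTriang _ hT) h₂.1
    (Groth.Misc4.QCohDPerf.isQCohD_shift h₁.1 1), fun c => ?_⟩
  obtain ⟨P₁, C₁, f₁, g₁, d₁, hT₁, hP₁, hC₁⟩ := h₁.2 c
  obtain ⟨c₀, hc₀⟩ := Groth.Misc4.PerfVanishQcqs.van X P₁ (hQ _ hP₁)
  obtain ⟨P₂, C₂, f₂, g₂, d₂, hT₂, hP₂, hC₂⟩ := h₂.2 (min c c₀)
  obtain ⟨w, hw⟩ := Triangle.coyoneda_exact₂ _ hT₂ (f₁ ≫ T.mor₁)
    (hc₀ C₂ (Groth.Misc4.QCohDPerf.isQCohD_obj₂ _ (rot_of_distTriang _ hT₂) h₂.1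
      (Groth.Misc4.QCohDPerf.isQCohD_shift (Groth.Misc4.Thomason.isQCohD_of_isPerfect (hQ _ hP₂)) 1))
      (Groth.Misc4.PerfVanishQcqs.isLE_mono hC₂ (min_le_right _ _)) _)
  obtain ⟨N, n, e, hN⟩ := distinguished_cocone_triangle (f₁ ≫ T.mor₁)
  obtain ⟨P₃, p, q, hP₃⟩ := distinguished_cocone_triangle w
  have hNC := (Triangulated.someOctahedron rfl hT₁ (show Triangle.mk T.mor₁ T.mor₂ T.mor₃ ∈ _ from hT) hN).mem
  have hPN := (Triangulated.someOctahedron hw.symm hP₃ hT₂ hN).mem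
  obtain ⟨Z, z, z', hZ⟩ := distinguished_cocone_triangle
    ((Triangulated.someOctahedron hw.symm hP₃ hT₂ hN).m₁ ≫
      (Triangulated.someOctahedron rfl hT₁ (show Triangle.mk T.mor₁ T.mor₂ T.mor₃ ∈ _ from hT) hN).m₃)
  refine ⟨P₃, Z, _, z, z', hZ, Q.ext_of_isTriangulatedClosed₃ _ hP₃ hP₁ hP₂, ?_⟩
  have hO := (Triangulated.someOctahedron rfl hPN (rot_of_distTriang _ hNC) hZ).mem
  refine (DerivedCategory.isLE_iff _ _).2 fun i hi => ?_
  exact (DerivedCategory.HomologySequence.exact₂ _ hO i).isZero_X₂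
    ((DerivedCategory.isZero_of_isLE C₂ (min c c₀) i (by omega)).eq_of_src _ _)
    (((DerivedCategory.isLE_iff _ _).1
      (Groth.Misc4.PerfVanishQcqs.isLE_shift hC₁ 1 (c - 1) (by omega)) i (by omega)).eq_of_tgt _ _)

theorem app_ext [Q.IsTriangulated] [Q.IsClosedUnderIsomorphisms] (hQ : ∀ P, Q P → DCoh.IsPerfect P)
    (T : Triangle (DCoh.D X)) (hT : T ∈ distTriang (DCoh.D X)) (h₁ : App Q T.obj₁) (h₃ : App Q T.obj₃) :
    App Q T.obj₂ :=
  app_obj₃ hQ T.invRotate (inv_rot_of_distTriang _ hT) (app_shift h₃ (-1)) h₁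

omit [CompactSpace X] [QuasiSeparatedSpace X] in
/-- coherent modules are approximable as soon as they are quotients of members -/
theorem app_coh [IsLocallyNoetherian X] [Q.IsTriangulated] [Q.IsClosedUnderIsomorphisms]
    (hepi : ∀ M : X.Modules, Coh.IsCoh M → ∃ (E : X.Modules) (φ : E ⟶ M),
      Epi φ ∧ Coh.IsCoh E ∧ Q (DCoh.inD X E))
    (M : X.Modules) (hM : Coh.IsCoh M) : App Q (DCoh.inD X M) := by
  have hq : ∀ M : X.Modules, Coh.IsCoh M → DCoh.IsQCohD (DCoh.inD X M) := fun M hM i => by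
    by_cases hi : i = 0
    · subst hi
      exact (Groth.QCohMod.isQCoh_iff_of_iso
        ((DerivedCategory.singleFunctorCompHomologyFunctorIso X.Modules 0).app M).symm).1 hM.1
    · refine Groth.Misc4.QCohDPerf.isQCoh_isZero ?_
      rcases lt_or_gt_of_ne hi with h | h
      · exact DerivedCategory.isZero_of_isGE ((DerivedCategory.singleFunctor X.Modules 0).obj M) 0 i h
      · exact DerivedCategory.isZero_of_isLE ((DerivedCategory.singleFunctor X.Modules 0).obj M) 0 i h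
  refine ⟨hq M hM, fun c => ?_⟩
  obtain ⟨k, hk⟩ : ∃ k : ℕ, -(k : ℤ) ≤ c := ⟨(-c).toNat, by omega⟩
  suffices ∀ (k : ℕ) (M : X.Modules), Coh.IsCoh M →
      ∃ (P C : DCoh.D X) (f : P ⟶ DCoh.inD X M) (g : DCoh.inD X M ⟶ C) (h : C ⟶ P⟦(1 : ℤ)⟧),
        Triangle.mk f g h ∈ distTriang (DCoh.D X) ∧ Q P ∧ C.IsLE (-(k : ℤ)) by
    obtain ⟨P, C, f, g, h, hT, hP, hC⟩ := this k M hM
    exact ⟨P, C, f, g, h, hT, hP, Groth.Misc4.PerfVanishQcqs.isLE_mono hC hk⟩
  intro k
  induction k with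
  | zero =>
    intro M hM
    obtain ⟨Z, hZ, hQZ⟩ := Q.exists_prop_of_containsZero
    refine ⟨Z, DCoh.inD X M, 0, 𝟙 _, 0, dist_zero_id hZ _, hQZ, ?_⟩
    exact DerivedCategory.TStructure.t.isLE_of_le _ 0 _ (by simp)
  | succ k ih =>
    intro M hM
    obtain ⟨E, φ, hφ, hE, hQE⟩ := hepi M hM
    haveI := hM.1
    have hS : (ShortComplex.mk (kernel.ι φ) φ (kernel.condition φ)).ShortExact :=
      { exact := ShortComplex.exact_of_f_is_kernel _ (kernelIsKernel φ) }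
    obtain ⟨P, C, f, g, h, hT, hP, hC⟩ := ih (kernel φ) (Groth.QCohMod.isCoh_kernel φ hE)
    obtain ⟨P', p, q, hP'⟩ := distinguished_cocone_triangle (f ≫ hS.singleTriangle.mor₁)
    have hO := (Triangulated.someOctahedron rfl hT hS.singleTriangle_distinguished hP').mem
    refine ⟨P', _, _, _, _, rot_of_distTriang _ hO,
      Q.ext_of_isTriangulatedClosed₃ _ hP' hP hQE, ?_⟩
    exact Groth.Misc4.PerfVanishQcqs.isLE_shift hC 1 _ (by push_cast; omega)

/-- perfect objects are retracts of members of a triangulated class of perfect objects with enough quotients -/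
theorem exists_retract_of_perfect {X : Scheme.{u}} {Q : ObjectProperty (DCoh.D X)} [IsNoetherian X] [Q.IsTriangulated] [Q.IsClosedUnderIsomorphisms]
    (hQ : ∀ P, Q P → DCoh.IsPerfect P)
    (hepi : ∀ M : X.Modules, Coh.IsCoh M → ∃ (E : X.Modules) (φ : E ⟶ M),
      Epi φ ∧ Coh.IsCoh E ∧ Q (DCoh.inD X E))
    (P : DCoh.D X) (hP : DCoh.IsPerfect P) : ∃ R, Q R ∧ Nonempty (Retract P R) := by
  obtain ⟨hc, a, b, ha, hb⟩ := Groth.Agent.S1006.result X P hP
  haveI : P.IsGE a := ha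
  haveI : P.IsLE b := hb
  have happ : App Q P := by
    refine Groth.DerivedAdj.devissage (fun M : X.Modules => Coh.IsCoh M) (App Q) app_iso (fun Z hZ => ?_)
      (fun T hT h₁ h₃ => app_ext hQ T hT h₁ h₃) (fun M hM n => ?_) P a b hc fun M hM => ?_
    · obtain ⟨W, hW, hQW⟩ := Q.exists_prop_of_containsZero
      refine ⟨fun i => Groth.Misc4.QCohDPerf.isQCoh_isZero
        ((DerivedCategory.homologyFunctor X.Modules i).map_isZero hZ), fun c => ?_⟩
      exact ⟨W, Z, 0, 𝟙 Z, 0, dist_zero_id hW Z, hQW, (DerivedCategory.isLE_iff _ _).2 fun i _ =>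
        (DerivedCategory.homologyFunctor X.Modules i).map_isZero hZ⟩
    · exact app_iso (((DerivedCategory.singleFunctors X.Modules).shiftIso (-n) n 0 (by omega)).app M)
        (app_shift (app_coh hepi M hM) (-n))
    · exact Groth.Misc4.CohProperSupp.isCoh_of_isZero hM
  obtain ⟨c₀, hc₀⟩ := Groth.Misc4.PerfVanishQcqs.van X P hP
  obtain ⟨R, C, f, g, h, hT, hR, hC⟩ := happ.2 c₀
  have hg : g = 0 := hc₀ C (Groth.Misc4.QCohDPerf.isQCohD_obj₂ _ (rot_of_distTriang _ hT) happ.1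
    (Groth.Misc4.QCohDPerf.isQCohD_shift (Groth.Misc4.Thomason.isQCohD_of_isPerfect (hQ _ hR)) 1)) hC g
  obtain ⟨s, hs⟩ := Triangle.coyoneda_exact₂ _ hT (𝟙 P) (by
    rw [hg]
    exact comp_zero)
  exact ⟨R, hR, ⟨{ i := s, r := f, retract := hs.symm }⟩⟩

end Groth.RelPC.PnPush
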