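import Groth.Agent.RelPC.PnPush.Global
import Groth.Agent.RelPC.Compose
import Groth.Agent.KTheory.RegKoszulFlat
import Mathlib.AlgebraicGeometry.ZariskisMainTheorem

/-!
Derived direct images along projective morphisms over any base preserve relative pseudo-coherence.
-/

set_option linter.style.haveILetI false

universe u

open CategoryTheory CategoryTheory.Limits AlgebraicGeometry
open Groth.KTheory.Perf (Rd)

namespace Groth.RelPC.PnPush

open Groth.DerivedCoh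

attribute [local instance] HasDerivedCategory.standard

variable {X Y S P : Scheme.{u}}

/-- `Ri_* = i_*` for a closed immersion -/
theorem nonempty_Rpush_Pd (i : X ⟶ P) [IsClosedImmersion i] [DCoh.HasRpush i] (E : DCoh.D X) :
    Nonempty ((DCoh.Rpush i).obj E ≅ (Pd i).obj E) := by
  let K := DerivedCategory.Q.objPreimage E
  let ι : DerivedCategory.Q.obj K ≅ E := DerivedCategory.Q.objObjPreimageIso E
  let J := (KFlat.kres X).obj K
  let a : K ⟶ J := (KFlat.kresAug X).app K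
  let σ : (KFlat.L₀ X).obj K ≅ E := (KFlat.L₀Q X).app K ≪≫ ι
  exact ⟨(DCoh.Rpush i).mapIso σ.symm ≪≫ (KFlat.RpushResIso i).app K ≪≫
    (KFlat.L₀Q P).app ((KFlat.pushCx i).obj J) ≪≫ (pdQIso i J).symm ≪≫
    (Pd i).mapIso ((asIso (DerivedCategory.Q.map a)).symm ≪≫ ι)⟩

/-- the closed immersion into projective space over a chart -/
theorem exists_lift {T : Scheme.{u}} {O : Y.Opens} (r : ℕ) (i : X ⟶ KRR.PY r Y) [IsClosedImmersion i]
    (c : (O : Scheme.{u}) ⟶ T) [IsClosedImmersion c] :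
    ∃ j : (((i ≫ KRR.pr r Y) ⁻¹ᵁ O : X.Opens) : Scheme.{u}) ⟶ KRR.PY r T,
      IsClosedImmersion j ∧ j ≫ KRR.pr r T = ((i ≫ KRR.pr r Y) ∣_ O) ≫ c := by
  let U := (i ≫ KRR.pr r Y) ⁻¹ᵁ O
  let f' := (i ≫ KRR.pr r Y) ∣_ O
  let fstY := pullback.fst (CohB1.ProjSpace.toSpec r (ULift.{u} ℤ)) (specULiftZIsTerminal.from Y)
  let fstT := pullback.fst (CohB1.ProjSpace.toSpec r (ULift.{u} ℤ)) (specULiftZIsTerminal.from T)
  let j : (U : Scheme.{u}) ⟶ KRR.PY r T := pullback.lift (U.ι ≫ i ≫ fstY) (f' ≫ c)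
    (specULiftZIsTerminal.hom_ext _ _)
  have hj₁ : j ≫ fstT = U.ι ≫ i ≫ fstY := pullback.lift_fst _ _ _
  have hj₂ : j ≫ KRR.pr r T = f' ≫ c := pullback.lift_snd _ _ _
  haveI : IsProper (KRR.pr r T) := (Groth.KTheory.RegKoszul.pr_facts r T).1
  haveI : IsProper (KRR.pr r Y) := (Groth.KTheory.RegKoszul.pr_facts r Y).1
  haveI : IsProper f' :=
    MorphismProperty.of_isPullback (isPullback_morphismRestrict (i ≫ KRR.pr r Y) O).flip inferInstance
  haveI : IsProper (j ≫ KRR.pr r T) := hj₂ ▸ inferInstance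
  haveI : IsProper j := IsProper.of_comp j (KRR.pr r T)
  haveI : Mono j := ⟨fun {Z} a b h => by
    have h₁ : a ≫ U.ι ≫ i ≫ fstY = b ≫ U.ι ≫ i ≫ fstY := by
      rw [← hj₁, reassoc_of% h]
    have h₂ : a ≫ f' = b ≫ f' := by
      rw [← cancel_mono c, Category.assoc, Category.assoc, ← hj₂, reassoc_of% h]
    have h₃ : a ≫ U.ι ≫ i = b ≫ U.ι ≫ i := by
      refine pullback.hom_ext ?_ ?_
      · erw [Category.assoc, Category.assoc, Category.assoc, Category.assoc]
        exact h₁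
      · have h₄ : a ≫ f' ≫ O.ι = b ≫ f' ≫ O.ι := by rw [reassoc_of% h₂]
        rw [morphismRestrict_ι] at h₄
        erw [Category.assoc, Category.assoc, Category.assoc, Category.assoc]
        exact h₄
    rw [← Category.assoc, ← Category.assoc, cancel_mono i, cancel_mono U.ι] at h₃
    exact h₃⟩
  exact ⟨j, (IsClosedImmersion.iff_isProper_and_mono j).2 ⟨inferInstance, inferInstance⟩, hj₂⟩

/-- derived direct images along projective morphisms preserve relative pseudo-coherence -/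
theorem relAll_Rpush_proj (q : Y ⟶ S) [LocallyOfFiniteType q] (r : ℕ) (i : X ⟶ KRR.PY r Y)
    [IsClosedImmersion i] [DCoh.HasRpush (i ≫ KRR.pr r Y)] (E : DCoh.D X)
    (hE : DerSch.IsPseudoCoherentRelAll ((i ≫ KRR.pr r Y) ≫ q) E) :
    DerSch.IsPseudoCoherentRelAll q ((DCoh.Rpush (i ≫ KRR.pr r Y)).obj E) := by
  intro m
  choose O W hOW n φ p hx hO hW hφ hpf hpp hci hcomp using exists_affineSpace_factor q
  refine rel_of_cover q O (eq_top_iff.2 fun x _ => TopologicalSpace.Opens.mem_iSup.2 ⟨x, hx x⟩) fun y => ?_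
  haveI := hpf y
  haveI := hpp y
  haveI := hci y
  let c := DerSch.chartImm (O y) (φ y)
  let f := i ≫ KRR.pr r Y
  obtain ⟨j, hj, hj₂⟩ := exists_lift r i c
  haveI := hj
  let U := f ⁻¹ᵁ O y
  let E' := (Rd U.ι).obj E
  obtain ⟨-, hfl, hfp⟩ := Groth.KTheory.RegKoszul.pr_facts r
    (Spec (CommRingCat.of (MvPolynomial (Fin (n y)) Γ(S, W y))))
  haveI := hfl
  haveI := hfp
  have hpc : ∀ k : ℤ, DCoh.IsPseudoCoherentD k ((Pd j).obj E') := fun k => by
    refine (rel_closed_iff j (KRR.pr r _ ≫ p y) (pcMor_of_flat_lfp _) k E').1 ?_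
    have h := rel_rd U.ι (f ≫ q) (hE k)
    rwa [show U.ι ≫ f ≫ q = j ≫ KRR.pr r _ ≫ p y by
      rw [reassoc_of% hj₂, hcomp y, ← morphismRestrict_ι_assoc f (O y)]] at h
  rw [← hcomp y, rel_closed_iff c (p y) (pcMor_of_flat_lfp _)]
  haveI : DCoh.HasRpush (f ∣_ O y) := Groth.Misc4.PushRestrict.hasRightDerived _
  haveI : DCoh.HasRpush c := Groth.Misc4.PushRestrict.hasRightDerived _
  haveI : DCoh.HasRpush j := Groth.Misc4.PushRestrict.hasRightDerived _
  haveI : DCoh.HasRpush (KRR.pr r (Spec (CommRingCat.of (MvPolynomial (Fin (n y)) Γ(S, W y))))) :=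
    Groth.Misc4.PushRestrict.hasRightDerived _
  haveI : DCoh.HasRpush (f ∣_ O y ≫ c) := Groth.Misc4.PushRestrict.hasRightDerived _
  haveI : DCoh.HasRpush (j ≫ KRR.pr r (Spec (CommRingCat.of (MvPolynomial (Fin (n y)) Γ(S, W y))))) :=
    Groth.Misc4.PushRestrict.hasRightDerived _
  obtain ⟨a⟩ := Groth.Misc4.PushRestrict.restrictD_Rpush_iso f (O y)
  obtain ⟨b⟩ := KFlat.Rpush_comp_iso (f ∣_ O y) c
  obtain ⟨b'⟩ := KFlat.Rpush_comp_iso j (KRR.pr r _)
  obtain ⟨d⟩ := nonempty_Rpush_congr hj₂ E'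
  obtain ⟨u⟩ := nonempty_Rpush_Pd c ((DCoh.Rpush (f ∣_ O y)).obj E')
  obtain ⟨v⟩ := nonempty_Rpush_Pd j E'
  exact PCoh.isPseudoCoherentD_of_iso
    (b'.app E' ≪≫ d ≪≫ (b.app E').symm ≪≫ u ≪≫ (Pd c).mapIso (a.app E).symm)
    (pcD_Rpush_pn r _ _ (fun k => PCoh.isPseudoCoherentD_of_iso v.symm (hpc k)) m)

end Groth.RelPC.PnPush
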