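import Groth.Agent.RelPC.PnPush.TwistCrit
import Groth.Agent.RelPC.PnPush.Global
import Groth.Agent.DerivedCoh.KFlat.LpullComp
import Groth.Agent.PnCoh.OverAffine
import Groth.Agent.PnCoh.GlobalFun
import Groth.Agent.PnCoh.HilbertPoly
import Groth.Agent.Ega2Proj.TwistPow
import Groth.Agent.PnCoh.VanishingClosed
import Groth.Agent.KTheory.RegKoszulFlat

/-!
Pseudo-coherence on projective space over a ring, tested by twists.
-/

set_option linter.style.haveILetI false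

universe u

open CategoryTheory CategoryTheory.Limits AlgebraicGeometry
open Groth.CohBase Groth.CohC3.BC

namespace Groth.RelPC.PnPush

attribute [local instance] HasDerivedCategory.standard

/-- direct images along isomorphisms preserve pseudo-coherence -/
theorem pcD_Rpush_iso {X Y : Scheme.{u}} (e : X ≅ Y) [DCoh.HasRpush e.hom] {m : ℤ} {E : DCoh.D X}
    (hE : DCoh.IsPseudoCoherentD m E) : DCoh.IsPseudoCoherentD m ((DCoh.Rpush e.hom).obj E) := by
  haveI := Groth.DerivedCoh.KFlat.hasLpull e.hom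
  haveI := Groth.DerivedCoh.KFlat.hasLpull e.inv
  haveI := Groth.DerivedCoh.KFlat.hasLpull (e.hom ≫ e.inv)
  haveI := Groth.DerivedCoh.KFlat.hasLpull (𝟙 X)
  haveI : DCoh.HasRpush (𝟙 X) := Groth.Misc4.PushRestrict.hasRightDerived _
  obtain ⟨c⟩ := Groth.DerivedCoh.KFlat.Lpull_comp_iso e.hom e.inv
  obtain ⟨r⟩ := nonempty_Rpush_id X
  let l : DCoh.Lpull (𝟙 X) ≅ 𝟭 _ :=
    ((Groth.DerivedCoh.PushPull.lpullRpushAdj (𝟙 X)).ofNatIsoRight r).leftAdjointUniq Adjunction.id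
  let G := (DCoh.Lpull e.inv).obj E
  let i : (DCoh.Lpull e.hom).obj G ≅ E := c.app E ≪≫ ((eqToIso (by congr 1; exact e.hom_inv_id) : DCoh.Lpull (e.hom ≫ e.inv) ≅ DCoh.Lpull (𝟙 X)).app E) ≪≫ l.app E
  obtain ⟨s⟩ := nonempty_Rpush_Lpull_iso e G
  exact Groth.DerivedCoh.PCoh.isPseudoCoherentD_of_iso (s.symm ≪≫ (DCoh.Rpush e.hom).mapIso i)
    (Groth.DerivedCoh.PCoh.isPseudoCoherentD_Lpull e.inv hE)

variable (n : ℕ) (A : Type u) [CommRing A]

/-- `P^n_A → Spec A` preserves pseudo-coherence -/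
theorem pcD_Rpush_toSpec [DCoh.HasRpush (CohB1.ProjSpace.toSpec n A)] (K : DCoh.D (CohB1.ProjSpace n A))
    (hK : ∀ m : ℤ, DCoh.IsPseudoCoherentD m K) (m : ℤ) :
    DCoh.IsPseudoCoherentD m ((DCoh.Rpush (CohB1.ProjSpace.toSpec n A)).obj K) := by
  let ι := Groth.PnCoh.overIso n A
  let p := KRR.pr n (Spec (CommRingCat.of A))
  haveI : DCoh.HasRpush ι.hom := Groth.Misc4.PushRestrict.hasRightDerived _
  haveI : DCoh.HasRpush p := Groth.Misc4.PushRestrict.hasRightDerived _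
  haveI : DCoh.HasRpush (ι.hom ≫ p) := Groth.Misc4.PushRestrict.hasRightDerived _
  obtain ⟨c⟩ := Groth.DerivedCoh.KFlat.Rpush_comp_iso ι.hom p
  obtain ⟨d⟩ := nonempty_Rpush_congr (Groth.PnCoh.overIso_hom_toBase n A) K
  exact Groth.DerivedCoh.PCoh.isPseudoCoherentD_of_iso (c.app K ≪≫ d)
    (pcD_Rpush_pn n _ _ (fun k => pcD_Rpush_iso ι (hK k)) m)

theorem nonempty_twist_add (a b : ℤ) :
    Nonempty ((DCoh.tensorRightMod (Twist.twistProjSpace n A b)).obj (Twist.twistProjSpace n A a) ≅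
      Twist.twistProjSpace n A (a + b)) := by
  obtain ⟨e⟩ := Groth.Ega2Proj.nonempty_tensor_iso
    (Groth.PnCoh.irrelevant_le_span_deg_one n A) a b
  exact ⟨e⟩

/-- the twists `-n ≤ d ≤ 0` test pseudo-coherence on `P^n_A` -/
noncomputable def twistData : TwistData (CommRingCat.of A) (CohB1.ProjSpace.toSpec n A) (n + 1) where
  M i := Twist.twistProjSpace n A (-((i : ℕ) : ℤ))
  L i := Twist.twistProjSpace n A ((i : ℕ) : ℤ)
  hM i := fun x =>
    let ⟨U, hx, e⟩ := LocFree.isInvertible_iff_ofRank_one.mp (Groth.PnCoh.isInvertible_twist n A _) x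
    ⟨U, 1, hx, e⟩
  hL i := Groth.PnCoh.isInvertible_twist n A _
  unit i := by
    obtain ⟨e⟩ := nonempty_twist_add n A (-((i : ℕ) : ℤ)) ((i : ℕ) : ℤ)
    obtain ⟨z⟩ := Groth.PnCoh.nonempty_twist_zero_iso (CohB1.polyGrading n A)
    exact ⟨e ≪≫ eqToIso (congrArg (Twist.twistProjSpace n A) (neg_add_cancel _)) ≪≫ z⟩
  gen Q _ _ _ hQ P hP := by
    let g := Groth.PnCoh.toInt n A
    haveI : IsProper (CohB1.ProjSpace.toSpec n A) := inferInstance
    haveI : CompactSpace (CohB1.ProjSpace n A) :=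
      QuasiCompact.compactSpace_of_compactSpace (CohB1.ProjSpace.toSpec n A)
    haveI : QuasiSeparatedSpace (CohB1.ProjSpace n A) :=
      quasiSeparatedSpace_of_quasiSeparated (CohB1.ProjSpace.toSpec n A)
    haveI : IsAffineHom g := MorphismProperty.of_isPullback (Groth.PnCoh.isPullback_toInt n A).flip inferInstance
    refine prop_of_perfect_tw n g Q (-(n : ℤ)) (fun d h₁ h₂ => ?_) P hP
    obtain ⟨e⟩ := @Groth.PnCoh.nonempty_pullback_toBasePn_twist n (ULift.{u} ℤ) A _ _ (Groth.PnCoh.zAlg A) d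
    obtain ⟨k, rfl⟩ : ∃ k : ℕ, d = -(k : ℤ) := ⟨(-d).toNat, by omega⟩
    exact Q.prop_of_iso ((DerivedCategory.singleFunctor _ 0).mapIso e).symm (hQ ⟨k, by omega⟩)
  vanish i j q hq := by
    obtain ⟨p, rfl⟩ : ∃ p : ℕ, q = p := ⟨q.toNat, by omega⟩
    let π := CohB1.ProjSpace.toSpec n A
    let X := CohB1.ProjSpace n A
    haveI : IsProper π := inferInstance
    obtain ⟨e⟩ := nonempty_twist_add n A (-((j : ℕ) : ℤ)) ((i : ℕ) : ℤ)
    let d : ℤ := -((j : ℕ) : ℤ) + ((i : ℕ) : ℤ)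
    let T := Twist.twistProjSpace n A d
    haveI : T.IsQuasicoherent := Groth.Ega2Proj.isQuasicoherent_twist _ _
    have hd : -(n : ℤ) ≤ d := by have := j.isLt; omega
    obtain ⟨c⟩ := Groth.DerivedCoh.PerfPush.nonempty_hd_single π T 0 (p : ℤ) p (by omega)
    refine IsZero.of_iso ?_ ((DerivedCategory.homologyFunctor _ (p : ℤ)).mapIso
      ((DCoh.Rpush π).mapIso ((DerivedCategory.singleFunctor _ 0).mapIso e)) ≪≫ c)
    have := Groth.CohBase.isQCoh_Rpush π p (M := T)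
    refine Groth.CohBase.isZero_of_sections_cover _ (fun _ : Unit => ⊤) (fun _ => isAffineOpen_top _)
      (by simp) fun _ => ?_
    obtain ⟨l⟩ := Groth.CohBase.exists_Rpush_linEquiv (f := π) (p := p) (M := T) (isAffineOpen_top _)
    suffices Subsingleton (Coh.HH (π ⁻¹ᵁ ⊤ : X.Opens) (T.restrict (π ⁻¹ᵁ ⊤).ι) p) from l.injective.subsingleton
    refine (subsingleton_H_iff _ p).2 ((hVanish_restrict_iff (π ⁻¹ᵁ ⊤).ι T p ⊤).2 ?_)
    rw [Scheme.Opens.ι_image_top, Scheme.Hom.preimage_top]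
    exact (subsingleton_H_iff _ p).1 (Groth.PnCoh.subsingleton_HH_twist d p (by omega) (by omega))
  pushPC K hK m := pcD_Rpush_toSpec n A K hK m

end Groth.RelPC.PnPush
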