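import Groth.Agent.RelPC.PnPush.Gen
import Groth.Agent.RelPC.PnPush.CohDim
import Groth.Agent.KTheory.RegKoszulPush
import Groth.Agent.Misc4.ApproxQcqs
import Groth.Agent.DerivedCoh.PCoh.Perfect
import Groth.Agent.RelPC.QCoh

/-!
Derived direct images of perfect and pseudo-coherent objects along projective space over an arbitrary base.
-/

set_option linter.style.haveILetI false

universe u

open CategoryTheory CategoryTheory.Limits Pretriangulated AlgebraicGeometry
open scoped ZeroObject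

namespace Groth.RelPC.PnPush

attribute [local instance] HasDerivedCategory.standard

variable {X Y : Scheme.{u}}

/-- retracts of perfect objects are perfect -/
theorem isPerfect_retract {K L : DCoh.D X} (r : Retract K L) (hL : DCoh.IsPerfect L) : DCoh.IsPerfect K := by
  obtain ⟨Z, p, δ, hT⟩ := distinguished_cocone_triangle r.i
  haveI : IsSplitMono r.i := IsSplitMono.mk' ⟨r.r, r.retract⟩
  have hδ : δ = 0 := by
    haveI : Mono (r.i⟦(1 : ℤ)⟧') := inferInstance
    rw [← cancel_mono (r.i⟦(1 : ℤ)⟧'), zero_comp]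
    exact comp_distTriang_mor_zero₃₁ _ hT
  obtain ⟨e, -, -⟩ := exists_iso_binaryBiproduct_of_distTriang _ hT (show δ = 0 from hδ)
  exact (Groth.DerivedCoh.PCoh.isPerfect_summands K Z (Groth.KTheory.Perf.isPerfect_of_iso e hL)).1

/-- the objects with perfect derived direct image -/
def PushPerf (f : X ⟶ Y) [DCoh.HasRpush f] : ObjectProperty (DCoh.D X) :=
  fun K => DCoh.IsPerfect ((DCoh.Rpush f).obj K)

instance pushPerf_iso (f : X ⟶ Y) [DCoh.HasRpush f] : (PushPerf f).IsClosedUnderIsomorphisms :=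
  ⟨fun e h => Groth.KTheory.Perf.isPerfect_of_iso ((DCoh.Rpush f).mapIso e) h⟩

instance pushPerf_retract (f : X ⟶ Y) [DCoh.HasRpush f] : (PushPerf f).IsStableUnderRetracts :=
  ⟨fun r h => isPerfect_retract (r.map (DCoh.Rpush f)) h⟩

instance pushPerf_triangulated (f : X ⟶ Y) [DCoh.HasRpush f] : (PushPerf f).IsTriangulated where
  toContainsZero := ⟨⟨0, isZero_zero _, Groth.KTheory.Perf.isPerfect_of_isZero
    (Groth.DerivedCoh.PerfPush.isZero_Rpush f (isZero_zero _))⟩⟩
  toIsStableUnderShift := ⟨fun a => ObjectProperty.IsStableUnderShiftBy.mk fun K hK =>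
    Groth.KTheory.Perf.isPerfect_of_iso (nonempty_Rpush_shift f K a).some.symm
      (Groth.KTheory.Perf.isPerfect_shift hK a)⟩
  toIsTriangulatedClosed₂ := ObjectProperty.IsTriangulatedClosed₂.mk' fun T hT h₁ h₃ => by
    obtain ⟨c, hc⟩ := Groth.DerivedCoh.PerfPush.exists_distinguished f T hT
    exact Groth.KTheory.Perf.isPerfect_obj₂ _ hc h₁ h₃

/-- a module without higher direct images -/
theorem nonempty_Rpush_inD_of_acyclic (f : X ⟶ Y) [DCoh.HasRpush f] (M : X.Modules)
    (h : ∀ q : ℕ, IsZero (((Scheme.Modules.pushforward f).rightDerived (q + 1)).obj M)) :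
    Nonempty ((DCoh.Rpush f).obj (DCoh.inD X M) ≅ DCoh.inD Y ((Scheme.Modules.pushforward f).obj M)) := by
  let R := (DCoh.Rpush f).obj (DCoh.inD X M)
  haveI : R.IsGE 0 := Groth.DerivedCoh.PerfPush.isGE_Rpush f _ 0
  haveI : R.IsLE 0 := (DerivedCategory.isLE_iff _ _).2 fun i hi => by
    obtain ⟨q, rfl⟩ : ∃ q : ℕ, i = ((q + 1 : ℕ) : ℤ) := ⟨(i - 1).toNat, by omega⟩
    exact (h q).of_iso (Groth.DerivedCoh.PerfPush.nonempty_hd_single f M 0 _ (q + 1) (by omega)).some
  obtain ⟨Z, ⟨e⟩⟩ := DerivedCategory.exists_iso_singleFunctor_obj_of_isGE_of_isLE R 0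
  haveI : PreservesFiniteLimits (Scheme.Modules.pushforward f) :=
    haveI := (Scheme.Modules.pullbackPushforwardAdjunction f).rightAdjoint_preservesLimits
    inferInstance
  exact ⟨e ≪≫ (DerivedCategory.singleFunctor Y.Modules 0).mapIso
    (((DerivedCategory.singleFunctorCompHomologyFunctorIso _ 0).app Z).symm ≪≫
      (DerivedCategory.homologyFunctor _ 0).mapIso e.symm ≪≫
      (Groth.DerivedCoh.PerfPush.nonempty_hd_single f M 0 0 0 (by omega)).some ≪≫
      (Scheme.Modules.pushforward f).rightDerivedZeroIsoSelf.app M)⟩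

/-- twists `O(d)`, `d ≥ -r`, have perfect direct images -/
theorem pushPerf_twist (r : ℕ) (T : Scheme.{u}) [DCoh.HasRpush (KRR.pr r T)] (d : ℤ) (hd : -(r : ℤ) ≤ d) :
    PushPerf (KRR.pr r T) (DCoh.inD _ (Twist.twistOver r T d)) := by
  obtain ⟨e⟩ := nonempty_G_structure (n := r) (T := T) d
  have hA := (Groth.KTheory.RegKoszul.koszClosed_acyP r T).iso e
    (Groth.KTheory.RegKoszul.acyP_twist r T hd)
  haveI : (Twist.twistOver r T d).IsQuasicoherent := Groth.KTheory.LocFree.isQCoh hA.1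
  haveI : IsProper (KRR.pr r T) := Groth.Variety2.isProper_projSpaceOver_toBase r T
  obtain ⟨i⟩ := nonempty_Rpush_inD_of_acyclic (KRR.pr r T) (Twist.twistOver r T d) fun q => by
    let J := injectiveResolution (Twist.twistOver r T d)
    refine IsZero.of_iso ?_ (J.isoRightDerivedObj (Scheme.Modules.pushforward (KRR.pr r T)) (q + 1))
    exact Groth.CohBase.isZero_homology_pushCx (KRR.pr r T) J (q + 1) fun x => by
      obtain ⟨V, hV, hxV, -⟩ := exists_isAffineOpen_mem_and_subset (x := x) (U := (⊤ : T.Opens)) trivial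
      exact ⟨V, hV, hxV, hA.2 (q + 1) (by omega) V hV⟩
  exact Groth.KTheory.Perf.isPerfect_of_iso i.symm
    (Groth.KTheory.Perf.isPerfect_inD_of_finLocFree (Groth.KTheory.RegKoszul.isFinLocFree_push hA))

/-- the projection of projective space preserves perfect objects -/
theorem isPerfect_Rpush_pn (r : ℕ) (T : Scheme.{u}) [IsAffine T] [DCoh.HasRpush (KRR.pr r T)]
    (P : DCoh.D (KRR.PY r T)) (hP : DCoh.IsPerfect P) : DCoh.IsPerfect ((DCoh.Rpush (KRR.pr r T)).obj P) := by
  haveI : IsProper (KRR.pr r T) := Groth.Variety2.isProper_projSpaceOver_toBase r T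
  haveI : CompactSpace (KRR.PY r T) := QuasiCompact.compactSpace_of_compactSpace (KRR.pr r T)
  haveI : QuasiSeparatedSpace (KRR.PY r T) := quasiSeparatedSpace_of_quasiSeparated (KRR.pr r T)
  let g := Groth.KTheory.RegKoszul.prZ r T
  haveI : IsAffineHom g := MorphismProperty.pullback_fst (P := @IsAffineHom) _ _ inferInstance
  exact prop_of_perfect_tw r g (PushPerf (KRR.pr r T)) (-(r : ℤ))
    (fun d h₁ _ => pushPerf_twist r T d h₁) P hP

/-- the projection of projective space over an affine base preserves pseudo-coherence -/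
theorem pcD_Rpush_pn_affine (r : ℕ) (T : Scheme.{u}) [IsAffine T] [DCoh.HasRpush (KRR.pr r T)]
    (E : DCoh.D (KRR.PY r T)) (hE : ∀ m : ℤ, DCoh.IsPseudoCoherentD m E) (m : ℤ) :
    DCoh.IsPseudoCoherentD m ((DCoh.Rpush (KRR.pr r T)).obj E) := by
  haveI : IsProper (KRR.pr r T) := Groth.Variety2.isProper_projSpaceOver_toBase r T
  haveI : CompactSpace (KRR.PY r T) := QuasiCompact.compactSpace_of_compactSpace (KRR.pr r T)
  haveI : QuasiSeparatedSpace (KRR.PY r T) := quasiSeparatedSpace_of_quasiSeparated (KRR.pr r T)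
  have hq : DCoh.IsQCohD E := fun i => Groth.RelPC.isQCoh_hd_of_pcD (hE (i - 1)) (by omega)
  obtain ⟨ρ, hρ⟩ := Groth.Misc4.ApproxQcqs.holds (KRR.PY r T) Set.univ isClosed_univ (by simp)
  let k : ℤ := m - (r : ℤ) - 1
  obtain ⟨P, α, hP, -, hiso, hepi⟩ := hρ k E hq (hE _) fun i _ => Set.subset_univ _
  obtain ⟨C, β, γ, hT⟩ := distinguished_cocone_triangle α
  have hCq : DCoh.IsQCohD C := Groth.Misc4.QCohDPerf.isQCohD_obj₂ _ (rot_of_distTriang _ hT) hq
    (Groth.Misc4.QCohDPerf.isQCohD_shift (Groth.Misc4.Thomason.isQCohD_of_isPerfect hP) 1)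
  haveI : C.IsLE k := (DerivedCategory.isLE_iff _ _).2 fun i hi => by
    haveI : IsIso ((DerivedCategory.homologyFunctor (KRR.PY r T).Modules i).map (Triangle.mk α β γ).mor₁) :=
      hiso i (by omega)
    haveI : IsIso ((DerivedCategory.homologyFunctor (KRR.PY r T).Modules (i + 1)).map (Triangle.mk α β γ).mor₁) :=
      hiso (i + 1) (by omega)
    refine (DerivedCategory.HomologySequence.exact₃ _ hT i (i + 1) rfl).isZero_X₂ ?_ ?_
    · exact (DerivedCategory.HomologySequence.epi_homologyMap_mor₁_iff _ hT i).1 inferInstance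
    · exact (DerivedCategory.HomologySequence.mono_homologyMap_mor₁_iff _ hT i (i + 1) rfl).1 inferInstance
  haveI hle : ((DCoh.Rpush (KRR.pr r T)).obj C).IsLE (m - 1) := by
    have := isLE_Rpush_affine T r C hCq k
    rw [show k + (r : ℤ) = m - 1 by omega] at this
    exact this
  obtain ⟨c, hc⟩ := Groth.DerivedCoh.PerfPush.exists_distinguished (KRR.pr r T) _ hT
  have hnear : Groth.DerivedCoh.PCoh.Near m ((DCoh.Rpush (KRR.pr r T)).map α) :=
    Groth.DerivedCoh.PCoh.near_of_below _ hc fun i hi =>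
      DerivedCategory.isZero_of_isLE ((DCoh.Rpush (KRR.pr r T)).obj C) (m - 1) i (by omega)
  refine (Groth.DerivedCoh.PCoh.isPseudoCoherentD_iff m _).2 fun x => ?_
  obtain ⟨V, hx, F, a, hF, ha⟩ := (Groth.DerivedCoh.PCoh.isPseudoCoherentD_iff m _).1
    (Groth.DerivedCoh.PCoh.isPseudoCoherentD_of_isPerfect (isPerfect_Rpush_pn r T P hP) m) x
  exact ⟨V, hx, F, _, hF, ha.comp (Groth.DerivedCoh.PCoh.near_rd V.ι hnear)⟩

end Groth.RelPC.PnPush
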