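import Groth.Agent.RelPC.PnPush.TensorShuffle
import Groth.Agent.RelPC.PnPush.ProjCrit
import Groth.Agent.RelPC.PnPush.Proj
import Groth.Agent.Misc4.ProjClosed
import Groth.Agent.Misc4.QcqsExtend
import Groth.Agent.Misc4.QCohRpushD
import Groth.Agent.Misc4.QCohDTensor
import Groth.Agent.Misc15.ProjPts
import Groth.Agent.FlatStrata.ProjSpace
import Groth.Agent.S6217
import Groth.Agent.S6214
import Groth.Agent.Misc13.ProjFactor
import Groth.Agent.KTheory.PerfAffine

/-!
Pseudo-coherence relative to an affine base from the direct images of tensor products with perfect objects.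
-/

set_option linter.style.haveILetI false

universe u

open CategoryTheory CategoryTheory.Limits AlgebraicGeometry HomologicalComplex
open Groth.DerivedCoh.KFlat (T IsKFlat tot pullCx pushCx)
open Groth.KTheory.Perf (Rd Rc rdQIso exists_rep)
open scoped ZeroObject

namespace Groth.RelPC.PnPush

attribute [local instance] HasDerivedCategory.standard

local notation "up" => ComplexShape.up ℤ

/-- `O_U` is perfect on a scheme smooth over `X` in which `U ⊆ X` is closed -/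
theorem isPerfect_push_unit {X W : Scheme.{u}} (U : X.Opens) (γ : (U : Scheme.{u}) ⟶ W) [IsClosedImmersion γ]
    (g : W ⟶ X) [Smooth g] (hg : γ ≫ g = U.ι) :
    DCoh.IsPerfect (DCoh.toD W (((Scheme.Modules.pushforward γ).mapHomologicalComplex up).obj
      (DerSch.unitCx (U : Scheme.{u})))) := by
  refine (Groth.Agent.S6217.result γ g _).1 ?_
  rw [hg]
  obtain ⟨h₁, h₂⟩ := (Groth.Agent.S6214.result U.ι).2 ⟨inferInstance, inferInstance⟩
  exact ⟨h₁, fun x => ⟨⊤, _, _, trivial, fun x' _ => h₂ x'⟩⟩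

/-- the projection and the map to projective space, with its properties -/
theorem exists_projMap {A : Type u} [CommRing A] {X : Scheme.{u}} (π : X ⟶ Spec (CommRingCat.of A)) (n : ℕ) :
    ∃ qm : KRR.PY n X ⟶ CohB1.ProjSpace n A,
      IsPullback qm (KRR.pr n X) (CohB1.ProjSpace.toSpec n A) π := by
  let ι := Groth.PnCoh.overIso n A
  refine ⟨FGA.projMap n π ≫ ι.inv, IsPullback.of_iso (Groth.FlatStrata.isPullback_projMap n π)
    (Iso.refl _) ι.symm (Iso.refl _) (Iso.refl _) ?_ ?_ ?_ ?_⟩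
  · simp
  · simp
  · show KRR.pr n (Spec (CommRingCat.of A)) ≫ 𝟙 _ = ι.inv ≫ CohB1.ProjSpace.toSpec n A
    rw [Category.comp_id, ← Groth.PnCoh.overIso_hom_toBase n A, Iso.inv_hom_id_assoc]
  · simp

/-- the chart `A^n ⟶ P^n` -/
theorem exists_affineChart (A : Type u) [CommRing A] (n : ℕ) :
    ∃ j : Spec (CommRingCat.of (MvPolynomial (Fin n) A)) ⟶ CohB1.ProjSpace n A,
      IsOpenImmersion j ∧
        j ≫ CohB1.ProjSpace.toSpec n A = Spec.map (CommRingCat.ofHom MvPolynomial.C) := by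
  let ι := Groth.PnCoh.overIso n A
  refine ⟨Groth.Misc15.ProjPts.chart 0 A ≫ ι.inv, inferInstance, ?_⟩
  rw [Category.assoc, ← Groth.PnCoh.overIso_hom_toBase n A, Iso.inv_hom_id_assoc]
  exact Groth.Misc15.ProjPts.chart_toBase 0 A

theorem smooth_affineSpace (A : Type u) [CommRing A] (n : ℕ) :
    Smooth (Spec.map (CommRingCat.ofHom (MvPolynomial.C : A →+* MvPolynomial (Fin n) A))) := by
  rw [HasRingHomProperty.Spec_iff (P := @Smooth)]
  exact RingHom.smooth_algebraMap.2 { formallySmooth := inferInstance, finitePresentation := inferInstance }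

variable {A : Type u} [CommRing A] {X : Scheme.{u}} (π : X ⟶ Spec (CommRingCat.of A))
  [IsSeparated π] [QuasiCompact π] [DCoh.HasRpush π]

/-- the test on one affine open with a chart -/
theorem pcD_pd_chart (P : CochainComplex X.Modules ℤ) (hP : IsKFlat (T X) P)
    (hPq : DCoh.IsQCohD (DCoh.toD X P)) [DCoh.HasLTensorCx P]
    (h : ∀ E : DCoh.D X, DCoh.IsPerfect E → ∀ m : ℤ,
      DCoh.IsPseudoCoherentD m ((DCoh.Rpush π).obj ((DCoh.LTensorCx P).obj E)))
    (n : ℕ) (U : X.Opens)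
    (c : (U : Scheme.{u}) ⟶ Spec (CommRingCat.of (MvPolynomial (Fin n) A))) [IsClosedImmersion c]
    (hc : c ≫ Spec.map (CommRingCat.ofHom MvPolynomial.C) = U.ι ≫ π) (m : ℤ) :
    DCoh.IsPseudoCoherentD m ((Groth.RelPC.Pd c).obj ((Rd U.ι).obj (DCoh.toD X P))) := by
  haveI : CompactSpace X := QuasiCompact.compactSpace_of_compactSpace π
  haveI : QuasiSeparatedSpace X := quasiSeparatedSpace_of_quasiSeparated π
  obtain ⟨qm, hq⟩ := exists_projMap π n
  obtain ⟨j, hjO, hj⟩ := exists_affineChart A n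
  let Y := KRR.PY n X
  let p := KRR.pr n X
  let s := CohB1.ProjSpace.toSpec n A
  haveI : IsProper s := inferInstance
  haveI : IsProper p := Groth.Variety2.isProper_projSpaceOver_toBase n X
  haveI : CompactSpace Y := QuasiCompact.compactSpace_of_compactSpace p
  haveI : QuasiSeparatedSpace Y := quasiSeparatedSpace_of_quasiSeparated p
  haveI : QuasiCompact qm := MorphismProperty.of_isPullback hq.flip inferInstance
  haveI : IsSeparated qm := MorphismProperty.of_isPullback hq.flip inferInstance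
  let O : (CohB1.ProjSpace n A).Opens := j.opensRange
  let W := qm ⁻¹ᵁ O
  let q₀ : (W : Scheme.{u}) ⟶ Spec (CommRingCat.of (MvPolynomial (Fin n) A)) :=
    (qm ∣_ O) ≫ j.isoOpensRange.inv
  have hq₀ : q₀ ≫ j = W.ι ≫ qm := by
    rw [Category.assoc, Scheme.Hom.isoOpensRange_inv_comp, morphismRestrict_ι]
  haveI : IsSeparated (qm ∣_ O) :=
    MorphismProperty.of_isPullback (isPullback_morphismRestrict qm O).flip inferInstance
  haveI : IsSeparated q₀ := inferInstance
  haveI : QuasiCompact (qm ∣_ O) :=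
    MorphismProperty.of_isPullback (isPullback_morphismRestrict qm O).flip inferInstance
  haveI : CompactSpace (W : Scheme.{u}) := QuasiCompact.compactSpace_of_compactSpace q₀
  let γ' : (U : Scheme.{u}) ⟶ Y := hq.lift (c ≫ j) U.ι (by rw [Category.assoc, hj, hc])
  have hγ₁ : γ' ≫ qm = c ≫ j := hq.lift_fst _ _ _
  have hγ₂ : γ' ≫ p = U.ι := hq.lift_snd _ _ _
  let γ : (U : Scheme.{u}) ⟶ W := IsOpenImmersion.lift W.ι γ' (by
    rw [Scheme.Opens.range_ι]
    rintro _ ⟨x, rfl⟩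
    show qm (γ' x) ∈ O
    rw [← Scheme.Hom.comp_apply, hγ₁]
    exact ⟨c x, rfl⟩)
  have hγ : γ ≫ W.ι = γ' := IsOpenImmersion.lift_fac _ _ _
  have hγq : γ ≫ q₀ = c := by
    rw [← cancel_mono j, Category.assoc, hq₀, ← Category.assoc, hγ, hγ₁]
  haveI : IsClosedImmersion (γ ≫ q₀) := hγq ▸ inferInstance
  haveI : IsClosedImmersion γ := IsClosedImmersion.of_comp γ q₀
  haveI : Smooth (W.ι ≫ p) := by
    haveI := smooth_affineSpace A n
    haveI : Smooth (O.ι ≫ s) := by
      rw [show O.ι = j.isoOpensRange.inv ≫ j from (Scheme.Hom.isoOpensRange_inv_comp j).symm,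
        Category.assoc, hj]
      infer_instance
    exact MorphismProperty.of_isPullback ((isPullback_morphismRestrict qm O).flip.paste_horiz hq.flip).flip
      inferInstance
  -- the perfect object on `X ×_A P^n`
  have hP₀ := isPerfect_push_unit U γ (W.ι ≫ p) (by rw [← Category.assoc, hγ, hγ₂])
  haveI : PreservesFiniteLimits (Scheme.Modules.restrictFunctor W.ι) := inferInstance
  obtain ⟨R, -, i, r, hR, -, hir, -⟩ := Groth.Misc4.QcqsExtend.exists_retract (X := Y) W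
    (isCompact_iff_compactSpace.2 ‹CompactSpace (W : Scheme.{u})›) (T := Set.univ) isClosed_univ (by simp)
    (E := (0 : DCoh.D Y)) (fun k => Groth.Misc4.QCohDPerf.isQCoh_isZero
      ((DerivedCategory.homologyFunctor _ k).map_isZero (isZero_zero _)))
    _ hP₀ (fun _ => by simp) 0
  -- the object on `X ×_A P^n`
  let C := (pullCx p).obj P
  have hC : IsKFlat (T Y) C := Groth.DerivedCoh.KFlat.isKFlat_pullCx p P hP
  haveI := Groth.DerivedCoh.KFlat.hasLTensorCx_of_isKFlat C hC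
  haveI := Groth.DerivedCoh.KFlat.hasLpull p
  have hCq : DCoh.IsQCohD (DCoh.toD Y C) := Groth.Misc4.QCohDPerf.isQCohD_of_iso
    (Groth.DerivedCoh.KFlat.lpullQIso p P hP) (Groth.Misc4.QCohDColim.isQCohD_Lpull p hPq)
  let N := (DCoh.LTensorCx C).obj R
  have hNq : DCoh.IsQCohD N :=
    Groth.Misc4.QCohDTensor.isQCohD_LTensorCx C hCq (Groth.KTheory.PerfAffine.isQCohD_of_isPerfect hR)
  haveI : DCoh.HasRpush qm := Groth.Misc4.PushRestrict.hasRightDerived _
  haveI : DCoh.HasRpush p := Groth.Misc4.PushRestrict.hasRightDerived _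
  haveI : DCoh.HasRpush s := Groth.Misc4.PushRestrict.hasRightDerived _
  haveI : DCoh.HasRpush (qm ≫ s) := Groth.Misc4.PushRestrict.hasRightDerived _
  haveI : DCoh.HasRpush (p ≫ π) := Groth.Misc4.PushRestrict.hasRightDerived _
  haveI : CompactSpace (CohB1.ProjSpace n A) := QuasiCompact.compactSpace_of_compactSpace s
  haveI : QuasiSeparatedSpace (CohB1.ProjSpace n A) := quasiSeparatedSpace_of_quasiSeparated s
  let M := (DCoh.Rpush qm).obj N
  have hMq : DCoh.IsQCohD M := Groth.Misc4.QCohRpushD.isQCohD qm N hNq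
  have hM : ∀ m : ℤ, DCoh.IsPseudoCoherentD m M :=
    pcD_of_twPush (twistData n A) M hMq fun k m => by
      let d : ℤ := ((k : ℕ) : ℤ)
      let L := Twist.twistProjSpace n A d
      have hL : PicF.IsInvertible L := (twistData n A).hL k
      let L' := (Scheme.Modules.pullback qm).obj L
      have hL' : PicF.IsInvertible L' := Groth.PicAux.isInvertible_pullback qm hL
      haveI : L.IsQuasicoherent := Groth.Ega2Proj.isQuasicoherent_twist _ _
      let S₀ := (single (CohB1.ProjSpace n A).Modules up 0).obj L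
      let S₁ := (single Y.Modules up 0).obj L'
      have hfl : ∀ {Z : Scheme.{u}} {G : Z.Modules}, PicF.IsInvertible G → FlatMod.IsFlat G := fun hG =>
        Groth.DerivedCoh.PCoh.isFlat_of_isFinLocFree fun x =>
          let ⟨V, hx, e⟩ := LocFree.isInvertible_iff_ofRank_one.mp hG x
          ⟨V, 1, hx, e⟩
      have hS₀ : IsKFlat (T _) S₀ := Groth.Misc4.QCohDColim.isKFlat_single _ (hfl hL) 0
      have hS₁ : IsKFlat (T Y) S₁ := Groth.Misc4.QCohDColim.isKFlat_single _ (hfl hL') 0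
      have hS₀' := Groth.DerivedCoh.KFlat.isKFlat_pullCx qm S₀ hS₀
      haveI := Groth.DerivedCoh.KFlat.hasLTensorCx_of_isKFlat S₀ hS₀
      haveI := Groth.DerivedCoh.KFlat.hasLTensorCx_of_isKFlat S₁ hS₁
      haveI := Groth.DerivedCoh.KFlat.hasLTensorCx_of_isKFlat _ hS₀'
      obtain ⟨a⟩ := Groth.Misc4.ProjQCoh.nonempty_projection qm S₀ hS₀
        (Groth.Misc4.QCohDPerf.isQCohD_of_iso ((DerivedCategory.singleFunctorIsoCompQ _ 0).app L)
          (Groth.Misc4.QCohDColim.isQCohD_single L 0)) N hNq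
      obtain ⟨b⟩ := Groth.DerivedCoh.Duality.nonempty_ltcx_congr hS₀' hS₁
        (DerivedCategory.Q.mapIso ((HomologicalComplex.singleMapHomologicalComplex _ up 0).app L))
      obtain ⟨e₀⟩ := nonempty_ltcx_single_twD L hL M
      obtain ⟨e₁⟩ := nonempty_ltcx_single_twD L' hL' N
      obtain ⟨e₂⟩ := nonempty_twD_ltcx L' hL' C hC R
      let Rd' := (twD L' hL').obj R
      have hR' : DCoh.IsPerfect Rd' := by
        refine Groth.DerivedCoh.PerfPush.isPerfect_of_local _ fun x => ?_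
        obtain ⟨V, hx, hV⟩ := exists_rd_twD L' hL' x
        exact ⟨V, hx, Groth.KTheory.Perf.isPerfect_of_iso (hV R).some.symm
          (Groth.DerivedCoh.PCohDescent.isPerfect_rd _ hR)⟩
      obtain ⟨f₁⟩ := Groth.Misc4.ProjQCoh.nonempty_projection p P hP hPq Rd'
        (Groth.KTheory.PerfAffine.isQCohD_of_isPerfect hR')
      obtain ⟨c₁⟩ := Groth.DerivedCoh.KFlat.Rpush_comp_iso qm s
      obtain ⟨c₂⟩ := Groth.DerivedCoh.KFlat.Rpush_comp_iso p π
      obtain ⟨c₃⟩ := nonempty_Rpush_congr hq.w ((twD L' hL').obj N)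
      let t₁ : (DCoh.Rpush s).obj ((twD L hL).obj M) ≅
          (DCoh.Rpush (qm ≫ s)).obj ((twD L' hL').obj N) :=
        (DCoh.Rpush s).mapIso (e₀.symm ≪≫ a ≪≫ (DCoh.Rpush qm).mapIso (b.app N ≪≫ e₁)) ≪≫ c₁.app _
      let t₂ : (DCoh.Rpush (p ≫ π)).obj ((twD L' hL').obj N) ≅
          (DCoh.Rpush π).obj ((DCoh.LTensorCx P).obj ((DCoh.Rpush p).obj Rd')) :=
        (DCoh.Rpush (p ≫ π)).mapIso e₂ ≪≫ (c₂.app _).symm ≪≫ (DCoh.Rpush π).mapIso f₁.symm
      exact Groth.DerivedCoh.PCoh.isPseudoCoherentD_of_iso (t₁ ≪≫ c₃ ≪≫ t₂).symm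
        (h _ (isPerfect_Rpush_pn' n X Rd' hR') m)
  -- restriction to `A^n`
  haveI : DCoh.HasRpush (qm ∣_ O) := Groth.Misc4.PushRestrict.hasRightDerived _
  haveI : DCoh.HasRpush j.isoOpensRange.inv := Groth.Misc4.PushRestrict.hasRightDerived _
  haveI : DCoh.HasRpush j.isoOpensRange.symm.hom := Groth.Misc4.PushRestrict.hasRightDerived _
  haveI : DCoh.HasRpush q₀ := Groth.Misc4.PushRestrict.hasRightDerived _
  haveI : DCoh.HasRpush γ := Groth.Misc4.PushRestrict.hasRightDerived _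
  haveI : DCoh.HasRpush c := Groth.Misc4.PushRestrict.hasRightDerived _
  haveI : DCoh.HasRpush (γ ≫ q₀) := Groth.Misc4.PushRestrict.hasRightDerived _
  obtain ⟨r₁⟩ := Groth.Misc4.PushRestrict.restrictD_Rpush_iso qm O
  obtain ⟨r₂⟩ := Groth.DerivedCoh.KFlat.Rpush_comp_iso (qm ∣_ O) j.isoOpensRange.inv
  have hMO : DCoh.IsPseudoCoherentD m ((DCoh.Rpush q₀).obj ((Rd W.ι).obj N)) :=
    Groth.DerivedCoh.PCoh.isPseudoCoherentD_of_iso
      ((DCoh.Rpush j.isoOpensRange.inv).mapIso (r₁.app N) ≪≫ r₂.app _)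
      (pcD_Rpush_iso j.isoOpensRange.symm (Groth.RelPC.pcD_rd O.ι (hM m)))
  let C₁ := (Rc W.ι).obj C
  have hC₁ : IsKFlat (T (W : Scheme.{u})) C₁ := Groth.DerivedCoh.PCoh.isKFlat_rc W.ι hC
  haveI := Groth.DerivedCoh.KFlat.hasLTensorCx_of_isKFlat C₁ hC₁
  obtain ⟨w⟩ := nonempty_rd_ltcx W C hC R
  let F := DCoh.LTensorCx C₁ ⋙ DCoh.Rpush q₀
  have hF : DCoh.IsPseudoCoherentD m (F.obj ((DCoh.restrictD W.ι).obj R)) :=
    Groth.DerivedCoh.PCoh.isPseudoCoherentD_of_iso ((DCoh.Rpush q₀).mapIso w) hMO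
  have hFP := pcD_of_retract (F.map i) (F.map r) (by rw [← F.map_comp, hir, F.map_id]) hF
  -- identification
  let D := (pullCx γ).obj C₁
  have hD : IsKFlat (T (U : Scheme.{u})) D := Groth.DerivedCoh.KFlat.isKFlat_pullCx γ C₁ hC₁
  haveI := Groth.DerivedCoh.KFlat.hasLTensorCx_of_isKFlat D hD
  obtain ⟨u₁⟩ := Groth.Misc4.ProjClosed.nonempty_rpushIso γ (DerSch.unitCx (U : Scheme.{u}))
  obtain ⟨u₂⟩ := Groth.Misc4.ProjClosed.nonempty_projection γ C₁ hC₁ (DCoh.toD _ (DerSch.unitCx (U : Scheme.{u})))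
  obtain ⟨u₃⟩ := nonempty_ltcx_unit D hD
  let η : Scheme.Modules.pullback p ⋙ Scheme.Modules.restrictFunctor W.ι ⋙ Scheme.Modules.pullback γ ≅
      Scheme.Modules.restrictFunctor U.ι :=
    Functor.isoWhiskerLeft _ (Functor.isoWhiskerRight (Scheme.Modules.restrictFunctorIsoPullback W.ι) _ ≪≫
      Scheme.Modules.pullbackComp γ W.ι ≪≫ Scheme.Modules.pullbackCongr hγ) ≪≫
    Scheme.Modules.pullbackComp γ' p ≪≫ Scheme.Modules.pullbackCongr hγ₂ ≪≫
    (Scheme.Modules.restrictFunctorIsoPullback U.ι).symm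
  let u₄ : D ≅ (Rc U.ι).obj P :=
    HomologicalComplex.Hom.isoOfComponents (fun k => η.app (P.X k))
      (fun k l _ => (η.hom.naturality (P.d k l)).symm)
  obtain ⟨v⟩ := Groth.DerivedCoh.KFlat.Rpush_comp_iso γ q₀
  obtain ⟨v'⟩ := nonempty_Rpush_congr hγq ((Rd U.ι).obj (DCoh.toD X P))
  obtain ⟨v''⟩ := nonempty_Rpush_Pd c ((Rd U.ι).obj (DCoh.toD X P))
  let z₁ : F.obj (DCoh.toD (W : Scheme.{u})
      (((Scheme.Modules.pushforward γ).mapHomologicalComplex up).obj (DerSch.unitCx (U : Scheme.{u})))) ≅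
      (DCoh.Rpush q₀).obj ((DCoh.Rpush γ).obj (DCoh.toD _ D)) :=
    (DCoh.Rpush q₀).mapIso ((DCoh.LTensorCx C₁).mapIso u₁.symm ≪≫ u₂ ≪≫ (DCoh.Rpush γ).mapIso u₃)
  let z₂ : (DCoh.Rpush q₀).obj ((DCoh.Rpush γ).obj (DCoh.toD _ D)) ≅
      (DCoh.Rpush (γ ≫ q₀)).obj ((Rd U.ι).obj (DCoh.toD X P)) :=
    (DCoh.Rpush q₀).mapIso ((DCoh.Rpush γ).mapIso (DerivedCategory.Q.mapIso u₄ ≪≫ (rdQIso U.ι P).symm)) ≪≫
      v.app _
  exact Groth.DerivedCoh.PCoh.isPseudoCoherentD_of_iso (z₁ ≪≫ z₂ ≪≫ v' ≪≫ v'') hFP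

end Groth.RelPC.PnPush
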