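import Groth.Agent.RelPC.PnPush.RelPCTest
import Groth.Agent.RelPC.PnPush.KPerfPn
import Groth.Agent.KTheory.PerfAffine

/-!
Relative perfection over an affine base from the direct images of tensor products with perfect objects.
-/

set_option linter.style.haveILetI false

universe u

open CategoryTheory CategoryTheory.Limits Pretriangulated AlgebraicGeometry HomologicalComplex
open Groth.DerivedCoh.KFlat (T IsKFlat tot pullCx pushCx)
open Groth.KTheory.Perf (Rd Rc rdQIso exists_rep)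
open scoped ZeroObject

namespace Groth.RelPC.PnPush

attribute [local instance] HasDerivedCategory.standard

local notation "up" => ComplexShape.up ℤ

/-- direct images along isomorphisms preserve perfect objects -/
theorem isPerfect_Rpush_iso {X Y : Scheme.{u}} (e : X ≅ Y) [DCoh.HasRpush e.hom] {E : DCoh.D X}
    (hE : DCoh.IsPerfect E) : DCoh.IsPerfect ((DCoh.Rpush e.hom).obj E) := by
  haveI := Groth.DerivedCoh.KFlat.hasLpull e.hom
  haveI := Groth.DerivedCoh.KFlat.hasLpull e.inv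
  haveI := Groth.DerivedCoh.KFlat.hasLpull (e.hom ≫ e.inv)
  haveI := Groth.DerivedCoh.KFlat.hasLpull (𝟙 X)
  haveI : DCoh.HasRpush (𝟙 X) := Groth.Misc4.PushRestrict.hasRightDerived _
  obtain ⟨c⟩ := Groth.DerivedCoh.KFlat.Lpull_comp_iso e.hom e.inv
  obtain ⟨r⟩ := nonempty_Rpush_id X
  let l : DCoh.Lpull (𝟙 X) ≅ 𝟭 _ :=
    ((Groth.DerivedCoh.PushPull.lpullRpushAdj (𝟙 X)).ofNatIsoRight r).leftAdjointUniq Adjunction.id
  let G := (DCoh.Lpull e.inv).obj E
  let i : (DCoh.Lpull e.hom).obj G ≅ E := c.app E ≪≫ ((eqToIso (by congr 1; exact e.hom_inv_id) : DCoh.Lpull (e.hom ≫ e.inv) ≅ DCoh.Lpull (𝟙 X)).app E) ≪≫ l.app E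
  obtain ⟨s⟩ := nonempty_Rpush_Lpull_iso e G
  exact Groth.KTheory.Perf.isPerfect_of_iso (s.symm ≪≫ (DCoh.Rpush e.hom).mapIso i)
    (Groth.DerivedCoh.PCoh.isPerfect_Lpull e.inv hE)

/-- an object with quasi-coherent cohomology all whose pushed forward twists are perfect is perfect -/
theorem isPerfect_of_phiObj (r : ℕ) (S : Scheme.{u}) [DCoh.HasRpush (KRR.pr r S)]
    (E : DCoh.D (KRR.PY r S)) (hq : DCoh.IsQCohD E)
    (h : ∀ j : ℕ, j ≤ r → DCoh.IsPerfect (phiObj r S j E)) : DCoh.IsPerfect E := by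
  haveI := Groth.DerivedCoh.KFlat.hasLpull (KRR.pr r S)
  let f := KRR.pr r S
  let adj := Groth.DerivedCoh.PushPull.lpullRpushAdj f
  suffices key : ∀ (n : ℕ) (E : DCoh.D (KRR.PY r S)), n ≤ r + 1 → DCoh.IsQCohD E →
      (∀ j : ℕ, j ≤ r → DCoh.IsPerfect (phiObj r S j E)) →
      (∀ j : ℕ, n ≤ j → j ≤ r → IsZero (phiObj r S j E)) → DCoh.IsPerfect E from
    key (r + 1) E le_rfl hq h fun j h₁ h₂ => absurd h₁ (by omega)
  intro n
  induction n with
  | zero =>
    intro E _ hq _ hz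
    exact Groth.KTheory.Perf.isPerfect_of_isZero
      (isZero_of_Rpush_twists r S E hq fun i hi => hz i (Nat.zero_le i) hi)
  | succ n ih =>
    intro E hn hq hp hz
    let R := DCoh.Rpush f
    let L := DCoh.Lpull f
    let B := phiObj r S n E
    have hB : DCoh.IsPerfect B := hp n (by omega)
    let M := (tD r S (-(n : ℤ))).obj E
    let A := (tD r S n).obj (L.obj B)
    have hA : DCoh.IsPerfect A := isPerfect_tD r S n (Groth.DerivedCoh.PCoh.isPerfect_Lpull f hB)
    obtain ⟨η⟩ := nonempty_tD_tD r S n (-(n : ℤ)) (by omega)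
    haveI := isEquivalence_twD (Twist.twistOver r S (-(n : ℤ))) (Groth.KTheory.RegSheaf.isInvertible_twistOver r S (-(n : ℤ)))
    let β : (tD r S (-(n : ℤ))).obj A ⟶ M := η.hom.app (L.obj B) ≫ adj.counit.app M
    let α : A ⟶ E := (tD r S (-(n : ℤ))).preimage β
    obtain ⟨E', a, b, hT⟩ := distinguished_cocone_triangle α
    have hq' : DCoh.IsQCohD E' := Groth.Misc4.QCohDPerf.isQCohD_obj₂ _ (rot_of_distTriang _ hT) hq
      (Groth.Misc4.QCohDPerf.isQCohD_shift (Groth.KTheory.PerfAffine.isQCohD_of_isPerfect hA) 1)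
    have hp' : ∀ j : ℕ, j ≤ r → DCoh.IsPerfect (phiObj r S j E') := fun j hj => by
      obtain ⟨c, hc⟩ := exists_phi_triangle r S j _ hT
      exact Groth.KTheory.Perf.isPerfect_obj₃ _ hc (isPerfect_phiObj r S j hA) (hp j hj)
    refine Groth.KTheory.Perf.isPerfect_obj₂ _ hT hA (ih E' (by omega) hq' hp' fun j h₁ h₂ => ?_)
    obtain ⟨c, hc⟩ := exists_phi_triangle r S j _ hT
    rcases eq_or_lt_of_le h₁ with rfl | hlt
    · refine (Triangle.isZero₃_iff_isIso₁ _ hc).2 ?_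
      obtain ⟨e⟩ := nonempty_phiObj_pull r S n B hB
      refine isIso_of_isSplitEpi (isPerfect_phiObj r S n hA) hB _
        (adj.unit.app B ≫ R.map (η.inv.app (L.obj B))) ?_ e.symm
      show (adj.unit.app B ≫ R.map (η.inv.app (L.obj B))) ≫ R.map ((tD r S (-(n : ℤ))).map α) = _
      rw [show (tD r S (-(n : ℤ))).map α = β from Functor.map_preimage _ _, Category.assoc, ← R.map_comp,
        Iso.inv_hom_id_app_assoc]
      exact adj.right_triangle_components M
    · exact Triangle.isZero₃_of_isZero₁₂ _ hc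
        (isZero_phiObj_pull r S n j (by omega) (by omega) B hB) (hz j hlt h₂)

variable {A : Type u} [CommRing A] {X : Scheme.{u}} (π : X ⟶ Spec (CommRingCat.of A))
  [IsSeparated π] [QuasiCompact π] [DCoh.HasRpush π]

/-- the test on one affine open with a chart -/
theorem isPerfect_pd_chart (P : CochainComplex X.Modules ℤ) (hP : IsKFlat (T X) P)
    (hPq : DCoh.IsQCohD (DCoh.toD X P)) [DCoh.HasLTensorCx P]
    (h : ∀ E : DCoh.D X, DCoh.IsPerfect E →
      DCoh.IsPerfect ((DCoh.Rpush π).obj ((DCoh.LTensorCx P).obj E)))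
    (n : ℕ) (U : X.Opens)
    (c : (U : Scheme.{u}) ⟶ Spec (CommRingCat.of (MvPolynomial (Fin n) A))) [IsClosedImmersion c]
    (hc : c ≫ Spec.map (CommRingCat.ofHom MvPolynomial.C) = U.ι ≫ π) :
    DCoh.IsPerfect ((Groth.RelPC.Pd c).obj ((Rd U.ι).obj (DCoh.toD X P))) := by
  haveI : CompactSpace X := QuasiCompact.compactSpace_of_compactSpace π
  haveI : QuasiSeparatedSpace X := quasiSeparatedSpace_of_quasiSeparated π
  let qm := FGA.projMap n π
  have hq : IsPullback qm (KRR.pr n X) (KRR.pr n (Spec (CommRingCat.of A))) π := Groth.FlatStrata.isPullback_projMap n π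
  let j := Groth.Misc15.ProjPts.chart (n := n) 0 A
  have hj : j ≫ KRR.pr n (Spec (CommRingCat.of A)) = Spec.map (CommRingCat.ofHom MvPolynomial.C) :=
    Groth.Misc15.ProjPts.chart_toBase 0 A
  let Y := KRR.PY n X
  let p := KRR.pr n X
  let s := KRR.pr n (Spec (CommRingCat.of A))
  haveI : IsProper s := Groth.Variety2.isProper_projSpaceOver_toBase n _
  haveI : IsProper p := Groth.Variety2.isProper_projSpaceOver_toBase n X
  haveI : CompactSpace Y := QuasiCompact.compactSpace_of_compactSpace p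
  haveI : QuasiSeparatedSpace Y := quasiSeparatedSpace_of_quasiSeparated p
  haveI : QuasiCompact qm := MorphismProperty.of_isPullback hq.flip inferInstance
  haveI : IsSeparated qm := MorphismProperty.of_isPullback hq.flip inferInstance
  let O : (KRR.PY n (Spec (CommRingCat.of A))).Opens := j.opensRange
  let W := qm ⁻¹ᵁ O
  let q₀ : (W : Scheme.{u}) ⟶ Spec (CommRingCat.of (MvPolynomial (Fin n) A)) :=
    (qm ∣_ O) ≫ j.isoOpensRange.inv
  have hq₀ : q₀ ≫ j = W.ι ≫ qm := by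
    rw [Category.assoc, Scheme.Hom.isoOpensRange_inv_comp, morphismRestrict_ι]
  haveI : IsSeparated (qm ∣_ O) :=
    MorphismProperty.of_isPullback (isPullback_morphismRestrict qm O).flip inferInstance
  haveI : IsSeparated q₀ := inferInstance
  haveI : QuasiCompact (qm ∣_ O) :=
    MorphismProperty.of_isPullback (isPullback_morphismRestrict qm O).flip inferInstance
  haveI : CompactSpace (W : Scheme.{u}) := QuasiCompact.compactSpace_of_compactSpace q₀
  let γ' : (U : Scheme.{u}) ⟶ Y := hq.lift (c ≫ j) U.ι (by rw [Category.assoc, hj, hc])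
  have hγ₁ : γ' ≫ qm = c ≫ j := hq.lift_fst _ _ _
  have hγ₂ : γ' ≫ p = U.ι := hq.lift_snd _ _ _
  let γ : (U : Scheme.{u}) ⟶ W := IsOpenImmersion.lift W.ι γ' (by
    rw [Scheme.Opens.range_ι]
    rintro _ ⟨x, rfl⟩
    show qm (γ' x) ∈ O
    rw [← Scheme.Hom.comp_apply, hγ₁]
    exact ⟨c x, rfl⟩)
  have hγ : γ ≫ W.ι = γ' := IsOpenImmersion.lift_fac _ _ _
  have hγq : γ ≫ q₀ = c := by
    rw [← cancel_mono j, Category.assoc, hq₀, ← Category.assoc, hγ, hγ₁]
  haveI : IsClosedImmersion (γ ≫ q₀) := hγq ▸ inferInstance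
  haveI : IsClosedImmersion γ := IsClosedImmersion.of_comp γ q₀
  haveI : Smooth (W.ι ≫ p) := by
    haveI := smooth_affineSpace A n
    haveI : Smooth (O.ι ≫ s) := by
      rw [show O.ι = j.isoOpensRange.inv ≫ j from (Scheme.Hom.isoOpensRange_inv_comp j).symm,
        Category.assoc, hj]
      infer_instance
    exact MorphismProperty.of_isPullback ((isPullback_morphismRestrict qm O).flip.paste_horiz hq.flip).flip
      inferInstance
  -- the perfect object on `X ×_A P^n`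
  have hP₀ := isPerfect_push_unit U γ (W.ι ≫ p) (by rw [← Category.assoc, hγ, hγ₂])
  haveI : PreservesFiniteLimits (Scheme.Modules.restrictFunctor W.ι) := inferInstance
  obtain ⟨R, -, i, r, hR, -, hir, -⟩ := Groth.Misc4.QcqsExtend.exists_retract (X := Y) W
    (isCompact_iff_compactSpace.2 ‹CompactSpace (W : Scheme.{u})›) (T := Set.univ) isClosed_univ (by simp)
    (E := (0 : DCoh.D Y)) (fun k => Groth.Misc4.QCohDPerf.isQCoh_isZero
      ((DerivedCategory.homologyFunctor _ k).map_isZero (isZero_zero _)))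
    _ hP₀ (fun _ => by simp) 0
  -- the object on `X ×_A P^n`
  let C := (pullCx p).obj P
  have hC : IsKFlat (T Y) C := Groth.DerivedCoh.KFlat.isKFlat_pullCx p P hP
  haveI := Groth.DerivedCoh.KFlat.hasLTensorCx_of_isKFlat C hC
  haveI := Groth.DerivedCoh.KFlat.hasLpull p
  have hCq : DCoh.IsQCohD (DCoh.toD Y C) := Groth.Misc4.QCohDPerf.isQCohD_of_iso
    (Groth.DerivedCoh.KFlat.lpullQIso p P hP) (Groth.Misc4.QCohDColim.isQCohD_Lpull p hPq)
  let N := (DCoh.LTensorCx C).obj R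
  have hNq : DCoh.IsQCohD N :=
    Groth.Misc4.QCohDTensor.isQCohD_LTensorCx C hCq (Groth.KTheory.PerfAffine.isQCohD_of_isPerfect hR)
  haveI : DCoh.HasRpush qm := Groth.Misc4.PushRestrict.hasRightDerived _
  haveI : DCoh.HasRpush p := Groth.Misc4.PushRestrict.hasRightDerived _
  haveI : DCoh.HasRpush s := Groth.Misc4.PushRestrict.hasRightDerived _
  haveI : DCoh.HasRpush (qm ≫ s) := Groth.Misc4.PushRestrict.hasRightDerived _
  haveI : DCoh.HasRpush (p ≫ π) := Groth.Misc4.PushRestrict.hasRightDerived _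
  haveI : CompactSpace (KRR.PY n (Spec (CommRingCat.of A))) := QuasiCompact.compactSpace_of_compactSpace s
  haveI : QuasiSeparatedSpace (KRR.PY n (Spec (CommRingCat.of A))) := quasiSeparatedSpace_of_quasiSeparated s
  let M := (DCoh.Rpush qm).obj N
  have hMq : DCoh.IsQCohD M := Groth.Misc4.QCohRpushD.isQCohD qm N hNq
  have hM : DCoh.IsPerfect M :=
    isPerfect_of_phiObj n (Spec (CommRingCat.of A)) M hMq fun k _ => by
      let L := Twist.twistOver n (Spec (CommRingCat.of A)) (-(k : ℤ))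
      have hL : PicF.IsInvertible L := Groth.KTheory.RegSheaf.isInvertible_twistOver n _ _
      let L' := (Scheme.Modules.pullback qm).obj L
      have hL' : PicF.IsInvertible L' := Groth.PicAux.isInvertible_pullback qm hL
      haveI : L.IsQuasicoherent := Groth.KTheory.LocFree.isQCoh (Groth.KTheory.RegSheaf.isFinLocFree_twistOver n _ _)
      let S₀ := (single (KRR.PY n (Spec (CommRingCat.of A))).Modules up 0).obj L
      let S₁ := (single Y.Modules up 0).obj L'
      have hfl : ∀ {Z : Scheme.{u}} {G : Z.Modules}, PicF.IsInvertible G → FlatMod.IsFlat G := fun hG =>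
        Groth.DerivedCoh.PCoh.isFlat_of_isFinLocFree fun x =>
          let ⟨V, hx, e⟩ := LocFree.isInvertible_iff_ofRank_one.mp hG x
          ⟨V, 1, hx, e⟩
      have hS₀ : IsKFlat (T _) S₀ := Groth.Misc4.QCohDColim.isKFlat_single _ (hfl hL) 0
      have hS₁ : IsKFlat (T Y) S₁ := Groth.Misc4.QCohDColim.isKFlat_single _ (hfl hL') 0
      have hS₀' := Groth.DerivedCoh.KFlat.isKFlat_pullCx qm S₀ hS₀
      haveI := Groth.DerivedCoh.KFlat.hasLTensorCx_of_isKFlat S₀ hS₀
      haveI := Groth.DerivedCoh.KFlat.hasLTensorCx_of_isKFlat S₁ hS₁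
      haveI := Groth.DerivedCoh.KFlat.hasLTensorCx_of_isKFlat _ hS₀'
      obtain ⟨a⟩ := Groth.Misc4.ProjQCoh.nonempty_projection qm S₀ hS₀
        (Groth.Misc4.QCohDPerf.isQCohD_of_iso ((DerivedCategory.singleFunctorIsoCompQ _ 0).app L)
          (Groth.Misc4.QCohDColim.isQCohD_single L 0)) N hNq
      obtain ⟨b⟩ := Groth.DerivedCoh.Duality.nonempty_ltcx_congr hS₀' hS₁
        (DerivedCategory.Q.mapIso ((HomologicalComplex.singleMapHomologicalComplex _ up 0).app L))
      obtain ⟨e₀⟩ := nonempty_ltcx_single_twD L hL M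
      obtain ⟨e₁⟩ := nonempty_ltcx_single_twD L' hL' N
      obtain ⟨e₂⟩ := nonempty_twD_ltcx L' hL' C hC R
      let Rd' := (twD L' hL').obj R
      have hR' : DCoh.IsPerfect Rd' := by
        refine Groth.DerivedCoh.PerfPush.isPerfect_of_local _ fun x => ?_
        obtain ⟨V, hx, hV⟩ := exists_rd_twD L' hL' x
        exact ⟨V, hx, Groth.KTheory.Perf.isPerfect_of_iso (hV R).some.symm
          (Groth.DerivedCoh.PCohDescent.isPerfect_rd _ hR)⟩
      obtain ⟨f₁⟩ := Groth.Misc4.ProjQCoh.nonempty_projection p P hP hPq Rd'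
        (Groth.KTheory.PerfAffine.isQCohD_of_isPerfect hR')
      obtain ⟨c₁⟩ := Groth.DerivedCoh.KFlat.Rpush_comp_iso qm s
      obtain ⟨c₂⟩ := Groth.DerivedCoh.KFlat.Rpush_comp_iso p π
      obtain ⟨c₃⟩ := nonempty_Rpush_congr hq.w ((twD L' hL').obj N)
      let t₁ : (DCoh.Rpush s).obj ((twD L hL).obj M) ≅
          (DCoh.Rpush (qm ≫ s)).obj ((twD L' hL').obj N) :=
        (DCoh.Rpush s).mapIso (e₀.symm ≪≫ a ≪≫ (DCoh.Rpush qm).mapIso (b.app N ≪≫ e₁)) ≪≫ c₁.app _
      let t₂ : (DCoh.Rpush (p ≫ π)).obj ((twD L' hL').obj N) ≅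
          (DCoh.Rpush π).obj ((DCoh.LTensorCx P).obj ((DCoh.Rpush p).obj Rd')) :=
        (DCoh.Rpush (p ≫ π)).mapIso e₂ ≪≫ (c₂.app _).symm ≪≫ (DCoh.Rpush π).mapIso f₁.symm
      exact Groth.KTheory.Perf.isPerfect_of_iso (t₁ ≪≫ c₃ ≪≫ t₂).symm
        (h _ (isPerfect_Rpush_pn' n X Rd' hR'))
  -- restriction to `A^n`
  haveI : DCoh.HasRpush (qm ∣_ O) := Groth.Misc4.PushRestrict.hasRightDerived _
  haveI : DCoh.HasRpush j.isoOpensRange.inv := Groth.Misc4.PushRestrict.hasRightDerived _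
  haveI : DCoh.HasRpush j.isoOpensRange.symm.hom := Groth.Misc4.PushRestrict.hasRightDerived _
  haveI : DCoh.HasRpush q₀ := Groth.Misc4.PushRestrict.hasRightDerived _
  haveI : DCoh.HasRpush γ := Groth.Misc4.PushRestrict.hasRightDerived _
  haveI : DCoh.HasRpush c := Groth.Misc4.PushRestrict.hasRightDerived _
  haveI : DCoh.HasRpush (γ ≫ q₀) := Groth.Misc4.PushRestrict.hasRightDerived _
  obtain ⟨r₁⟩ := Groth.Misc4.PushRestrict.restrictD_Rpush_iso qm O
  obtain ⟨r₂⟩ := Groth.DerivedCoh.KFlat.Rpush_comp_iso (qm ∣_ O) j.isoOpensRange.inv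
  have hMO : DCoh.IsPerfect ((DCoh.Rpush q₀).obj ((Rd W.ι).obj N)) :=
    Groth.KTheory.Perf.isPerfect_of_iso
      ((DCoh.Rpush j.isoOpensRange.inv).mapIso (r₁.app N) ≪≫ r₂.app _)
      (isPerfect_Rpush_iso j.isoOpensRange.symm (Groth.DerivedCoh.PCohDescent.isPerfect_rd O.ι hM))
  let C₁ := (Rc W.ι).obj C
  have hC₁ : IsKFlat (T (W : Scheme.{u})) C₁ := Groth.DerivedCoh.PCoh.isKFlat_rc W.ι hC
  haveI := Groth.DerivedCoh.KFlat.hasLTensorCx_of_isKFlat C₁ hC₁
  obtain ⟨w⟩ := nonempty_rd_ltcx W C hC R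
  let F := DCoh.LTensorCx C₁ ⋙ DCoh.Rpush q₀
  have hF : DCoh.IsPerfect (F.obj ((DCoh.restrictD W.ι).obj R)) :=
    Groth.KTheory.Perf.isPerfect_of_iso ((DCoh.Rpush q₀).mapIso w) hMO
  have hFP := isPerfect_retract (⟨F.map i, F.map r, by rw [← F.map_comp, hir, F.map_id]⟩ : Retract _ _) hF
  -- identification
  let D := (pullCx γ).obj C₁
  have hD : IsKFlat (T (U : Scheme.{u})) D := Groth.DerivedCoh.KFlat.isKFlat_pullCx γ C₁ hC₁
  haveI := Groth.DerivedCoh.KFlat.hasLTensorCx_of_isKFlat D hD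
  obtain ⟨u₁⟩ := Groth.Misc4.ProjClosed.nonempty_rpushIso γ (DerSch.unitCx (U : Scheme.{u}))
  obtain ⟨u₂⟩ := Groth.Misc4.ProjClosed.nonempty_projection γ C₁ hC₁ (DCoh.toD _ (DerSch.unitCx (U : Scheme.{u})))
  obtain ⟨u₃⟩ := nonempty_ltcx_unit D hD
  let η : Scheme.Modules.pullback p ⋙ Scheme.Modules.restrictFunctor W.ι ⋙ Scheme.Modules.pullback γ ≅
      Scheme.Modules.restrictFunctor U.ι :=
    Functor.isoWhiskerLeft _ (Functor.isoWhiskerRight (Scheme.Modules.restrictFunctorIsoPullback W.ι) _ ≪≫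
      Scheme.Modules.pullbackComp γ W.ι ≪≫ Scheme.Modules.pullbackCongr hγ) ≪≫
    Scheme.Modules.pullbackComp γ' p ≪≫ Scheme.Modules.pullbackCongr hγ₂ ≪≫
    (Scheme.Modules.restrictFunctorIsoPullback U.ι).symm
  let u₄ : D ≅ (Rc U.ι).obj P :=
    HomologicalComplex.Hom.isoOfComponents (fun k => η.app (P.X k))
      (fun k l _ => (η.hom.naturality (P.d k l)).symm)
  obtain ⟨v⟩ := Groth.DerivedCoh.KFlat.Rpush_comp_iso γ q₀
  obtain ⟨v'⟩ := nonempty_Rpush_congr hγq ((Rd U.ι).obj (DCoh.toD X P))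
  obtain ⟨v''⟩ := nonempty_Rpush_Pd c ((Rd U.ι).obj (DCoh.toD X P))
  let z₁ : F.obj (DCoh.toD (W : Scheme.{u})
      (((Scheme.Modules.pushforward γ).mapHomologicalComplex up).obj (DerSch.unitCx (U : Scheme.{u})))) ≅
      (DCoh.Rpush q₀).obj ((DCoh.Rpush γ).obj (DCoh.toD _ D)) :=
    (DCoh.Rpush q₀).mapIso ((DCoh.LTensorCx C₁).mapIso u₁.symm ≪≫ u₂ ≪≫ (DCoh.Rpush γ).mapIso u₃)
  let z₂ : (DCoh.Rpush q₀).obj ((DCoh.Rpush γ).obj (DCoh.toD _ D)) ≅
      (DCoh.Rpush (γ ≫ q₀)).obj ((Rd U.ι).obj (DCoh.toD X P)) :=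
    (DCoh.Rpush q₀).mapIso ((DCoh.Rpush γ).mapIso (DerivedCategory.Q.mapIso u₄ ≪≫ (rdQIso U.ι P).symm)) ≪≫
      v.app _
  exact Groth.KTheory.Perf.isPerfect_of_iso (z₁ ≪≫ z₂ ≪≫ v' ≪≫ v'') hFP

end Groth.RelPC.PnPush
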