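import Groth.Agent.RelPC.PnPush.TwistEquiv
import Groth.Agent.RelPC.PnPush.PushPC
import Groth.Agent.KTheory.RegKoszulPush
import Groth.Agent.Misc4.ProjQCoh
import Groth.Agent.Misc4.RHomTensor
import Groth.Agent.DerivedCoh.PerfPush.Amp
import Groth.Agent.KTheory.PerfAffine

/-!
The semi-orthogonality of the twists on projective space: `Rf_*(Lf^*K(d))` is `0` for `-r ≤ d < 0` and `K`
for `d = 0`.
-/

set_option linter.style.haveILetI false

universe u

open CategoryTheory CategoryTheory.Limits AlgebraicGeometry HomologicalComplex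
open Groth.DerivedCoh.KFlat (T IsKFlat tot pullCx)

namespace Groth.RelPC.PnPush

attribute [local instance] HasDerivedCategory.standard

local notation "up" => ComplexShape.up ℤ

variable {X : Scheme.{u}}

theorem nonempty_twD_congr {L L' : X.Modules} (hL : PicF.IsInvertible L) (hL' : PicF.IsInvertible L')
    (e : L ≅ L') (K : DCoh.D X) : Nonempty ((twD L hL).obj K ≅ (twD L' hL').obj K) := by
  obtain ⟨C, ⟨c⟩⟩ := Groth.KTheory.Perf.exists_rep K
  exact ⟨(twD L hL).mapIso c.symm ≪≫ (twDQIso L hL).app C ≪≫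
    DerivedCategory.Q.mapIso ((NatIso.mapHomologicalComplex (Groth.PicAux.twistCongr e) up).app C) ≪≫
    ((twDQIso L' hL').app C).symm ≪≫ (twD L' hL').mapIso c⟩

theorem nonempty_twD_comp {L M : X.Modules} (hL : PicF.IsInvertible L) (hM : PicF.IsInvertible M)
    (h : PicF.IsInvertible (CohB1.tensorMod L M)) (K : DCoh.D X) :
    Nonempty ((twD M hM).obj ((twD L hL).obj K) ≅ (twD _ h).obj K) := by
  obtain ⟨C, ⟨c⟩⟩ := Groth.KTheory.Perf.exists_rep K
  exact ⟨(twD M hM).mapIso ((twD L hL).mapIso c.symm ≪≫ (twDQIso L hL).app C) ≪≫ (twDQIso M hM).app _ ≪≫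
    DerivedCategory.Q.mapIso (HomologicalComplex.Hom.isoOfComponents
      (C₂ := ((DCoh.tensorRightMod (CohB1.tensorMod L M)).mapHomologicalComplex up).obj C)
      (fun i => (Groth.PicAux.twistCompIso L M).app (C.X i))
      (fun i j _ => ((Groth.PicAux.twistCompIso L M).hom.naturality (C.d i j)).symm)) ≪≫
    ((twDQIso _ h).app C).symm ≪≫ (twD _ h).mapIso c⟩

/-- the left tensor with an invertible module is the twist -/
theorem nonempty_tensorBiD (L : X.Modules) (hL : PicF.IsInvertible L)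
    [PreservesFiniteLimits ((DCoh.tensorBi (X := X)).obj L)] [PreservesFiniteColimits ((DCoh.tensorBi (X := X)).obj L)]
    (K : DCoh.D X) :
    Nonempty ((((DCoh.tensorBi (X := X)).obj L).mapDerivedCategory).obj K ≅ (twD L hL).obj K) := by
  obtain ⟨C, ⟨c⟩⟩ := Groth.KTheory.Perf.exists_rep K
  let F := (DCoh.tensorBi (X := X)).obj L
  exact ⟨F.mapDerivedCategory.mapIso c.symm ≪≫ F.mapDerivedCategoryFactors.app C ≪≫
    DerivedCategory.Q.mapIso ((NatIso.mapHomologicalComplex (Groth.Misc4.RHomTensor.tensorModComm L) up).app C) ≪≫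
    ((twDQIso L hL).app C).symm ≪≫ (twD L hL).mapIso c⟩

variable (r : ℕ) (S : Scheme.{u})

/-- twists add up -/
theorem nonempty_twD_twistOver_add (a b c : ℤ) (h : a + b = c) (K : DCoh.D (KRR.PY r S)) :
    Nonempty ((twD (Twist.twistOver r S b) (Groth.KTheory.RegSheaf.isInvertible_twistOver r S b)).obj
      ((twD (Twist.twistOver r S a) (Groth.KTheory.RegSheaf.isInvertible_twistOver r S a)).obj K) ≅
      (twD (Twist.twistOver r S c) (Groth.KTheory.RegSheaf.isInvertible_twistOver r S c)).obj K) := by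
  subst h
  obtain ⟨e⟩ := Groth.KTheory.RegSheaf.nonempty_twistOver_add r S a b
  have hab := Groth.PicAux.isInvertible_tensorMod (Groth.KTheory.RegSheaf.isInvertible_twistOver r S a)
    (Groth.KTheory.RegSheaf.isInvertible_twistOver r S b)
  exact ⟨(nonempty_twD_comp _ _ hab K).some ≪≫ (nonempty_twD_congr hab _ e K).some⟩

variable [DCoh.HasLpull (KRR.pr r S)] [DCoh.HasRpush (KRR.pr r S)]

/-- projection formula for twists: `Rf_*(Lf^*K(d)) = Rf_*O(d) ⊗ K` -/
theorem exists_projection_twist (d : ℤ) (K : DCoh.D S) (hK : DCoh.IsQCohD K) :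
    ∃ (P : CochainComplex S.Modules ℤ) (_ : IsKFlat (T S) P) (_ : DCoh.HasLTensorCx P),
      Nonempty (DCoh.toD S P ≅ K) ∧
      Nonempty ((DCoh.LTensorCx P).obj ((DCoh.Rpush (KRR.pr r S)).obj (DCoh.inD _ (Twist.twistOver r S d))) ≅
        (DCoh.Rpush (KRR.pr r S)).obj ((twD (Twist.twistOver r S d)
          (Groth.KTheory.RegSheaf.isInvertible_twistOver r S d)).obj ((DCoh.Lpull (KRR.pr r S)).obj K))) := by
  haveI : IsProper (KRR.pr r S) := Groth.Variety2.isProper_projSpaceOver_toBase r S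
  obtain ⟨C₀, ⟨c⟩⟩ := Groth.KTheory.Perf.exists_rep K
  let P := (Groth.DerivedCoh.KFlat.flatResolution S).obj C₀
  haveI := Groth.DerivedCoh.KFlat.flatResolution_quasiIso C₀
  let eP : DCoh.toD S P ≅ K :=
    Groth.DerivedCoh.PerfPush.qIso ((Groth.DerivedCoh.KFlat.flatResolutionAug S).app C₀) ≪≫ c
  have hP : IsKFlat (T S) P := Groth.DerivedCoh.KFlat.flatResolution_isKFlat C₀
  have hfP := Groth.DerivedCoh.KFlat.isKFlat_pullCx (KRR.pr r S) P hP
  haveI := Groth.DerivedCoh.KFlat.hasLTensorCx_of_isKFlat P hP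
  haveI := Groth.DerivedCoh.KFlat.hasLTensorCx_of_isKFlat _ hfP
  let O := Twist.twistOver r S d
  have hO := Groth.KTheory.RegSheaf.isInvertible_twistOver r S d
  haveI : O.IsQuasicoherent := Groth.KTheory.LocFree.isQCoh (Groth.KTheory.RegSheaf.isFinLocFree_twistOver r S d)
  obtain ⟨b⟩ := Groth.Misc4.ProjQCoh.nonempty_projection (KRR.pr r S) P hP
    (Groth.Misc4.QCohDPerf.isQCohD_of_iso eP.symm hK) (DCoh.inD _ O) (Groth.Misc4.QCohDColim.isQCohD_single O 0)
  let C := (pullCx (KRR.pr r S)).obj P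
  let a : (DCoh.LTensorCx C).obj (DCoh.inD _ O) ≅ (twD O hO).obj ((DCoh.Lpull (KRR.pr r S)).obj K) :=
    (DCoh.LTensorCx C).mapIso ((DerivedCategory.singleFunctorIsoCompQ _ 0).app O) ≪≫
    Groth.DerivedCoh.KFlat.ltcxIso C hfP _ ≪≫
    DerivedCategory.Q.mapIso (Groth.DerivedCoh.KFlat.totSingleIso (T (KRR.PY r S)) O C ≪≫
      (NatIso.mapHomologicalComplex (Groth.Misc4.RHomTensor.tensorModComm O) up).app C) ≪≫
    ((twDQIso O hO).app C).symm ≪≫
    (twD O hO).mapIso ((Groth.DerivedCoh.KFlat.lpullQIso (KRR.pr r S) P hP).symm ≪≫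
      (DCoh.Lpull (KRR.pr r S)).mapIso eP)
  exact ⟨P, hP, inferInstance, ⟨eP⟩, ⟨b ≪≫ (DCoh.Rpush (KRR.pr r S)).mapIso a⟩⟩

omit [DCoh.HasLpull (KRR.pr r S)] in
theorem nonempty_Rpush_twist (d : ℤ) (hd : -(r : ℤ) ≤ d) :
    Nonempty ((DCoh.Rpush (KRR.pr r S)).obj (DCoh.inD _ (Twist.twistOver r S d)) ≅
      DCoh.inD S ((Scheme.Modules.pushforward (KRR.pr r S)).obj (Twist.twistOver r S d))) := by
  obtain ⟨e⟩ := nonempty_G_structure (n := r) (T := S) d
  have hA := (Groth.KTheory.RegKoszul.koszClosed_acyP r S).iso e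
    (Groth.KTheory.RegKoszul.acyP_twist r S hd)
  haveI : (Twist.twistOver r S d).IsQuasicoherent := Groth.KTheory.LocFree.isQCoh hA.1
  haveI : IsProper (KRR.pr r S) := Groth.Variety2.isProper_projSpaceOver_toBase r S
  refine nonempty_Rpush_inD_of_acyclic (KRR.pr r S) (Twist.twistOver r S d) fun q => ?_
  let J := injectiveResolution (Twist.twistOver r S d)
  refine IsZero.of_iso ?_ (J.isoRightDerivedObj (Scheme.Modules.pushforward (KRR.pr r S)) (q + 1))
  exact Groth.CohBase.isZero_homology_pushCx (KRR.pr r S) J (q + 1) fun x => by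
    obtain ⟨V, hV, hxV, -⟩ := exists_isAffineOpen_mem_and_subset (x := x) (U := (⊤ : S.Opens)) trivial
    exact ⟨V, hV, hxV, hA.2 (q + 1) (by omega) V hV⟩

/-- orthogonality -/
theorem isZero_Rpush_pull_twist (d : ℤ) (h₁ : -(r : ℤ) ≤ d) (h₂ : d < 0) (K : DCoh.D S) (hK : DCoh.IsQCohD K) :
    IsZero ((DCoh.Rpush (KRR.pr r S)).obj ((twD (Twist.twistOver r S d)
      (Groth.KTheory.RegSheaf.isInvertible_twistOver r S d)).obj ((DCoh.Lpull (KRR.pr r S)).obj K))) := by
  obtain ⟨P, hP, hPi, -, ⟨a⟩⟩ := exists_projection_twist r S d K hK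
  obtain ⟨b⟩ := nonempty_Rpush_twist r S d h₁
  obtain ⟨i, hi, hir, rfl⟩ : ∃ i : ℕ, 1 ≤ i ∧ i ≤ r ∧ d = -(i : ℤ) := ⟨(-d).toNat, by omega, by omega, by omega⟩
  have hZ : IsZero ((Scheme.Modules.pushforward (KRR.pr r S)).obj (Twist.twistOver r S (-(i : ℤ)))) :=
    (Groth.KTheory.RegKoszul.isZero_push_twist r S hi hir).of_iso
      ((Scheme.Modules.pushforward (KRR.pr r S)).mapIso ((nonempty_G_structure (n := r) (T := S) _).some.symm ≪≫
        (Groth.KTheory.RegKoszul.nonempty_G_iso_twF _ _).some))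
  refine IsZero.of_iso ?_ a.symm
  refine IsZero.of_iso ?_ ((DCoh.LTensorCx P).mapIso (b ≪≫ (DerivedCategory.singleFunctorIsoCompQ _ 0).app _) ≪≫
    Groth.DerivedCoh.KFlat.ltcxIso P hP _ ≪≫
    DerivedCategory.Q.mapIso (Groth.DerivedCoh.KFlat.totSingleIso (T S) _ P ≪≫
      (NatIso.mapHomologicalComplex (Groth.Misc4.RHomTensor.tensorModComm _) up).app P))
  refine DerivedCategory.Q.map_isZero ?_
  rw [IsZero.iff_id_eq_zero]
  refine HomologicalComplex.hom_ext _ _ fun j => ?_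
  have h := IsZero.of_iso (((T S).map_isZero hZ).obj (P.X j))
    ((Groth.Misc4.RHomTensor.tensorModComm _).app (P.X j)).symm
  exact h.eq_of_src _ _

/-- full faithfulness -/
theorem nonempty_Rpush_pull (K : DCoh.D S) (hK : DCoh.IsQCohD K) :
    Nonempty ((DCoh.Rpush (KRR.pr r S)).obj ((twD (Twist.twistOver r S 0)
      (Groth.KTheory.RegSheaf.isInvertible_twistOver r S 0)).obj ((DCoh.Lpull (KRR.pr r S)).obj K)) ≅ K) := by
  obtain ⟨P, hP, hPi, ⟨eP⟩, ⟨a⟩⟩ := exists_projection_twist r S 0 K hK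
  obtain ⟨b⟩ := nonempty_Rpush_twist r S 0 (by omega)
  obtain ⟨z⟩ := Groth.KTheory.RegSheaf.nonempty_structure_of_idem (Groth.KTheory.RegSheaf.isInvertible_twistOver r S 0)
    (by simpa using Groth.KTheory.RegSheaf.nonempty_twistOver_add r S 0 0)
  obtain ⟨p⟩ := Groth.KTheory.RegKoszul.nonempty_push_structure r S
  exact ⟨a.symm ≪≫ (DCoh.LTensorCx P).mapIso (b ≪≫ (DerivedCategory.singleFunctor _ 0).mapIso
      ((Scheme.Modules.pushforward (KRR.pr r S)).mapIso z ≪≫ p) ≪≫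
      (DerivedCategory.singleFunctorIsoCompQ _ 0).app _) ≪≫
    Groth.DerivedCoh.KFlat.ltcxIso P hP _ ≪≫
    DerivedCategory.Q.mapIso (Groth.DerivedCoh.KFlat.totSingleIso (T S) _ P ≪≫
      (NatIso.mapHomologicalComplex (Groth.Misc4.RHomTensor.tensorModComm _ ≪≫ Groth.PicAux.twistUnitIso) up).app P ≪≫
      (Functor.mapHomologicalComplexIdIso _ up).app P) ≪≫ eP⟩

end Groth.RelPC.PnPush
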