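import Groth.Agent.RelPC.PnPush.TwistEquiv
import Groth.Agent.DerivedCoh.PerfPush.Amp
import Groth.Agent.DerivedCoh.KFlat.TensorAssoc
import Groth.Agent.Misc4.RHomTensor
import Groth.Agent.DerivedCoh.Duality.LocalModel
import Groth.Agent.DerivedCoh.Duality.RestrictTot
import Groth.Agent.S0888

/-!
Small identities between twists, tensor products with complexes and restrictions; retracts of pseudo-coherent
objects.
-/

set_option linter.style.haveILetI false

universe u

open CategoryTheory CategoryTheory.Limits Pretriangulated AlgebraicGeometry HomologicalComplex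
open Groth.DerivedCoh.KFlat (T IsKFlat tot pullCx)
open Groth.KTheory.Perf (Rd Rc rdQIso exists_rep)

namespace Groth.RelPC.PnPush

attribute [local instance] HasDerivedCategory.standard

local notation "up" => ComplexShape.up ℤ

variable {X : Scheme.{u}}

/-- tensoring with an invertible module in degree zero is twisting -/
theorem nonempty_ltcx_single_twD (L : X.Modules) (hL : PicF.IsInvertible L)
    [DCoh.HasLTensorCx ((single X.Modules up 0).obj L)] (E : DCoh.D X) :
    Nonempty ((DCoh.LTensorCx ((single X.Modules up 0).obj L)).obj E ≅ (twD L hL).obj E) := by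
  obtain ⟨C, ⟨e⟩⟩ := exists_rep E
  have hfl : FlatMod.IsFlat L := Groth.DerivedCoh.PCoh.isFlat_of_isFinLocFree fun x =>
    let ⟨U, hx, e⟩ := LocFree.isInvertible_iff_ofRank_one.mp hL x
    ⟨U, 1, hx, e⟩
  let a := (DCoh.LTensorCx ((single X.Modules up 0).obj L)).mapIso e.symm
  let b := Groth.DerivedCoh.KFlat.ltcxIso _ (Groth.Misc4.QCohDColim.isKFlat_single _ hfl 0) C
  let c := DerivedCategory.Q.mapIso (Groth.DerivedCoh.PerfPush.totSingleRight C L)
  let d := ((twDQIso L hL).app C).symm ≪≫ (twD L hL).mapIso e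
  exact ⟨a ≪≫ b ≪≫ c ≪≫ d⟩

/-- the unit of the tensor product -/
theorem nonempty_ltcx_unit (D : CochainComplex X.Modules ℤ) (hD : IsKFlat (T X) D) [DCoh.HasLTensorCx D] :
    Nonempty ((DCoh.LTensorCx D).obj (DCoh.toD X (DerSch.unitCx X)) ≅ DCoh.toD X D) := by
  let a := Groth.DerivedCoh.KFlat.ltcxIso D hD (DerSch.unitCx X)
  let b := Groth.DerivedCoh.KFlat.totSingleIso (T X) (Coh.structureModule X) D
  let c := (NatIso.mapHomologicalComplex
    (Groth.Misc4.RHomTensor.tensorModComm (Coh.structureModule X) ≪≫ Groth.PicAux.twistUnitIso) up).app D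
  let d := (Functor.mapHomologicalComplexIdIso X.Modules up).app D
  exact ⟨a ≪≫ DerivedCategory.Q.mapIso (b ≪≫ c ≪≫ d)⟩

/-- twists pass through derived tensor products -/
theorem nonempty_twD_ltcx (L : X.Modules) (hL : PicF.IsInvertible L) (D : CochainComplex X.Modules ℤ)
    (hD : IsKFlat (T X) D) [DCoh.HasLTensorCx D] (E : DCoh.D X) :
    Nonempty ((twD L hL).obj ((DCoh.LTensorCx D).obj E) ≅ (DCoh.LTensorCx D).obj ((twD L hL).obj E)) := by
  obtain ⟨C, ⟨e⟩⟩ := exists_rep E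
  let S := (single X.Modules up 0).obj L
  let tw : ∀ Y : CochainComplex X.Modules ℤ,
      tot (T X) Y S ≅ ((DCoh.tensorRightMod L).mapHomologicalComplex up).obj Y :=
    fun Y => Groth.DerivedCoh.PerfPush.totSingleRight Y L
  let q : ((DCoh.tensorRightMod L).mapHomologicalComplex up).obj (tot (T X) C D) ≅
      tot (T X) (((DCoh.tensorRightMod L).mapHomologicalComplex up).obj C) D :=
    (tw _).symm ≪≫ Groth.DerivedCoh.KFlat.totAssoc C D S ≪≫
      ((Groth.DerivedCoh.KFlat.totR (T X) C).mapIso (Groth.DerivedCoh.Duality.brIso D S)) ≪≫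
      (Groth.DerivedCoh.KFlat.totAssoc C S D).symm ≪≫
      (Groth.DerivedCoh.KFlat.totL (T X) D).mapIso (tw C)
  let a := (twD L hL).mapIso ((DCoh.LTensorCx D).mapIso e.symm ≪≫ Groth.DerivedCoh.KFlat.ltcxIso D hD C)
  let b := (twDQIso L hL).app (tot (T X) C D)
  let c := DerivedCategory.Q.mapIso q
  let d := (Groth.DerivedCoh.KFlat.ltcxIso D hD (((DCoh.tensorRightMod L).mapHomologicalComplex up).obj C)).symm
  let f := (DCoh.LTensorCx D).mapIso (((twDQIso L hL).app C).symm ≪≫ (twD L hL).mapIso e)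
  exact ⟨a ≪≫ b ≪≫ c ≪≫ d ≪≫ f⟩

/-- restriction of a derived tensor product -/
theorem nonempty_rd_ltcx (V : X.Opens) (D : CochainComplex X.Modules ℤ) (hD : IsKFlat (T X) D)
    [DCoh.HasLTensorCx D] [DCoh.HasLTensorCx ((Rc V.ι).obj D)] (E : DCoh.D X) :
    Nonempty ((Rd V.ι).obj ((DCoh.LTensorCx D).obj E) ≅ (DCoh.LTensorCx ((Rc V.ι).obj D)).obj ((Rd V.ι).obj E)) := by
  obtain ⟨C, ⟨e⟩⟩ := exists_rep E
  let a := (Rd V.ι).mapIso ((DCoh.LTensorCx D).mapIso e.symm ≪≫ Groth.DerivedCoh.KFlat.ltcxIso D hD C) ≪≫ rdQIso V.ι _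
  let b := DerivedCategory.Q.mapIso (Groth.DerivedCoh.Duality.rtTot V.ι C D).symm
  let c := (Groth.DerivedCoh.KFlat.ltcxIso ((Rc V.ι).obj D) (Groth.DerivedCoh.PCoh.isKFlat_rc V.ι hD) ((Rc V.ι).obj C)).symm
  let d := (DCoh.LTensorCx ((Rc V.ι).obj D)).mapIso ((rdQIso V.ι C).symm ≪≫ (Rd V.ι).mapIso e)
  exact ⟨a ≪≫ b ≪≫ c ≪≫ d⟩

/-- retracts of pseudo-coherent objects are pseudo-coherent -/
theorem pcD_of_retract {P A : DCoh.D X} (i : P ⟶ A) (r : A ⟶ P) (h : i ≫ r = 𝟙 P) {m : ℤ}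
    (hA : DCoh.IsPseudoCoherentD m A) : DCoh.IsPseudoCoherentD m P := by
  obtain ⟨C, g, δ, hT⟩ := distinguished_cocone_triangle i
  haveI : IsSplitMono i := ⟨⟨⟨r, h⟩⟩⟩
  have h3 : δ = 0 := by
    have := comp_distTriang_mor_zero₃₁ _ hT
    exact (cancel_mono (i⟦(1 : ℤ)⟧')).1 (this.trans zero_comp.symm)
  obtain ⟨e, -, -⟩ := exists_iso_binaryBiproduct_of_distTriang _ hT h3
  exact (Groth.Agent.S0888.result m P C (Groth.DerivedCoh.PCoh.isPseudoCoherentD_of_iso e hA)).1

end Groth.RelPC.PnPush
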