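import Groth.Agent.RelPC.PnPush.AffineTop
import Groth.Agent.RelPC.PnPush.TwistEquiv
import Groth.Agent.RelPC.PnPush.PushPC
import Groth.Agent.RelPC.ExternalPC
import Groth.Agent.RelPC.Closed
import Groth.Agent.DerivedCoh.ClassGen.Bounds
import Groth.Agent.DerivedCoh.PushPull.Adjunction

/-!
Pseudo-coherence tested by the direct images of finitely many twists.
-/

set_option linter.style.haveILetI false

universe u

open CategoryTheory CategoryTheory.Limits Pretriangulated AlgebraicGeometry Filter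
open scoped ZeroObject

namespace Groth.RelPC.PnPush

attribute [local instance] HasDerivedCategory.standard

local notation "up" => ComplexShape.up ℤ

/-- an affine morphism data: finitely many twists `M i`, with inverses `L i`, generating the perfect objects -/
structure TwistData {X : Scheme.{u}} (R : CommRingCat.{u}) (π : X ⟶ Spec R) (N : ℕ) where
  /-- the twists -/
  M : Fin N → X.Modules
  /-- their inverses -/
  L : Fin N → X.Modules
  hM : ∀ i, FlatMod.IsFinLocFree (M i)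
  hL : ∀ i, PicF.IsInvertible (L i)
  unit : ∀ i, Nonempty ((DCoh.tensorRightMod (L i)).obj (M i) ≅ Coh.structureModule X)
  gen : ∀ (Q : ObjectProperty (DCoh.D X)) [Q.IsTriangulated] [Q.IsClosedUnderIsomorphisms]
    [Q.IsStableUnderRetracts], (∀ i, Q (DCoh.inD X (M i))) → ∀ P, DCoh.IsPerfect P → Q P
  vanish : ∀ [DCoh.HasRpush π] (i j : Fin N) (q : ℤ), 0 < q →
    IsZero (DCoh.HD ((DCoh.Rpush π).obj (DCoh.inD X ((DCoh.tensorRightMod (L i)).obj (M j)))) q)
  pushPC : ∀ [DCoh.HasRpush π] (K : DCoh.D X), (∀ m : ℤ, DCoh.IsPseudoCoherentD m K) →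
    ∀ m : ℤ, DCoh.IsPseudoCoherentD m ((DCoh.Rpush π).obj K)

variable {X : Scheme.{u}} {R : CommRingCat.{u}} {π : X ⟶ Spec R}

/-- pullback of the structure module in one degree -/
theorem nonempty_Lpull_strMod (π : X ⟶ Spec R) [DCoh.HasLpull π] (k : ℤ) :
    Nonempty ((DCoh.Lpull π).obj (strMod (Spec R) k) ≅ strMod X k) := by
  have hfl : FlatMod.IsFlat (Coh.structureModule (Spec R)) :=
    Groth.DerivedCoh.PCoh.isFlat_of_isFinLocFree fun x =>
      let ⟨U, hx, e⟩ := LocFree.isInvertible_iff_ofRank_one.mp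
        (fun y => ⟨⊤, trivial, ⟨Scheme.Modules.restrictUnitIso _⟩⟩ : PicF.IsInvertible (Coh.structureModule (Spec R))) x
      ⟨U, 1, hx, e⟩
  exact ⟨(DCoh.Lpull π).mapIso ((DerivedCategory.singleFunctorIsoCompQ _ k).app _) ≪≫
    Groth.DerivedCoh.KFlat.lpullQIso π _ (Groth.Misc4.QCohDColim.isKFlat_single _ hfl k) ≪≫
    DerivedCategory.Q.mapIso ((HomologicalComplex.singleMapHomologicalComplex _ up k).app _) ≪≫
    ((DerivedCategory.singleFunctorIsoCompQ X.Modules k).app _).symm ≪≫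
    (DerivedCategory.singleFunctor X.Modules k).mapIso (Groth.QCohMod.pullUnitIso π).symm⟩

variable {N : ℕ} (D : TwistData R π N)

/-- no maps from the twist `i` in degrees above `b` -/
def NoMapsAbove (L : DCoh.D X) (b : ℤ) : Prop :=
  ∀ (i : Fin N) (k : ℤ), b < k → ∀ φ : (DerivedCategory.singleFunctor X.Modules k).obj (D.M i) ⟶ L, φ = 0

/-- the twist `i` followed by the direct image -/
noncomputable abbrev twPush [DCoh.HasRpush π] (i : Fin N) : DCoh.D X ⥤ DCoh.D (Spec R) :=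
  twD (D.L i) (D.hL i) ⋙ DCoh.Rpush π

theorem nonempty_twD_M (i : Fin N) (k : ℤ) :
    Nonempty ((twD (D.L i) (D.hL i)).obj ((DerivedCategory.singleFunctor X.Modules k).obj (D.M i)) ≅ strMod X k) :=
  ⟨(nonempty_twD_single (D.L i) (D.hL i) (D.M i) k).some ≪≫
    (DerivedCategory.singleFunctor X.Modules k).mapIso (D.unit i).some⟩

variable [CompactSpace X] [QuasiSeparatedSpace X] [DCoh.HasRpush π]

theorem noMapsAbove_of_isLE {L : DCoh.D X} (hL : DCoh.IsQCohD L) (b : ℤ)
    (h : ∀ i, ((twPush D i).obj L).IsLE b) : NoMapsAbove D L b := by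
  intro i k hk φ
  haveI := Groth.DerivedCoh.KFlat.hasLpull π
  haveI : QuasiCompact π := HasAffineProperty.iff_of_isAffine.2 ‹CompactSpace X›
  haveI : QuasiSeparated π := HasAffineProperty.iff_of_isAffine.2 ‹QuasiSeparatedSpace X›
  haveI := isEquivalence_twD (D.L i) (D.hL i)
  haveI := h i
  let adj := Groth.DerivedCoh.PushPull.lpullRpushAdj π
  obtain ⟨u⟩ := nonempty_twD_M D i k
  obtain ⟨v⟩ := nonempty_Lpull_strMod π k
  refine (twD (D.L i) (D.hL i)).map_injective ?_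
  rw [Functor.map_zero, ← cancel_epi (v.hom ≫ u.inv), comp_zero]
  refine (adj.homEquiv _ _).injective ?_
  have hz : ∀ ψ : strMod (Spec R) k ⟶ (twPush D i).obj L, ψ = 0 :=
    @eq_zero_of_isLE_affine R _ (Groth.Misc4.QCohRpushD.isQCohD π _ (isQCohD_twD _ _ hL)) b k (h i) hk
  rw [hz (adj.homEquiv _ _ _), hz (adj.homEquiv _ _ _)]

omit [CompactSpace X] [QuasiSeparatedSpace X] [DCoh.HasRpush π] in
theorem homVan_M {L : DCoh.D X} {b : ℤ} (h : NoMapsAbove D L b) (i : Fin N) (n : ℤ) (hn : n < -b)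
    (φ : (DCoh.inD X (D.M i))⟦n⟧ ⟶ L) : φ = 0 := by
  let e := (SingleFunctors.shiftIso (DerivedCategory.singleFunctors X.Modules) n (-n) 0 (by omega)).app (D.M i)
  rw [← cancel_epi e.inv, comp_zero]
  exact h i (-n) (by omega) _

omit [DCoh.HasRpush π] in
/-- the twists detect upper bounds -/
theorem exists_bound : ∃ t : ℤ, ∀ L : DCoh.D X, DCoh.IsQCohD L → NoMapsAbove D L 0 → L.IsLE t := by
  classical
  by_contra hcon
  push Not at hcon
  choose Y hYq hY hYb using fun j : ULift.{u} ℕ => hcon (j.down : ℤ)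
  haveI : HasCoproducts.{u} (DCoh.D X) := Groth.DerivedCoh.KInjRes.hasCoproducts
  let E : DCoh.D X := ∐ Y
  have hE : DCoh.IsQCohD E := Groth.Misc4.QCohDSum.isQCohD_sigma X Y hYq
  have hl := Groth.DerivedCoh.ClassGen.good_atBot.{u}
  haveI := Groth.DerivedCoh.ClassGen.homVan_isTriangulated hl.trans E
  haveI := Groth.DerivedCoh.ClassGen.homVan_isClosedUnderIso (l := atBot) E
  haveI := Groth.DerivedCoh.ClassGen.homVan_retracts (l := atBot) E
  have hall : ∀ P, DCoh.IsPerfect P → Groth.DerivedCoh.ClassGen.HomVan atBot E P :=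
    D.gen _ fun i => eventually_atBot.2 ⟨-1, fun n hn φ => by
      obtain ⟨x, rfl⟩ := (Groth.Misc4.PerfectCompactQCoh.bijective _ (Groth.KTheory.Perf.isPerfect_shift
        (Groth.KTheory.Perf.isPerfect_inD_of_finLocFree (D.hM i)) n) Y hYq).2 φ
      rw [show x = 0 from DFinsupp.ext fun j => homVan_M D (hY j) i n (by omega) (x j)]
      exact map_zero _⟩
  obtain ⟨P, hP, -, hdet⟩ := Groth.DerivedCoh.ClassGen.det hl X Set.univ isClosed_univ (fun C _ _ => by simp)
  obtain ⟨b, hb⟩ := (Groth.DerivedCoh.ClassGen.bd_atBot_iff E).1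
    (hdet E hE (fun i => Set.subset_univ _) (hall P hP))
  obtain ⟨j, hj⟩ : ∃ j : ℕ, b ≤ j := ⟨b.toNat, by omega⟩
  refine hYb ⟨j⟩ ((DerivedCategory.isLE_iff _ _).2 fun i hi => ?_)
  let H := DerivedCategory.homologyFunctor X.Modules i
  have hz : IsZero (H.obj E) := hb |> fun h => (DerivedCategory.isLE_iff _ _).1 h i (by
    have : ((⟨j⟩ : ULift.{u} ℕ).down : ℤ) = j := rfl
    omega)
  let r : E ⟶ Y ⟨j⟩ := Sigma.desc fun j' => if h : j' = ⟨j⟩ then eqToHom (congrArg Y h) else 0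
  have hr : Sigma.ι Y ⟨j⟩ ≫ r = 𝟙 _ := by simp [r]
  rw [IsZero.iff_id_eq_zero]
  show 𝟙 (H.obj _) = 0
  rw [← H.map_id, ← hr, H.map_comp, hz.eq_of_tgt (H.map _) 0, zero_comp]

theorem exists_bound_shift : ∃ t : ℤ, ∀ (L : DCoh.D X) (b : ℤ), DCoh.IsQCohD L →
    (∀ i, ((twPush D i).obj L).IsLE b) → L.IsLE (b + t) := by
  obtain ⟨t, ht⟩ := exists_bound D
  refine ⟨t, fun L b hL h => ?_⟩
  have hn := noMapsAbove_of_isLE D hL b h
  have h0 : NoMapsAbove D (L⟦b⟧) 0 := fun i k hk φ => by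
    let e := (SingleFunctors.shiftIso (DerivedCategory.singleFunctors X.Modules) (-b) (k + b) k (by omega)).app (D.M i)
    let c := (shiftFunctorCompIsoId (DCoh.D X) b (-b) (by omega)).app L
    refine (shiftFunctor (DCoh.D X) (-b)).map_injective ?_
    rw [Functor.map_zero, ← cancel_mono c.hom, zero_comp, ← cancel_epi e.inv, comp_zero]
    exact hn i (k + b) (by omega) _
  haveI := ht _ (Groth.Misc4.QCohDPerf.isQCohD_shift hL b) h0
  exact (DerivedCategory.isLE_iff _ _).2 fun i hi => by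
    have e := (DerivedCategory.homologyFunctor X.Modules 0).shiftIso b (i - b) i (by omega)
    exact ((L⟦b⟧).isZero_of_isLE t (i - b) (by omega)).of_iso (e.app L).symm

/-- the direct images of the twists of a perfect object that is good -/
def GoodFor (b : ℤ) (P : DCoh.D X) : Prop :=
  DCoh.IsPerfect P ∧ ∀ i, ((twPush D i).obj P).IsLE b

omit [CompactSpace X] [QuasiSeparatedSpace X] in
theorem isLE_twPush_obj₂ (i : Fin N) (T : Triangle (DCoh.D X)) (hT : T ∈ distTriang _) (b : ℤ)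
    (h₁ : ((twPush D i).obj T.obj₁).IsLE b) (h₃ : ((twPush D i).obj T.obj₃).IsLE b) :
    ((twPush D i).obj T.obj₂).IsLE b := by
  obtain ⟨c, hc⟩ := Groth.DerivedCoh.PerfPush.exists_distinguished π _
    ((twD (D.L i) (D.hL i)).map_distinguished T hT)
  exact (DerivedCategory.isLE_iff _ _).2 fun q hq =>
    (DerivedCategory.HomologySequence.exact₂ _ hc q).isZero_X₂
      ((((twPush D i).obj T.obj₁).isZero_of_isLE b q hq).eq_of_src _ _)
      ((((twPush D i).obj T.obj₃).isZero_of_isLE b q hq).eq_of_tgt _ _)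

omit [CompactSpace X] [QuasiSeparatedSpace X] in
theorem goodFor_single (b : ℤ) (j : Fin N) :
    GoodFor D b ((DerivedCategory.singleFunctor X.Modules b).obj (D.M j)) := by
  refine ⟨Groth.KTheory.Perf.isPerfect_single (Groth.KTheory.Perf.isPerfect_inD_of_finLocFree (D.hM j)) b,
    fun i => (DerivedCategory.isLE_iff _ _).2 fun q hq => ?_⟩
  obtain ⟨u⟩ := nonempty_twD_single (D.L i) (D.hL i) (D.M j) b
  let e := (SingleFunctors.shiftIso (DerivedCategory.singleFunctors X.Modules) (-b) b 0 (by omega)).app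
    ((DCoh.tensorRightMod (D.L i)).obj (D.M j))
  obtain ⟨s⟩ := nonempty_Rpush_shift π (DCoh.inD X ((DCoh.tensorRightMod (D.L i)).obj (D.M j))) (-b)
  let w := ((DerivedCategory.homologyFunctor (Spec R).Modules 0).shiftIso (-b) q (q - b) (by omega)).app
    ((DCoh.Rpush π).obj (DCoh.inD X ((DCoh.tensorRightMod (D.L i)).obj (D.M j))))
  exact (D.vanish i j (q - b) (by omega)).of_iso ((DerivedCategory.homologyFunctor _ q).mapIso
    ((DCoh.Rpush π).mapIso (u ≪≫ e.symm) ≪≫ s) ≪≫ w)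

theorem exists_good_collect {b : ℤ} {C : DCoh.D X} (n : ℕ) (P : Fin n → DCoh.D X)
    (hP : ∀ k, GoodFor D b (P k)) (ψ : ∀ k, P k ⟶ C) :
    ∃ (Q : DCoh.D X) (α : Q ⟶ C), GoodFor D b Q ∧ ∀ k, ∃ q, q ≫ α = ψ k := by
  induction n with
  | zero =>
    refine ⟨0, 0, ⟨Groth.KTheory.Perf.isPerfect_of_isZero (isZero_zero _), fun i =>
      (DerivedCategory.isLE_iff _ _).2 fun q _ => (DerivedCategory.homologyFunctor _ q).map_isZero
        (Groth.DerivedCoh.PerfPush.isZero_Rpush π ((twD (D.L i) (D.hL i)).map_isZero (isZero_zero _)))⟩,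
      fun k => k.elim0⟩
  | succ n ih =>
    obtain ⟨Q, α, hQ, hq⟩ := ih (fun k => P k.castSucc) (fun k => hP _) (fun k => ψ _)
    refine ⟨Q ⊞ P (Fin.last n), biprod.desc α (ψ (Fin.last n)),
      ⟨Groth.KTheory.Perf.isPerfect_obj₂ _ (binaryBiproductTriangle_distinguished _ _) hQ.1 (hP _).1,
        fun i => isLE_twPush_obj₂ D i _ (binaryBiproductTriangle_distinguished Q (P (Fin.last n))) b
          (hQ.2 i) ((hP _).2 i)⟩, fun k => ?_⟩
    refine Fin.lastCases ?_ (fun k' => ?_) k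
    · exact ⟨biprod.inr, biprod.inr_desc _ _⟩
    · obtain ⟨q, hq'⟩ := hq k'
      exact ⟨q ≫ biprod.inl, by rw [Category.assoc, biprod.inl_desc, hq']⟩

/-- the invariant of the descending construction -/
def Inv (b : ℤ) (C : DCoh.D X) : Prop :=
  DCoh.IsQCohD C ∧ ∀ i, (∀ m : ℤ, DCoh.IsPseudoCoherentD m ((twPush D i).obj C)) ∧ ((twPush D i).obj C).IsLE b

theorem exists_step {b : ℤ} {C : DCoh.D X} (hC : Inv D b C) :
    ∃ T : Triangle (DCoh.D X), T ∈ distTriang _ ∧ T.obj₂ = C ∧ DCoh.IsPerfect T.obj₁ ∧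
      Inv D (b - 1) T.obj₃ := by
  haveI := Groth.DerivedCoh.KFlat.hasLpull π
  haveI : QuasiCompact π := HasAffineProperty.iff_of_isAffine.2 ‹CompactSpace X›
  haveI : QuasiSeparated π := HasAffineProperty.iff_of_isAffine.2 ‹QuasiSeparatedSpace X›
  let adj := Groth.DerivedCoh.PushPull.lpullRpushAdj π
  have key : ∀ i, ∃ (k : ℕ) (ψ : Fin k → ((DerivedCategory.singleFunctor X.Modules b).obj (D.M i) ⟶ C)),
      ∀ (P : DCoh.D X) (α : P ⟶ C), (∀ j, ∃ q, q ≫ α = ψ j) →
        Epi ((DerivedCategory.homologyFunctor _ b).map ((twPush D i).map α)) := by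
    intro i
    haveI := isEquivalence_twD (D.L i) (D.hL i)
    haveI := (hC.2 i).2
    obtain ⟨k, s, hs⟩ := exists_gen_top R ((twPush D i).obj C)
      (Groth.Misc4.QCohRpushD.isQCohD π _ (isQCohD_twD _ _ hC.1)) (hC.2 i).1 b
    obtain ⟨u⟩ := nonempty_twD_M D i b
    obtain ⟨v⟩ := nonempty_Lpull_strMod π b
    choose ψ hψ using fun j => (twD (D.L i) (D.hL i)).map_surjective
      (u.hom ≫ v.inv ≫ (adj.homEquiv _ _).symm (s j))
    refine ⟨k, ψ, fun P α hα => hs _ _ fun j => ?_⟩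
    obtain ⟨q, hq⟩ := hα j
    refine ⟨adj.homEquiv _ _ (v.hom ≫ u.inv ≫ (twD (D.L i) (D.hL i)).map q), ?_⟩
    show _ ≫ (DCoh.Rpush π).map ((twD (D.L i) (D.hL i)).map α) = _
    rw [← adj.homEquiv_naturality_right]
    refine ((adj.homEquiv _ _).eq_symm_apply).1 ?_
    rw [Category.assoc, Category.assoc, ← Functor.map_comp, hq, hψ j, Iso.inv_hom_id_assoc,
      Iso.hom_inv_id_assoc]
  choose k ψ hψ using key
  let J := Σ i : Fin N, Fin (k i)
  let e : Fin (Fintype.card J) ≃ J := (Fintype.equivFin J).symm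
  obtain ⟨Q, α, hQ, hq⟩ := exists_good_collect D (b := b) (C := C) (Fintype.card J)
    (fun j => (DerivedCategory.singleFunctor X.Modules b).obj (D.M (e j).1))
    (fun j => goodFor_single D b _) (fun j => ψ (e j).1 (e j).2)
  have hepi : ∀ i, Epi ((DerivedCategory.homologyFunctor _ b).map ((twPush D i).map α)) := fun i =>
    hψ i Q α fun j => by
      obtain ⟨x, hx⟩ : ∃ x, e x = ⟨i, j⟩ := e.surjective _
      have h := hq x
      rw [hx] at h
      exact h
  obtain ⟨C', β, γ, hT⟩ := distinguished_cocone_triangle α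
  refine ⟨Triangle.mk α β γ, hT, rfl, hQ.1, ?_, fun i => ?_⟩
  · exact Groth.Misc4.QCohDPerf.isQCohD_obj₂ _ (rot_of_distTriang _ hT) hC.1
      (Groth.Misc4.QCohDPerf.isQCohD_shift (Groth.Misc4.Thomason.isQCohD_of_isPerfect hQ.1) 1)
  obtain ⟨c, hc⟩ := Groth.DerivedCoh.PerfPush.exists_distinguished π _
    ((twD (D.L i) (D.hL i)).map_distinguished _ hT)
  refine ⟨fun m => Groth.DerivedCoh.PCoh.isPseudoCoherentD_obj₃ _ hc
    (D.pushPC _ (fun m' => pcD_twD _ _ (Groth.DerivedCoh.PCoh.isPseudoCoherentD_of_isPerfect hQ.1 m')) (m + 1))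
    ((hC.2 i).1 m), (DerivedCategory.isLE_iff _ _).2 fun q hq' => ?_⟩
  haveI := (hC.2 i).2
  haveI := hQ.2 i
  refine (DerivedCategory.HomologySequence.exact₃ _ hc q (q + 1) rfl).isZero_X₂ ?_ ?_
  · refine (DerivedCategory.HomologySequence.epi_homologyMap_mor₁_iff _ hc q).1 ?_
    rcases eq_or_lt_of_le (show b ≤ q by omega) with rfl | hlt
    · exact hepi i
    · exact ⟨fun _ _ _ => (((twPush D i).obj C).isZero_of_isLE b q hlt).eq_of_src _ _⟩
  · exact ((((twPush D i).obj Q)).isZero_of_isLE b (q + 1) (by omega)).eq_of_tgt _ _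

/-- pseudo-coherence follows from that of the direct images of the twists -/
theorem pcD_of_twPush (K : DCoh.D X) (hK : DCoh.IsQCohD K)
    (h : ∀ i, ∀ m : ℤ, DCoh.IsPseudoCoherentD m ((twPush D i).obj K)) (m : ℤ) :
    DCoh.IsPseudoCoherentD m K := by
  obtain ⟨t, ht⟩ := exists_bound_shift D
  have key : ∀ (j : ℕ) (C : DCoh.D X), Inv D (m - 1 - t + j) C → DCoh.IsPseudoCoherentD m C := by
    intro j
    induction j with
    | zero =>
      intro C hC
      haveI := ht C _ hC.1 fun i => (hC.2 i).2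
      exact Groth.RelPC.pcD_of_below fun i hi => C.isZero_of_isLE (m - 1 - t + (0 : ℕ) + t) i (by omega)
    | succ j ih =>
      intro C hC
      obtain ⟨T, hT, rfl, hP, hC'⟩ := exists_step D hC
      refine Groth.DerivedCoh.PCoh.isPseudoCoherentD_obj₂ T hT
        (Groth.DerivedCoh.PCoh.isPseudoCoherentD_of_isPerfect hP m) (ih _ ?_)
      rwa [show m - 1 - t + (j : ℤ) = m - 1 - t + ((j + 1 : ℕ) : ℤ) - 1 by omega]
  have hbd : ∀ i, ∃ c : ℤ, ((twPush D i).obj K).IsLE c := fun i => by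
    obtain ⟨ρ, hρ⟩ := Groth.Misc4.ApproxQcqs.holds (Spec R) Set.univ isClosed_univ (by simp)
    haveI : QuasiCompact π := HasAffineProperty.iff_of_isAffine.2 ‹CompactSpace X›
    haveI : QuasiSeparated π := HasAffineProperty.iff_of_isAffine.2 ‹QuasiSeparatedSpace X›
    obtain ⟨P, α, hP, -, hiso, -⟩ := hρ 0 _ (Groth.Misc4.QCohRpushD.isQCohD π _ (isQCohD_twD _ _ hK))
      (h i _) fun q _ => Set.subset_univ _
    obtain ⟨-, c, -, hc⟩ := Groth.KTheory.Perf.exists_bounds_of_isPerfect hP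
    refine ⟨max c 0, (DerivedCategory.isLE_iff _ _).2 fun q hq => ?_⟩
    haveI := hiso q (by omega)
    exact (P.isZero_of_isLE c q (by omega)).of_iso (asIso ((DerivedCategory.homologyFunctor _ q).map α)).symm
  choose c hc using hbd
  obtain ⟨B, hB⟩ : ∃ B : ℤ, ∀ i, c i ≤ B := ⟨∑ i, |c i|, fun i =>
    (le_abs_self _).trans (Finset.single_le_sum (fun j _ => abs_nonneg (c j)) (Finset.mem_univ i))⟩
  obtain ⟨j, hj⟩ : ∃ j : ℕ, B ≤ m - 1 - t + j := ⟨(B - (m - 1 - t)).toNat, by omega⟩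
  exact key j K ⟨hK, fun i => ⟨h i, (DerivedCategory.isLE_iff _ _).2 fun q hq =>
    ((twPush D i).obj K).isZero_of_isLE (hX := hc i) (c i) q (by have := hB i; omega)⟩⟩

end Groth.RelPC.PnPush
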