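import Groth.Agent.RelPC.PnPush.SemiOrth
import Groth.Agent.RelPC.PnPush.Gen
import Groth.Agent.RelPC.PnPush.AffineTop
import Groth.Agent.DerivedCoh.PerfPush.FlatProper
import Groth.Agent.DerivedCoh.PushPull.Adjunction

/-!
Twists detect nonzero objects on projective space over any base.
-/

set_option linter.style.haveILetI false

universe u

open CategoryTheory CategoryTheory.Limits AlgebraicGeometry
open Groth.KTheory.Perf (Rd Rc rdQIso exists_rep)

namespace Groth.RelPC.PnPush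

attribute [local instance] HasDerivedCategory.standard

local notation "up" => ComplexShape.up ℤ

theorem isInvertible_structure (X : Scheme.{u}) : PicF.IsInvertible (Coh.structureModule X) :=
  fun _ => ⟨⊤, trivial, ⟨Scheme.Modules.restrictUnitIso _⟩⟩

/-- pullback of the structure module in one degree -/
theorem nonempty_Lpull_strMod' {X Y : Scheme.{u}} (π : X ⟶ Y) [DCoh.HasLpull π] (k : ℤ) :
    Nonempty ((DCoh.Lpull π).obj (strMod Y k) ≅ strMod X k) := by
  have hfl : FlatMod.IsFlat (Coh.structureModule Y) :=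
    Groth.DerivedCoh.PCoh.isFlat_of_isFinLocFree fun x =>
      let ⟨U, hx, e⟩ := LocFree.isInvertible_iff_ofRank_one.mp (isInvertible_structure Y) x
      ⟨U, 1, hx, e⟩
  exact ⟨(DCoh.Lpull π).mapIso ((DerivedCategory.singleFunctorIsoCompQ _ k).app _) ≪≫
    Groth.DerivedCoh.KFlat.lpullQIso π _ (Groth.Misc4.QCohDColim.isKFlat_single _ hfl k) ≪≫
    DerivedCategory.Q.mapIso ((HomologicalComplex.singleMapHomologicalComplex _ up k).app _) ≪≫
    ((DerivedCategory.singleFunctorIsoCompQ X.Modules k).app _).symm ≪≫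
    (DerivedCategory.singleFunctor X.Modules k).mapIso (Groth.QCohMod.pullUnitIso π).symm⟩

/-- twisting commutes with restriction -/
theorem nonempty_rd_twD {X : Scheme.{u}} (V : X.Opens) (L : X.Modules) (hL : PicF.IsInvertible L)
    (hL' : PicF.IsInvertible ((Scheme.Modules.restrictFunctor V.ι).obj L)) (K : DCoh.D X) :
    Nonempty ((Rd V.ι).obj ((twD L hL).obj K) ≅ (twD _ hL').obj ((Rd V.ι).obj K)) := by
  obtain ⟨C, ⟨eC⟩⟩ := exists_rep K
  let a := (Rd V.ι).mapIso ((twD L hL).mapIso eC.symm ≪≫ (twDQIso L hL).app C) ≪≫ rdQIso V.ι _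
  let b := ((twDQIso _ hL').app ((Rc V.ι).obj C)).symm
  let c := HomologicalComplex.Hom.isoOfComponents
      (C₁ := (Rc V.ι).obj (((DCoh.tensorRightMod L).mapHomologicalComplex up).obj C))
      (C₂ := ((DCoh.tensorRightMod ((Scheme.Modules.restrictFunctor V.ι).obj L)).mapHomologicalComplex up).obj ((Rc V.ι).obj C))
      (fun i => ((Groth.DerivedCoh.PerfPush.restrTm V.ι L).app (C.X i)).symm)
      (fun i j _ => ((Groth.DerivedCoh.PerfPush.restrTm V.ι L).inv.naturality (C.d i j)).symm)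
  let d := (twD _ hL').mapIso ((rdQIso V.ι C).symm ≪≫ (Rd V.ι).mapIso eC)
  exact ⟨a ≪≫ DerivedCategory.Q.mapIso c ≪≫ b ≪≫ d⟩

/-- pulled-back twists on an open subscheme -/
theorem nonempty_tw_restrict (r : ℕ) (S : Scheme.{u}) (U : (KRR.PY r S).Opens) (d : ℤ) :
    Nonempty ((Scheme.Modules.restrictFunctor U.ι).obj (Twist.twistOver r S d) ≅
      tw r (U.ι ≫ pullback.fst (CohB1.ProjSpace.toSpec r (ULift.{u} ℤ)) (specULiftZIsTerminal.from S)) d) := by
  let p := pullback.fst (CohB1.ProjSpace.toSpec r (ULift.{u} ℤ)) (specULiftZIsTerminal.from S)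
  let a := (Scheme.Modules.restrictFunctorIsoPullback U.ι).app
    ((Scheme.Modules.pullback p).obj (Twist.twistProjSpace r (ULift.{u} ℤ) d))
  let b := (Scheme.Modules.pullbackComp U.ι p).app (Twist.twistProjSpace r (ULift.{u} ℤ) d)
  exact ⟨a ≪≫ b⟩

/-- inverse twists on an open subscheme -/
theorem nonempty_restrict_inverse (r : ℕ) (S : Scheme.{u}) (U : (KRR.PY r S).Opens) (i : ℤ) :
    Nonempty (CohB1.tensorMod
        (tw r (U.ι ≫ pullback.fst (CohB1.ProjSpace.toSpec r (ULift.{u} ℤ)) (specULiftZIsTerminal.from S)) i)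
        ((Scheme.Modules.restrictFunctor U.ι).obj (Twist.twistOver r S (-i))) ≅ Coh.structureModule U) := by
  obtain ⟨eg⟩ := nonempty_tw_restrict r S U i
  obtain ⟨m⟩ := Groth.KTheory.RegSheaf.nonempty_twistOver_add r S i (-i)
  rw [add_neg_cancel] at m
  obtain ⟨z⟩ := Groth.KTheory.RegSheaf.nonempty_structure_of_idem (Groth.KTheory.RegSheaf.isInvertible_twistOver r S 0)
    (by simpa using Groth.KTheory.RegSheaf.nonempty_twistOver_add r S 0 0)
  let R := Scheme.Modules.restrictFunctor U.ι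
  let a := PicGrp.tensorModIso eg.symm (Iso.refl (R.obj (Twist.twistOver r S (-i))))
  let b := Groth.DerivedCoh.ExtZero.restrTensor U.ι (Twist.twistOver r S i) (Twist.twistOver r S (-i))
  let c := R.mapIso (m ≪≫ z)
  let d : R.obj (Coh.structureModule _) ≅ Coh.structureModule U := Scheme.Modules.restrictUnitIso U.ι
  exact ⟨a ≪≫ b ≪≫ c ≪≫ d⟩

/-- twists detect nonzero objects -/
theorem isZero_of_Rpush_twists (r : ℕ) (S : Scheme.{u}) [DCoh.HasRpush (KRR.pr r S)]
    (E : DCoh.D (KRR.PY r S)) (hE : DCoh.IsQCohD E)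
    (h : ∀ i : ℕ, i ≤ r → IsZero ((DCoh.Rpush (KRR.pr r S)).obj ((twD (Twist.twistOver r S (-(i : ℤ)))
      (Groth.KTheory.RegSheaf.isInvertible_twistOver r S _)).obj E))) : IsZero E := by
  let f := KRR.pr r S
  suffices h0 : ∀ k : ℤ, IsZero (DCoh.HD E k) by
    haveI : E.IsLE (-1) := (DerivedCategory.isLE_iff _ _).2 fun i _ => h0 i
    haveI : E.IsGE 0 := (DerivedCategory.isGE_iff _ _).2 fun i _ => h0 i
    exact (IsZero.iff_id_eq_zero _).2 (DerivedCategory.TStructure.t.zero (𝟙 E) (-1) 0 (by omega))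
  intro k
  refine Groth.KTheory.Perf.isZero_of_local fun x => ?_
  obtain ⟨V, hV, hxV, -⟩ := exists_isAffineOpen_mem_and_subset (show f x ∈ (⊤ : S.Opens) from trivial)
  refine ⟨f ⁻¹ᵁ V, hxV, ?_⟩
  let U := f ⁻¹ᵁ V
  haveI : IsAffine (V : Scheme.{u}) := hV
  haveI : IsProper f := Groth.Variety2.isProper_projSpaceOver_toBase r S
  haveI : IsProper (f ∣_ V) := MorphismProperty.of_isPullback (isPullback_morphismRestrict f V).flip inferInstance
  haveI : CompactSpace U := QuasiCompact.compactSpace_of_compactSpace (f ∣_ V)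
  haveI : QuasiSeparatedSpace U := quasiSeparatedSpace_of_quasiSeparated (f ∣_ V)
  let g : (U : Scheme.{u}) ⟶ CohB1.ProjSpace r (ULift.{u} ℤ) :=
    U.ι ≫ pullback.fst (CohB1.ProjSpace.toSpec r (ULift.{u} ℤ)) (specULiftZIsTerminal.from S)
  haveI : IsAffineHom g := by
    have h : IsPullback g (f ∣_ V) (CohB1.ProjSpace.toSpec r (ULift.{u} ℤ))
        (V.ι ≫ specULiftZIsTerminal.from S) :=
      (isPullback_morphismRestrict f V).flip.paste_horiz (IsPullback.of_hasPullback
        (CohB1.ProjSpace.toSpec r (ULift.{u} ℤ)) (specULiftZIsTerminal.from S))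
    exact MorphismProperty.of_isPullback (P := @IsAffineHom) h.flip inferInstance
  obtain ⟨c⟩ := Groth.KTheory.Perf.nonempty_hdRd U.ι E k
  refine IsZero.of_iso ?_ c.symm
  refine (DerivedCategory.homologyFunctor _ k).map_isZero ?_
  refine isZero_of_orth_window r g 0 ((Rd U.ι).obj E) (Groth.Misc4.QCohDPerf.isQCohD_restrict U.ι hE)
    fun d h₁ h₂ => ?_
  obtain ⟨i, rfl⟩ : ∃ i : ℕ, d = (i : ℤ) := ⟨d.toNat, by omega⟩
  let T := Twist.twistOver r S (-(i : ℤ))
  have hT : PicF.IsInvertible T := Groth.KTheory.RegSheaf.isInvertible_twistOver r S _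
  have hT' : PicF.IsInvertible ((Scheme.Modules.restrictFunctor U.ι).obj T) :=
    Groth.Ega2Proj.isInvertible_restrict U.ι hT
  haveI := isEquivalence_twD _ hT'
  obtain ⟨u⟩ := nonempty_restrict_inverse r S U (i : ℤ)
  haveI := Groth.DerivedCoh.KFlat.hasLpull (f ∣_ V)
  haveI : DCoh.HasRpush (f ∣_ V) := Groth.Misc4.PushRestrict.hasRightDerived _
  let adj := Groth.DerivedCoh.PushPull.lpullRpushAdj (f ∣_ V)
  have hz : IsZero ((DCoh.Rpush (f ∣_ V)).obj ((twD _ hT').obj ((Rd U.ι).obj E))) := by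
    obtain ⟨c⟩ := Groth.Misc4.PushRestrict.restrictD_Rpush_iso f V
    obtain ⟨w⟩ := nonempty_rd_twD U T hT hT' E
    exact ((Rd V.ι).map_isZero (h i (by omega))).of_iso ((c.app _ ≪≫ (DCoh.Rpush (f ∣_ V)).mapIso w).symm)
  intro n φ
  let s := (SingleFunctors.shiftIso (DerivedCategory.singleFunctors (U : Scheme.{u}).Modules) n (-n) 0 (by omega)).app (tw r g (i : ℤ))
  have h0 : s.inv ≫ φ = 0 := by
    obtain ⟨v⟩ := nonempty_twD_single _ hT' (tw r g (i : ℤ)) (-n)
    obtain ⟨p⟩ := nonempty_Lpull_strMod' (f ∣_ V) (-n)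
    let ψ : (DCoh.Lpull (f ∣_ V)).obj (strMod (V : Scheme.{u}) (-n)) ≅
        (twD _ hT').obj ((DerivedCategory.singleFunctor _ (-n)).obj (tw r g (i : ℤ))) :=
      p ≪≫ (v ≪≫ (DerivedCategory.singleFunctor _ (-n)).mapIso u).symm
    refine (twD _ hT').map_injective ?_
    rw [Functor.map_zero, ← cancel_epi ψ.hom, comp_zero]
    exact (adj.homEquiv _ _).injective (hz.eq_of_tgt _ _)
  exact (cancel_epi s.inv).1 (h0.trans comp_zero.symm)

end Groth.RelPC.PnPush
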