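import Groth.Agent.RelPC.PnPush.TwistEquiv
import Groth.Agent.RelPC.Closed
import Groth.Agent.Misc4.ProjClosed

/-!
The projection formula for twists by invertible modules along closed immersions.
-/

set_option linter.style.haveILetI false

universe u

open CategoryTheory CategoryTheory.Limits AlgebraicGeometry

namespace Groth.RelPC.PnPush

attribute [local instance] HasDerivedCategory.standard

local notation "up" => ComplexShape.up ℤ

variable {X P : Scheme.{u}} (i : X ⟶ P) [IsClosedImmersion i]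

/-- termwise projection isomorphism, natural in the module -/
noncomputable def projTwist (L : P.Modules) :
    Scheme.Modules.pushforward i ⋙ DCoh.tensorRightMod L ≅
      DCoh.tensorRightMod ((Scheme.Modules.pullback i).obj L) ⋙ Scheme.Modules.pushforward i :=
  NatIso.ofComponents (fun M => @asIso _ _ _ _ (Groth.Misc4.ProjMap.pR i M L) (Groth.Misc4.ProjClosed.isIso_pR i M L))
    (fun φ => Groth.Misc4.ProjMap.pR_left i φ L)

/-- twisting after a closed immersion is twisting before -/
theorem nonempty_Rpush_twD [DCoh.HasRpush i] (L : P.Modules) (hL : PicF.IsInvertible L)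
    (hL' : PicF.IsInvertible ((Scheme.Modules.pullback i).obj L)) (E : DCoh.D X) :
    Nonempty ((DCoh.Rpush i).obj ((twD _ hL').obj E) ≅ (twD L hL).obj ((DCoh.Rpush i).obj E)) := by
  obtain ⟨F, ⟨e⟩⟩ := Groth.KTheory.Perf.exists_rep E
  let L' := (Scheme.Modules.pullback i).obj L
  obtain ⟨p₁⟩ := Groth.Misc4.ProjClosed.nonempty_rpushIso i F
  obtain ⟨p₂⟩ := Groth.Misc4.ProjClosed.nonempty_rpushIso i (((DCoh.tensorRightMod L').mapHomologicalComplex up).obj F)
  let q : ((DCoh.tensorRightMod L).mapHomologicalComplex up).obj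
        (((Scheme.Modules.pushforward i).mapHomologicalComplex up).obj F) ≅
      ((Scheme.Modules.pushforward i).mapHomologicalComplex up).obj
        (((DCoh.tensorRightMod L').mapHomologicalComplex up).obj F) :=
    HomologicalComplex.Hom.isoOfComponents (fun n => (projTwist i L).app (F.X n))
      (fun n m _ => ((projTwist i L).hom.naturality (F.d n m)).symm)
  exact ⟨(DCoh.Rpush i).mapIso ((twD _ hL').mapIso e.symm ≪≫ (twDQIso _ hL').app F) ≪≫ p₂ ≪≫
    (DerivedCategory.Q.mapIso q).symm ≪≫ ((twDQIso L hL).app _).symm ≪≫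
    (twD L hL).mapIso (p₁.symm ≪≫ (DCoh.Rpush i).mapIso e)⟩

/-- direct images along closed immersions keep lower bounds -/
theorem isGE_Rpush_closed [DCoh.HasRpush i] (E : DCoh.D X) (b : ℤ) [E.IsGE b] :
    ((DCoh.Rpush i).obj E).IsGE b := by
  refine (DerivedCategory.isGE_iff _ _).2 fun q hq => ?_
  obtain ⟨F, ⟨e⟩⟩ := Groth.KTheory.Perf.exists_rep E
  obtain ⟨h⟩ := Groth.RelPC.nonempty_hdPd i E q
  obtain ⟨p₁⟩ := Groth.Misc4.ProjClosed.nonempty_rpushIso i F
  exact (((Scheme.Modules.pushforward i).map_isZero (E.isZero_of_isGE b q hq)).of_iso h).of_iso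
    ((DerivedCategory.homologyFunctor _ q).mapIso ((DCoh.Rpush i).mapIso e.symm ≪≫ p₁ ≪≫
      (Groth.RelPC.pdQIso i F).symm ≪≫ (Groth.RelPC.Pd i).mapIso e))

/-- direct images along closed immersions keep upper bounds -/
theorem isLE_Rpush_closed [DCoh.HasRpush i] (E : DCoh.D X) (a : ℤ) [E.IsLE a] :
    ((DCoh.Rpush i).obj E).IsLE a := by
  refine (DerivedCategory.isLE_iff _ _).2 fun q hq => ?_
  obtain ⟨F, ⟨e⟩⟩ := Groth.KTheory.Perf.exists_rep E
  obtain ⟨h⟩ := Groth.RelPC.nonempty_hdPd i E q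
  obtain ⟨p₁⟩ := Groth.Misc4.ProjClosed.nonempty_rpushIso i F
  exact (((Scheme.Modules.pushforward i).map_isZero (E.isZero_of_isLE a q hq)).of_iso h).of_iso
    ((DerivedCategory.homologyFunctor _ q).mapIso ((DCoh.Rpush i).mapIso e.symm ≪≫ p₁ ≪≫
      (Groth.RelPC.pdQIso i F).symm ≪≫ (Groth.RelPC.Pd i).mapIso e))

end Groth.RelPC.PnPush
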