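import Groth.Agent.RelPC.PnPush.TwistEquiv
import Groth.Agent.RelPC.PnPush.PushPC
import Groth.Agent.RelPC.Closed
import Groth.Agent.DerivedCoh.ResProp.Efface
import Groth.Agent.DerivedCoh.PCoh.TopCohomology
import Groth.Agent.KTheory.RegKoszulBC
import Groth.Agent.PnCoh.TwistQuot
import Groth.Agent.Chow.ToPn

/-!
High twists of pseudo-coherent objects on projective space over an affine base have direct images with
no cohomology above the amplitude.
-/

set_option linter.style.haveILetI false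

universe u

open CategoryTheory CategoryTheory.Limits Pretriangulated AlgebraicGeometry
open scoped ZeroObject

namespace Groth.RelPC.PnPush

attribute [local instance] HasDerivedCategory.standard

variable {X : Scheme.{u}}

/-- upper bounds are invariant under isomorphisms -/
theorem isLE_of_iso' {K L : DCoh.D X} (e : K ≅ L) {a : ℤ} (h : K.IsLE a) : L.IsLE a :=
  (DerivedCategory.isLE_iff _ _).2 fun i hi =>
    (K.isZero_of_isLE a i hi).of_iso ((DerivedCategory.homologyFunctor _ i).mapIso e).symm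

/-- an epimorphism of modules is an epimorphism on top cohomology -/
theorem epi_hd_single {M N : X.Modules} (f : M ⟶ N) (hf : Epi f) :
    Epi ((DerivedCategory.homologyFunctor X.Modules 0).map ((DerivedCategory.singleFunctor X.Modules 0).map f)) := by
  have h := NatIso.naturality_2 (DerivedCategory.singleFunctorCompHomologyFunctorIso X.Modules 0) f
  haveI := hf
  show Epi ((DerivedCategory.singleFunctor X.Modules 0 ⋙ DerivedCategory.homologyFunctor X.Modules 0).map f)
  rw [← h]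
  exact epi_comp' inferInstance (epi_comp' inferInstance inferInstance)

/-- twisting by an invertible module keeps upper bounds -/
theorem isLE_twD (L : X.Modules) (hL : PicF.IsInvertible L) (K : DCoh.D X) (a : ℤ) [K.IsLE a] :
    ((twD L hL).obj K).IsLE a :=
  (DerivedCategory.isLE_iff _ _).2 fun i hi => Groth.KTheory.Perf.isZero_of_local fun x => by
    obtain ⟨V, hx, h⟩ := exists_rd_twD L hL x
    obtain ⟨c⟩ := Groth.KTheory.Perf.nonempty_hdRd V.ι ((twD L hL).obj K) i
    obtain ⟨d⟩ := Groth.KTheory.Perf.nonempty_hdRd V.ι K i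
    exact ⟨V, hx, ((((Scheme.Modules.restrictFunctor V.ι).map_isZero (K.isZero_of_isLE a i hi)).of_iso d).of_iso
      ((DerivedCategory.homologyFunctor _ i).mapIso (h K).some)).of_iso c.symm⟩

section

variable [CompactSpace X] [QuasiSeparatedSpace X]

/-- top cohomology is reached by a bundle in one degree -/
theorem exists_lift_top (hX : PerfAux.HasResolutionProperty X) (C : DCoh.D X) (hq : DCoh.IsQCohD C)
    (c : ℤ) [C.IsGE c] [C.IsLE 0] (hft : CohB1.IsFT (DCoh.HD C 0)) :
    ∃ (E : X.Modules) (ψ : DCoh.inD X E ⟶ C), FlatMod.IsFinLocFree E ∧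
      Epi ((DerivedCategory.homologyFunctor X.Modules 0).map ψ) := by
  obtain ⟨A, B, hA, hB, i, p, δ, hT⟩ := DerivedCategory.TStructure.t.exists_triangle C (-1) 0 (by omega)
  let T := Triangle.mk i p δ
  haveI hA' : A.IsLE (-1) := ⟨hA⟩
  haveI hB' : B.IsGE 0 := ⟨hB⟩
  haveI : B.IsLE 0 := (DerivedCategory.isLE_iff B 0).2 fun q hq' =>
    (DerivedCategory.HomologySequence.exact₃ T hT q (q + 1)).isZero_X₂
      ((DerivedCategory.isZero_of_isLE C 0 q hq').eq_of_src _ _)
      ((DerivedCategory.isZero_of_isLE A (-1) (q + 1) (by omega)).eq_of_tgt _ _)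
  haveI : A.IsGE (min c 0) := (DerivedCategory.isGE_iff A _).2 fun q hq' =>
    (DerivedCategory.HomologySequence.exact₁ T hT (q - 1) q).isZero_X₂
      ((DerivedCategory.isZero_of_isGE B 0 (q - 1) (by omega)).eq_of_src _ _)
      ((DerivedCategory.isZero_of_isGE C c q (by omega)).eq_of_tgt _ _)
  have hAq : DCoh.IsQCohD A := fun q => by
    rcases lt_or_ge q 0 with hlt | hge
    · haveI : IsIso ((DerivedCategory.homologyFunctor X.Modules q).map T.mor₁) := by
        haveI : Mono ((DerivedCategory.homologyFunctor X.Modules q).map T.mor₁) :=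
          (DerivedCategory.HomologySequence.mono_homologyMap_mor₁_iff T hT (q - 1) q).2
            ((DerivedCategory.isZero_of_isGE B 0 (q - 1) (by omega)).eq_of_src _ _)
        haveI : Epi ((DerivedCategory.homologyFunctor X.Modules q).map T.mor₁) :=
          (DerivedCategory.HomologySequence.epi_homologyMap_mor₁_iff T hT q).2
            ((DerivedCategory.isZero_of_isGE B 0 q hlt).eq_of_tgt _ _)
        exact isIso_of_mono_of_epi _
      exact (SheafOfModules.isQuasicoherent (R := X.ringCatSheaf)).prop_of_iso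
        (asIso ((DerivedCategory.homologyFunctor X.Modules q).map T.mor₁)).symm (hq q)
    · exact Groth.Misc4.QCohDPerf.isQCoh_isZero (DerivedCategory.isZero_of_isLE A (-1) q (by omega))
  haveI hiso : IsIso ((DerivedCategory.homologyFunctor X.Modules 0).map T.mor₂) := by
    haveI : Mono ((DerivedCategory.homologyFunctor X.Modules 0).map T.mor₂) :=
      (DerivedCategory.HomologySequence.mono_homologyMap_mor₂_iff T hT 0).2
        ((DerivedCategory.isZero_of_isLE A (-1) 0 (by omega)).eq_of_src _ _)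
    haveI : Epi ((DerivedCategory.homologyFunctor X.Modules 0).map T.mor₂) :=
      (DerivedCategory.HomologySequence.epi_homologyMap_mor₂_iff T hT 0 1).2
        ((DerivedCategory.isZero_of_isLE A (-1) 1 (by omega)).eq_of_tgt _ _)
    exact isIso_of_mono_of_epi _
  obtain ⟨M, ⟨e⟩⟩ := DerivedCategory.exists_iso_singleFunctor_obj_of_isGE_of_isLE B 0
  let eH : DCoh.HD C 0 ≅ M := @asIso _ _ _ _ ((DerivedCategory.homologyFunctor X.Modules 0).map T.mor₂) hiso ≪≫
    (DerivedCategory.homologyFunctor _ 0).mapIso e ≪≫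
      (DerivedCategory.singleFunctorCompHomologyFunctorIso X.Modules 0).app M
  haveI : M.IsQuasicoherent := (SheafOfModules.isQuasicoherent (R := X.ringCatSheaf)).prop_of_iso eH (hq 0)
  haveI : (DCoh.HD C 0).IsQuasicoherent := hq 0
  obtain ⟨E₀, π₀, hE₀, hπ₀⟩ := hX M inferInstance (Groth.DescentBase.QCohFpqc.isFT_of_iso eH hft)
  let φ : DCoh.inD X E₀ ⟶ B := (DerivedCategory.singleFunctor X.Modules 0).map π₀ ≫ e.inv
  haveI : (A⟦(1 : ℤ)⟧).IsLE (-1) := Groth.Misc4.PerfVanishQcqs.isLE_mono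
    (Groth.Misc4.PerfVanishQcqs.isLE_shift hA' 1 (-2) (by omega)) (by omega)
  haveI : (A⟦(1 : ℤ)⟧).IsGE (min c 0 - 1) := DerivedCategory.TStructure.t.isGE_shift A (min c 0) 1 _ (by omega) |>.ge |> fun h => ⟨h⟩
  obtain ⟨E₁, π, hE₁, hπ, h0⟩ := Groth.DerivedCoh.ResProp.killed_below hX hE₀ (-(min c 0 - 1)).toNat (A⟦(1 : ℤ)⟧)
    (min c 0 - 1) (Groth.Misc4.QCohDPerf.isQCohD_shift hAq 1) inferInstance inferInstance (by omega) (φ ≫ δ)
  rw [← Category.assoc] at h0
  obtain ⟨ψ, hψ⟩ := Triangle.coyoneda_exact₃ T hT ((DerivedCategory.singleFunctor X.Modules 0).map π ≫ φ) h0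
  let H := DerivedCategory.homologyFunctor X.Modules 0
  refine ⟨E₁, ψ, hE₁, ?_⟩
  have hepi : Epi (H.map ψ ≫ H.map T.mor₂) := by
    rw [← H.map_comp, ← hψ, H.map_comp]
    refine epi_comp' (epi_hd_single π hπ) ?_
    show Epi (H.map ((DerivedCategory.singleFunctor X.Modules 0).map π₀ ≫ e.inv))
    rw [H.map_comp]
    exact epi_comp' (epi_hd_single π₀ hπ₀) (inferInstance : Epi (H.map e.inv))
  exact (epi_comp_iff_of_isIso (H.map ψ) (H.map T.mor₂)).1 hepi

end

variable (r : ℕ) (Y : Scheme.{u}) [IsAffine Y]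

/-- a finite type quasi-coherent module on `P^r_A` is a quotient of negative twists (any ring `A`) -/
theorem exists_epi_twists_std (A : Type u) [CommRing A] (F : (CohB1.ProjSpace r A).Modules)
    (hF : Coh.IsCoh F) (b : ℤ) :
    ∃ (N : ℕ) (d : Fin N → ℤ) (φ : (∐ fun j : Fin N => Twist.twistProjSpace r A (d j)) ⟶ F),
      (∀ j, d j ≤ b) ∧ Epi φ := by
  classical
  let 𝒢 : Groth.PnCoh.StdFamily (𝒜 := CohB1.polyGrading r A) (Fin (r + 1)) :=
    { e := fun _ => 1
      g := fun i => MvPolynomial.X i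
      pos := fun _ => one_pos
      mem := fun i => Chow.ToPn.X_mem i
      cover := fun x => TopologicalSpace.Opens.mem_iSup.1 ((Proj.iSup_basicOpen_eq_top (CohB1.polyGrading r A)
        (fun i : Fin (r + 1) => (MvPolynomial.X i : MvPolynomial (Fin (r + 1)) A))
        Chow.ToPn.irrelevant_le_span_X).ge trivial) }
  haveI : F.IsQuasicoherent := hF.1
  haveI : SheafOfModules.IsQuasicoherent (R := (Proj (CohB1.polyGrading r A)).ringCatSheaf) F := hF.1
  have hU : ∀ k, IsAffineOpen (Proj.basicOpen (CohB1.polyGrading r A) (𝒢.g k)) := fun k =>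
    Proj.isAffineOpen_basicOpen _ _ (𝒢.mem k) (𝒢.pos k)
  choose S hS using fun k => (Groth.QCohMod.finite_sections F hF.2 (hU k)).fg_top
  let J := (k : Fin (r + 1)) × S k
  choose N₀ hN₀ using fun j : J => Groth.PnCoh.exists_hom_twist 𝒢 F (𝒢.mem j.1) j.2.1
  let N : J → ℕ := fun j => max (N₀ j) b.natAbs
  choose φ t ht using fun j : J => hN₀ j (N j) (le_max_left _ _)
  let e : Fin (Fintype.card J) ≃ J := (Fintype.equivFin J).symm
  refine ⟨_, fun i => -((N (e i) * 𝒢.e (e i).1 : ℕ) : ℤ), Sigma.desc fun i => φ (e i),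
    fun i => ?_, ?_⟩
  · have h1 : b.natAbs ≤ N (e i) * 𝒢.e (e i).1 :=
      (le_max_right _ _).trans (Nat.le_mul_of_pos_right _ (𝒢.pos _))
    show -((N (e i) * 𝒢.e (e i).1 : ℕ) : ℤ) ≤ b
    omega
  · refine Groth.PnCoh.epi_of_affine_cover _ _ hU 𝒢.cover (fun k => (S k : Set _)) hS fun k s hs => ?_
    obtain ⟨i, hi⟩ := e.surjective ⟨k, s, hs⟩
    have key : ∀ j : J, j = e i → ∃ m, (Sigma.desc fun i => φ (e i) : _ ⟶ F).app
        (Proj.basicOpen (CohB1.polyGrading r A) (𝒢.g j.1)) m = j.2.1 := by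
      rintro j rfl
      refine ⟨(Sigma.ι (fun i => Twist.twistProjSpace r A (-((N (e i) * 𝒢.e (e i).1 : ℕ) : ℤ))) i).app _
        (t (e i)), ?_⟩
      have h := Sigma.ι_desc (fun i => φ (e i)) i
      exact Eq.trans (by
        exact congrArg (fun h => (Scheme.Modules.Hom.app h _) (t (e i))) h) (ht (e i))
    exact key ⟨k, s, hs⟩ hi.symm

/-- quotients by negative twists -/
theorem exists_epi_twistOver (F : (KRR.PY r Y).Modules) [F.IsQuasicoherent] (hF : CohB1.IsFT F) (b : ℤ) :
    ∃ (N : ℕ) (d : Fin N → ℤ) (φ : (∐ fun j : Fin N => Twist.twistOver r Y (d j)) ⟶ F),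
      (∀ j, d j ≤ b) ∧ Epi φ := by
  let A := Γ(Y, (⊤ : Y.Opens))
  obtain ⟨ι, hι, hι₁, -, hr⟩ := Groth.KTheory.RegKoszul.exists_chart (n := r) (isAffineOpen_top Y)
  haveI := hι
  haveI : IsIso ι := (isIso_iff_isOpenImmersion_and_surjective ι).2 ⟨hι, ⟨fun x => by
      obtain ⟨y, -, hy⟩ : x ∈ ι ''ᵁ ⊤ := hr.ge trivial
      exact ⟨y, hy⟩⟩⟩
  let G := Scheme.Modules.pullback (inv ι)
  let P := Scheme.Modules.pullback ι
  let c : P ⋙ G ≅ 𝟭 _ := Scheme.Modules.pullbackComp (inv ι) ι ≪≫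
    Scheme.Modules.pullbackCongr (IsIso.inv_hom_id ι) ≪≫ Scheme.Modules.pullbackId _
  obtain ⟨N, d, φ, hd, hφ⟩ := exists_epi_twists_std r A (P.obj F)
    ⟨Groth.QCohMod.isQCoh_pullback_obj ι F, Groth.QCohMod.isFT_pullback ι F hF⟩ b
  haveI : G.IsLeftAdjoint := (Scheme.Modules.pullbackPushforwardAdjunction (inv ι)).isLeftAdjoint
  have et : ∀ j, Nonempty (P.obj (Twist.twistOver r Y (d j)) ≅ Twist.twistProjSpace r A (d j)) := fun j => by
    obtain ⟨e⟩ := @Groth.PnCoh.nonempty_pullback_toBasePn_twist r (ULift.{u} ℤ) A _ _ (Groth.PnCoh.zAlg A) (d j)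
    exact ⟨(Scheme.Modules.pullbackComp ι _).app _ ≪≫ (Scheme.Modules.pullbackCongr hι₁).app _ ≪≫ e⟩
  let e : (∐ fun j : Fin N => Twist.twistOver r Y (d j)) ≅
      G.obj (∐ fun j : Fin N => Twist.twistProjSpace r A (d j)) :=
    (Sigma.mapIso fun j => (c.app _).symm ≪≫ G.mapIso (et j).some) ≪≫ (PreservesCoproduct.iso G _).symm
  haveI : Epi (G.map φ) :=
    @Functor.map_epi _ _ _ _ G (Functor.preservesEpimorphisms_of_adjunction
      (Scheme.Modules.pullbackPushforwardAdjunction (inv ι))) _ _ φ hφ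
  refine ⟨N, d, e.hom ≫ G.map φ ≫ (c.app F).hom, hd, ?_⟩
  exact @epi_comp _ _ _ _ _ e.hom inferInstance (G.map φ ≫ (c.app F).hom)
    (@epi_comp _ _ _ _ _ (G.map φ) this (c.app F).hom inferInstance)

omit [IsAffine Y] in
theorem isFinLocFree_sigma_twistOver {N : ℕ} (d : Fin N → ℤ) :
    FlatMod.IsFinLocFree (∐ fun j : Fin N => Twist.twistOver r Y (d j)) :=
  Groth.DerivedCoh.PCoh.isFinLocFree_sigma_finite _ _ fun _ =>
    Groth.KTheory.RegSheaf.isFinLocFree_twistOver r Y _

/-- projective space over an affine scheme has the resolution property -/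
theorem hasResolutionProperty_pn : PerfAux.HasResolutionProperty (KRR.PY r Y) := fun M hM hft => by
  haveI : M.IsQuasicoherent := hM
  obtain ⟨N, d, φ, -, hφ⟩ := exists_epi_twistOver r Y M hft 0
  exact ⟨_, φ, isFinLocFree_sigma_twistOver r Y d, hφ⟩

variable [DCoh.HasRpush (KRR.pr r Y)]

/-- twist by `n` and push down -/
noncomputable abbrev twistPush (n : ℤ) : DCoh.D (KRR.PY r Y) ⥤ DCoh.D Y :=
  twD (Twist.twistOver r Y n) (Groth.KTheory.RegSheaf.isInvertible_twistOver r Y n) ⋙ DCoh.Rpush (KRR.pr r Y)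

omit [IsAffine Y] in
theorem isLE_twistPush_twist (n d : ℤ) (h : -(r : ℤ) ≤ d + n) :
    ((twistPush r Y n).obj (DCoh.inD _ (Twist.twistOver r Y d))).IsLE 0 := by
  obtain ⟨u⟩ := nonempty_twD_single (Twist.twistOver r Y n)
    (Groth.KTheory.RegSheaf.isInvertible_twistOver r Y n) (Twist.twistOver r Y d) 0
  obtain ⟨a⟩ := Groth.KTheory.RegSheaf.nonempty_twistOver_add r Y d n
  obtain ⟨e⟩ := nonempty_G_structure (n := r) (T := Y) (d + n)
  have hA := (Groth.KTheory.RegKoszul.koszClosed_acyP r Y).iso e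
    (Groth.KTheory.RegKoszul.acyP_twist r Y h)
  haveI : IsProper (KRR.pr r Y) := Groth.Variety2.isProper_projSpaceOver_toBase r Y
  haveI : (Twist.twistOver r Y (d + n)).IsQuasicoherent := Groth.KTheory.LocFree.isQCoh hA.1
  obtain ⟨i⟩ := nonempty_Rpush_inD_of_acyclic (KRR.pr r Y) (Twist.twistOver r Y (d + n)) fun q => by
    let J := injectiveResolution (Twist.twistOver r Y (d + n))
    refine IsZero.of_iso ?_ (J.isoRightDerivedObj (Scheme.Modules.pushforward (KRR.pr r Y)) (q + 1))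
    exact Groth.CohBase.isZero_homology_pushCx (KRR.pr r Y) J (q + 1) fun x => by
      obtain ⟨V, hV, hxV, -⟩ := exists_isAffineOpen_mem_and_subset (x := x) (U := (⊤ : Y.Opens)) trivial
      exact ⟨V, hV, hxV, hA.2 (q + 1) (by omega) V hV⟩
  exact isLE_of_iso' ((DCoh.Rpush (KRR.pr r Y)).mapIso
    (u ≪≫ (DerivedCategory.singleFunctor _ 0).mapIso a) ≪≫ i).symm inferInstance

omit [IsAffine Y] in
theorem isLE_twistPush_sigma {N : ℕ} (d : Fin N → ℤ) (n : ℤ) (h : ∀ j, -(r : ℤ) ≤ d j + n) :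
    ((twistPush r Y n).obj (DCoh.inD _ (∐ fun j : Fin N => Twist.twistOver r Y (d j)))).IsLE 0 := by
  refine Groth.RelPC.prop_sigma_finite
    (fun M => ((twistPush r Y n).obj (DCoh.inD _ M)).IsLE 0) (fun e hM => ?_) (fun M hM => ?_)
    (fun A B hA hB => ?_) _ _ fun j => isLE_twistPush_twist r Y n (d j) (h j)
  · exact isLE_of_iso' ((twistPush r Y n).mapIso ((DerivedCategory.singleFunctor _ 0).mapIso e)) hM
  · exact (DerivedCategory.isLE_iff _ _).2 fun q _ => (DerivedCategory.homologyFunctor _ q).map_isZero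
      (Groth.DerivedCoh.PerfPush.isZero_Rpush _ ((twD _ _).map_isZero
        ((DerivedCategory.singleFunctor _ 0).map_isZero hM)))
  · obtain ⟨c, hc⟩ := Groth.DerivedCoh.PerfPush.exists_distinguished (KRR.pr r Y) _
      ((twD (Twist.twistOver r Y n) (Groth.KTheory.RegSheaf.isInvertible_twistOver r Y n)).map_distinguished _
        (ShortComplex.Splitting.ofHasBinaryBiproduct A B).shortExact.singleTriangle_distinguished)
    exact (DerivedCategory.isLE_iff _ _).2 fun q hq =>
      (DerivedCategory.HomologySequence.exact₂ _ hc q).isZero_X₂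
        ((((twistPush r Y n).obj (DCoh.inD _ A)).isZero_of_isLE 0 q hq).eq_of_src _ _)
        ((((twistPush r Y n).obj (DCoh.inD _ B)).isZero_of_isLE 0 q hq).eq_of_tgt _ _)

omit [IsAffine Y] in
theorem nonempty_twistPush_shift (n k : ℤ) (C : DCoh.D (KRR.PY r Y)) :
    Nonempty ((twistPush r Y n).obj (C⟦k⟧) ≅ ((twistPush r Y n).obj C)⟦k⟧) :=
  ⟨(DCoh.Rpush (KRR.pr r Y)).mapIso (((twD _ _).commShiftIso k).app C) ≪≫
    (nonempty_Rpush_shift _ _ k).some⟩

/-- high twists lose the excess of the cohomological dimension -/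
theorem exists_isLE_twistPush (j : ℕ) : ∀ (C : DCoh.D (KRR.PY r Y)) (c : ℤ),
    (∀ m : ℤ, DCoh.IsPseudoCoherentD m C) → C.IsGE c → C.IsLE 0 →
      ∃ N : ℤ, ∀ n, N ≤ n → ((twistPush r Y n).obj C).IsLE (max ((r : ℤ) - j) 0) := by
  haveI : IsProper (KRR.pr r Y) := Groth.Variety2.isProper_projSpaceOver_toBase r Y
  haveI : CompactSpace (KRR.PY r Y) := QuasiCompact.compactSpace_of_compactSpace (KRR.pr r Y)
  haveI : QuasiSeparatedSpace (KRR.PY r Y) := quasiSeparatedSpace_of_quasiSeparated (KRR.pr r Y)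
  induction j with
  | zero =>
    intro C c hpc hge hle
    have hq : DCoh.IsQCohD C := fun i => Groth.RelPC.isQCoh_hd_of_pcD (hpc (i - 1)) (by omega)
    refine ⟨0, fun n _ => ?_⟩
    haveI := hle
    haveI := isLE_twD (Twist.twistOver r Y n) (Groth.KTheory.RegSheaf.isInvertible_twistOver r Y n) C 0
    have h := isLE_Rpush_affine Y r _ (isQCohD_twD (Twist.twistOver r Y n)
      (Groth.KTheory.RegSheaf.isInvertible_twistOver r Y n) hq) 0
    exact Groth.Misc4.PerfVanishQcqs.isLE_mono h (by omega)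
  | succ j ih =>
    intro C c hpc hge hle
    haveI := hge
    haveI := hle
    have hq : DCoh.IsQCohD C := fun i => Groth.RelPC.isQCoh_hd_of_pcD (hpc (i - 1)) (by omega)
    have hft : CohB1.IsFT (DCoh.HD C 0) :=
      Groth.DerivedCoh.PCoh.isFT_top (hpc 0) fun i hi => C.isZero_of_isLE 0 i hi
    obtain ⟨E, ψ, hE, hψ⟩ := exists_lift_top (hasResolutionProperty_pn r Y) C hq c hft
    haveI : E.IsQuasicoherent := Groth.KTheory.LocFree.isQCoh hE
    obtain ⟨N₀, d, φ, -, hφ⟩ := exists_epi_twistOver r Y E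
      (Groth.PropsBasic.LocFree.isFT_of_isFP _ (Groth.PropsBasic.LocFree.isFP_of_isFinLocFree _ hE)) 0
    let S := ∐ fun i : Fin N₀ => Twist.twistOver r Y (d i)
    let α : DCoh.inD _ S ⟶ C := (DerivedCategory.singleFunctor _ 0).map φ ≫ ψ
    have hα : Epi ((DerivedCategory.homologyFunctor _ 0).map α) := by
      simp only [α, Functor.map_comp]
      exact epi_comp' (epi_hd_single φ hφ) hψ
    obtain ⟨C', β, γ, hT⟩ := distinguished_cocone_triangle α
    have hSp : DCoh.IsPerfect (DCoh.inD _ S) :=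
      Groth.KTheory.Perf.isPerfect_inD_of_finLocFree (isFinLocFree_sigma_twistOver r Y d)
    have hpc' : ∀ m : ℤ, DCoh.IsPseudoCoherentD m C' := fun m =>
      Groth.DerivedCoh.PCoh.isPseudoCoherentD_obj₃ _ hT
        (Groth.DerivedCoh.PCoh.isPseudoCoherentD_of_isPerfect hSp (m + 1)) (hpc m)
    haveI : C'.IsGE (min c (-1)) := (DerivedCategory.isGE_iff C' _).2 fun q hq' =>
      (DerivedCategory.HomologySequence.exact₃ _ hT q (q + 1)).isZero_X₂
        ((C.isZero_of_isGE c q (by omega)).eq_of_src _ _)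
        (((DCoh.inD _ S).isZero_of_isGE 0 (q + 1) (by omega)).eq_of_tgt _ _)
    haveI : C'.IsLE (-1) := (DerivedCategory.isLE_iff C' (-1)).2 fun q hq' => by
      refine (DerivedCategory.HomologySequence.exact₃ _ hT q (q + 1) rfl).isZero_X₂ ?_
        (((DCoh.inD _ S).isZero_of_isLE 0 (q + 1) (by omega)).eq_of_tgt _ _)
      refine (DerivedCategory.HomologySequence.epi_homologyMap_mor₁_iff _ hT q).1 ?_
      rcases eq_or_lt_of_le (show 0 ≤ q by omega) with rfl | hlt
      · exact hα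
      · exact ⟨fun _ _ _ => (C.isZero_of_isLE 0 q hlt).eq_of_src _ _⟩
    haveI : (C'⟦(-1 : ℤ)⟧).IsLE 0 := Groth.Misc4.PerfVanishQcqs.isLE_shift ‹C'.IsLE (-1)› (-1) 0 (by omega)
    haveI : (C'⟦(-1 : ℤ)⟧).IsGE (min c (-1) + 1) :=
      DerivedCategory.TStructure.t.isGE_shift C' (min c (-1)) (-1) _ (by omega) |>.ge |> fun h => ⟨h⟩
    obtain ⟨N, hN⟩ := ih (C'⟦(-1 : ℤ)⟧) (min c (-1) + 1)
      (fun m => Groth.DerivedCoh.PCoh.isPseudoCoherentD_shift (hpc' (m - 1)) (-1) m (by omega))
      inferInstance inferInstance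
    refine ⟨max N (∑ i, |d i|), fun n hn => ?_⟩
    have hS : ((twistPush r Y n).obj (DCoh.inD _ S)).IsLE 0 := isLE_twistPush_sigma r Y d n fun i => by
      have := (neg_le_abs (d i)).trans
        (Finset.single_le_sum (fun i _ => abs_nonneg (d i)) (Finset.mem_univ i) : |d i| ≤ ∑ i, |d i|)
      omega
    obtain ⟨s⟩ := nonempty_twistPush_shift r Y n (-1) C'
    have hC' := hN n (by omega)
    obtain ⟨t, ht⟩ := Groth.DerivedCoh.PerfPush.exists_distinguished (KRR.pr r Y) _
      ((twD (Twist.twistOver r Y n) (Groth.KTheory.RegSheaf.isInvertible_twistOver r Y n)).map_distinguished _ hT)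
    refine (DerivedCategory.isLE_iff _ _).2 fun q hq' => ?_
    refine (DerivedCategory.HomologySequence.exact₂ _ ht q).isZero_X₂
      ((((twistPush r Y n).obj (DCoh.inD _ S)).isZero_of_isLE 0 q (by omega)).eq_of_src _ _) ?_
    refine IsZero.eq_of_tgt ?_ _ _
    let w := ((DerivedCategory.homologyFunctor Y.Modules 0).shiftIso (-1) (q + 1) q (by omega)).app
      ((twistPush r Y n).obj C')
    exact (((twistPush r Y n).obj (C'⟦(-1 : ℤ)⟧)).isZero_of_isLE (hX := hC') _ (q + 1) (by omega)).of_iso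
      ((DerivedCategory.homologyFunctor _ (q + 1)).mapIso s ≪≫ w).symm

end Groth.RelPC.PnPush
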